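import Cfsg.Agent.Classification.SmallOrders.Kit
import Cfsg.Agent.Transfer.Abelian
import Cfsg.Agent.Transfer.Frobenius

/-!
# Tools for the individual orders
-/

set_option autoImplicit false

namespace CfsgLib.Classification.SmallOrders

open CfsgLib.Small
open scoped commutatorElement

variable {G : Type*} [Group G] [Finite G]

theorem fact_prime {p : ℕ} (hp : p.Prime) : Fact p.Prime := ⟨hp⟩

section

variable {p : ℕ} [Fact p.Prime]

/-- Orders of a Sylow normaliser and centraliser for a Sylow subgroup of prime order. -/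
theorem exists_relIndex [IsSimpleGroup G] (hG : ¬ IsMulCommutative G) (P : Sylow p G)
    (hP : Nat.card (P : Subgroup G) = p) :
    ∃ r c, r ∣ p - 1 ∧ r ≠ 1 ∧
      Nat.card (Subgroup.normalizer ((P : Subgroup G) : Set G)) = r * (p * c) ∧
      Nat.card (Subgroup.centralizer ((P : Subgroup G) : Set G)) = p * c := by
  haveI : IsCyclic ↥(P : Subgroup G) := isCyclic_of_prime_card hP
  have hPC : (P : Subgroup G) ≤ Subgroup.centralizer ((P : Subgroup G) : Set G) :=
    Subgroup.le_centralizer (P : Subgroup G)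
  obtain ⟨c, hc⟩ := hP ▸ Subgroup.card_dvd_of_le hPC
  refine ⟨(Subgroup.centralizer ((P : Subgroup G) : Set G)).relIndex
    (Subgroup.normalizer ((P : Subgroup G) : Set G)), c, relIndex_centralizer_dvd_pred hP, ?_, ?_, hc⟩
  · intro h
    exact not_normalizer_le_centralizer hG (hP ▸ Subgroup.card_subgroup_dvd_card _) P
      (Subgroup.relIndex_eq_one.1 h)
  · rw [← hc, mul_comm, Subgroup.relIndex,
      ← Nat.card_congr (Subgroup.subgroupOfEquivOfLe (Subgroup.centralizer_le_normalizer _)).toEquiv]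
    exact (Subgroup.card_mul_index _).symm

/-- The subgroup of a Sylow normaliser lying in an overgroup. -/
theorem card_inf_normalizer_mul {M : Subgroup G} (P : Sylow p G) (hPM : (P : Subgroup G) ≤ M) :
    Nat.card (Sylow p M)
      * Nat.card (M ⊓ Subgroup.normalizer ((P : Subgroup G) : Set G) : Subgroup G) = Nat.card M := by
  have h := card_sylow_mul_card_normalizer (P.subtype hPM)
  rw [← h]
  congr 1
  rw [← Subgroup.card_map_of_injective (K := Subgroup.normalizer
    (((P.subtype hPM : Sylow p M) : Subgroup M) : Set M)) M.subtype_injective]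
  refine congrArg (fun H : Subgroup G => Nat.card H) ?_
  ext x
  constructor
  · rintro ⟨hxM, hxN⟩
    refine ⟨⟨x, hxM⟩, Subgroup.mem_normalizer_iff.2 fun y => ?_, rfl⟩
    exact Subgroup.mem_normalizer_iff.1 hxN y
  · rintro ⟨⟨x, hxM⟩, hxN, rfl⟩
    refine ⟨hxM, Subgroup.mem_normalizer_iff.2 fun y => ⟨fun hy => ?_, fun hy => ?_⟩⟩
    · exact (Subgroup.mem_normalizer_iff.1 hxN ⟨y, hPM hy⟩).1 hy
    · have hyM : y ∈ M := by
        have := mul_mem (mul_mem (inv_mem hxM) (hPM hy)) hxM
        simpa [mul_assoc] using this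
      exact (Subgroup.mem_normalizer_iff.1 hxN ⟨y, hyM⟩).2 hy

/-- Sylow subgroups of a subgroup with a unique one are normalised. -/
theorem le_normalizer_of_card_sylow_one {M : Subgroup G} (P : Sylow p G) (hPM : (P : Subgroup G) ≤ M)
    (h : Nat.card (Sylow p M) = 1) : M ≤ Subgroup.normalizer ((P : Subgroup G) : Set G) := by
  have := card_inf_normalizer_mul P hPM
  rw [h, one_mul] at this
  exact (Subgroup.eq_of_le_of_card_ge inf_le_left this.ge).symm.le.trans inf_le_right

/-- For an abelian Sylow subgroup of a perfect group normalised by `P⟨t⟩ = N(P)`, `t` inverts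
`P`. -/
theorem inverts_of_perfect (hperf : commutator G = ⊤) (P : Sylow p G)
    (hab : IsMulCommutative (P : Subgroup G)) {t : G}
    (htN : t ∈ Subgroup.normalizer ((P : Subgroup G) : Set G))
    (hgen : ∀ y ∈ Subgroup.normalizer ((P : Subgroup G) : Set G),
      y ∈ (P : Subgroup G) ∨ ∃ a ∈ (P : Subgroup G), y = a * t) :
    ∀ x ∈ (P : Subgroup G), t * t ∈ (P : Subgroup G) → t * x * t⁻¹ = x⁻¹ := by
  classical
  intro x₀ hx₀ htt
  have hconj : ∀ x ∈ (P : Subgroup G), t * x * t⁻¹ ∈ (P : Subgroup G) := fun x hx =>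
    (Subgroup.mem_normalizer_iff.1 htN x).1 hx
  have hcomm : ∀ a ∈ (P : Subgroup G), ∀ b ∈ (P : Subgroup G), a * b = b * a := fun a ha b hb =>
    congrArg Subtype.val (mul_comm' (⟨a, ha⟩ : (P : Subgroup G)) ⟨b, hb⟩)
  let φ : ↥(P : Subgroup G) →* ↥(P : Subgroup G) :=
    { toFun := fun x => ⟨x * (t * x * t⁻¹)⁻¹, mul_mem x.2 (inv_mem (hconj x x.2))⟩
      map_one' := Subtype.ext (by simp)
      map_mul' := fun a b => Subtype.ext (by
        show (a : G) * b * (t * ((a : G) * b) * t⁻¹)⁻¹ =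
          (a : G) * (t * a * t⁻¹)⁻¹ * ((b : G) * (t * b * t⁻¹)⁻¹)
        rw [show t * ((a : G) * b) * t⁻¹ = (t * a * t⁻¹) * (t * b * t⁻¹) by group, mul_inv_rev,
          mul_assoc (a : G), ← mul_assoc (b : G),
          hcomm _ (mul_mem b.2 (inv_mem (hconj b b.2))) _ (inv_mem (hconj a a.2))]
        group) }
  have hsurj : Function.Surjective φ := by
    have hfoc := CfsgLib.Transfer.commutator_inf_eq_commutator_normalizer P hab
    rw [hperf, top_inf_eq] at hfoc
    have hle : (P : Subgroup G) ≤ φ.range.map (P : Subgroup G).subtype := by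
      conv_lhs => rw [hfoc]
      rw [Subgroup.commutator_le]
      intro x hx y hy
      rcases hgen y hy with hyP | ⟨a, ha, rfl⟩
      · rw [commutatorElement_eq_one_iff_mul_comm.2 (hcomm x hx y hyP)]
        exact one_mem _
      · refine ⟨φ ⟨x, hx⟩, ⟨_, rfl⟩, ?_⟩
        show x * (t * x * t⁻¹)⁻¹ = ⁅x, a * t⁆
        rw [commutatorElement_def, mul_inv_rev a t,
          show x * (a * t) * x⁻¹ * (t⁻¹ * a⁻¹) = x * (a * (t * x⁻¹ * t⁻¹) * a⁻¹) by group,
          hcomm a ha _ (hconj _ (inv_mem hx))]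
        group
    intro y
    obtain ⟨z, ⟨x, rfl⟩, hz⟩ := hle y.2
    exact ⟨x, Subtype.ext hz⟩
  have hinj : Function.Injective φ := Finite.injective_iff_surjective.2 hsurj
  have hfix : ∀ x ∈ (P : Subgroup G), t * x * t⁻¹ = x → x = 1 := fun x hx hxt => by
    have h1 : φ ⟨x, hx⟩ = φ 1 := by
      rw [map_one]; exact Subtype.ext (show x * (t * x * t⁻¹)⁻¹ = 1 by rw [hxt, mul_inv_cancel])
    exact congrArg Subtype.val (hinj h1)
  have h := hfix (x₀ * (t * x₀ * t⁻¹)) (mul_mem hx₀ (hconj _ hx₀)) (by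
    have h2 : t * t * x₀ * (t * t)⁻¹ = x₀ := by rw [hcomm _ htt _ hx₀]; group
    calc t * (x₀ * (t * x₀ * t⁻¹)) * t⁻¹ = (t * x₀ * t⁻¹) * (t * t * x₀ * (t * t)⁻¹) := by group
      _ = x₀ * (t * x₀ * t⁻¹) := by rw [h2, hcomm _ (hconj _ hx₀) _ hx₀])
  exact eq_inv_of_mul_eq_one_right h

end

/-- A nonabelian simple group is perfect. -/
theorem commutator_eq_top [IsSimpleGroup G] (hG : ¬ IsMulCommutative G) : commutator G = ⊤ := by
  refine ((commutator G).normal_of_characteristic.eq_bot_or_eq_top).resolve_left fun h => hG ⟨⟨fun a b => ?_⟩⟩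
  have hmem : ⁅a, b⁆ ∈ commutator G :=
    Subgroup.commutator_mem_commutator (Subgroup.mem_top a) (Subgroup.mem_top b)
  rw [h, Subgroup.mem_bot] at hmem
  exact commutatorElement_eq_one_iff_mul_comm.1 hmem

/-- Membership in small divisor sets. -/
theorem mem_divisors_of_dvd {a n : ℕ} (h : a ∣ n) (hn : n ≠ 0) : a ∈ Nat.divisors n :=
  Nat.mem_divisors.2 ⟨h, hn⟩

end CfsgLib.Classification.SmallOrders
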