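import Cfsg.Agent.Classification.SmallOrders.Tools
import Cfsg.Agent.Small.Counting

/-!
# No simple group of order 1008 or 1080
-/

set_option autoImplicit false

namespace CfsgLib.Classification.SmallOrders

open CfsgLib.Small

variable {G : Type*} [Group G] [Finite G] [IsSimpleGroup G]

theorem false_of_card_1008 (hG : ¬ IsMulCommutative G) (hN : Nat.card G = 1008) : False := by
  classical
  haveI : Fact (Nat.Prime 7) := ⟨by norm_num⟩
  haveI := fact_prime Nat.prime_two
  have hp : 7 ∣ Nat.card G := by rw [hN]; norm_num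
  have hN' : Nat.card G = 7 ^ 1 * 144 := hN
  have hmem := card_sylow_mem hG hN' one_ne_zero (by norm_num)
  rw [show (Nat.divisors 144).filter (fun d => d % 7 = 1 ∧ d ≠ 1) = {8, 36} by decide] at hmem
  simp only [Finset.mem_insert, Finset.mem_singleton] at hmem
  obtain ⟨P⟩ : Nonempty (Sylow 7 G) := inferInstance
  have hP : Nat.card (P : Subgroup G) = 7 := by simpa using card_sylow_eq hN' (by norm_num) P
  obtain ⟨r, c, hr, hr1, hNc, hCc⟩ := exists_relIndex hG P hP
  have hmul := card_sylow_mul_card_normalizer P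
  rw [hN, hNc] at hmul
  have hr' := mem_divisors_of_dvd hr (by norm_num)
  rw [show Nat.divisors (7 - 1) = {1, 2, 3, 6} by decide] at hr'
  simp only [Finset.mem_insert, Finset.mem_singleton] at hr'
  rcases hmem with hn | hn
  · have h1 := centralizer_eq_of_card_succ hG hp P hP hn
    rw [h1, hP] at hCc
    rw [hn] at hmul
    rcases hr' with rfl | rfl | rfl | rfl <;> omega
  rw [hn] at hmul
  have hrc : r = 2 ∧ c = 2 := by rcases hr' with rfl | rfl | rfl | rfl <;> omega
  obtain ⟨⟨u, huC⟩, hu⟩ := exists_prime_orderOf_dvd_card' 2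
    (show 2 ∣ Nat.card (Subgroup.centralizer ((P : Subgroup G) : Set G)) by rw [hCc, hrc.2]; norm_num)
  rw [← Subgroup.orderOf_coe] at hu
  change orderOf u = 2 at hu
  set H : Subgroup G := Subgroup.centralizer ({u} : Set G) with hH
  have hPH : (P : Subgroup G) ≤ H := fun x hx =>
    Subgroup.mem_centralizer_singleton_iff.2 (Subgroup.mem_centralizer_iff.1 huC x hx)
  have h8 : 8 ∣ Nat.card H := eight_dvd_card_centralizer hG (m := 63) hN (by norm_num) hu
  have hHtop : H ≠ ⊤ := fun e => by
    have := CfsgLib.Small.centralizer_singleton_eq_top_iff.1 e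
    rw [center_eq_bot_of_simple hG, Subgroup.mem_bot] at this
    exact ne_one_of_orderOf_two hu this
  set e := Nat.card (Sylow 7 H) with he
  have hinf := card_inf_normalizer_mul P hPH
  rw [← he] at hinf
  have hN28 : Nat.card (Subgroup.normalizer ((P : Subgroup G) : Set G)) = 28 := by
    rw [hNc, hrc.1, hrc.2]
  have hX : Nat.card (H ⊓ Subgroup.normalizer ((P : Subgroup G) : Set G) : Subgroup G) ∣ 28 :=
    hN28 ▸ Subgroup.card_dvd_of_le inf_le_right
  have hX14 : 14 ∣ Nat.card (H ⊓ Subgroup.normalizer ((P : Subgroup G) : Set G) : Subgroup G) := by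
    have hle : (P : Subgroup G) ≤ H ⊓ Subgroup.normalizer ((P : Subgroup G) : Set G) :=
      le_inf hPH Subgroup.le_normalizer
    have h7 := Subgroup.card_dvd_of_le hle
    rw [hP] at h7
    have h2 := Subgroup.orderOf_dvd_natCard
      (H ⊓ Subgroup.normalizer ((P : Subgroup G) : Set G)) (x := u)
      ⟨Subgroup.mem_centralizer_singleton_iff.2 rfl, Subgroup.centralizer_le_normalizer _ huC⟩
    rw [hu] at h2
    omega
  have hemod : e % 7 = 1 := card_sylow_mod 7
  have hidx := Subgroup.card_mul_index H
  rw [hN] at hidx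
  have hfac := two_mul_card_dvd_factorial_index hG H hHtop
  rw [hN] at hfac
  have hi8 : 8 ≤ H.index := by
    by_contra hlt
    exact absurd (hfac.trans (Nat.factorial_dvd_factorial (show H.index ≤ 7 by omega))) (by decide)
  have hXval : Nat.card (H ⊓ Subgroup.normalizer ((P : Subgroup G) : Set G) : Subgroup G) = 14 ∨
      Nat.card (H ⊓ Subgroup.normalizer ((P : Subgroup G) : Set G) : Subgroup G) = 28 := by
    have := Nat.le_of_dvd (by norm_num) hX
    have : 0 < Nat.card (H ⊓ Subgroup.normalizer ((P : Subgroup G) : Set G) : Subgroup G) :=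
      Nat.card_pos
    omega
  have h126 : Nat.card H ≤ 126 := by nlinarith
  have h112 : Nat.card H = 112 := by
    rcases hXval with hx | hx <;> rw [hx] at hinf
    · have : e ≤ 9 := by omega
      omega
    · have : e ≤ 4 := by omega
      omega
  have hidx9 : H.index = 9 := by rw [h112] at hidx; omega
  -- the action on nine cosets
  obtain ⟨⟨x, hxP⟩, hx⟩ := exists_prime_orderOf_dvd_card' 7 (show 7 ∣ Nat.card (P : Subgroup G) by rw [hP])
  rw [← Subgroup.orderOf_coe] at hx
  change orderOf x = 7 at hx
  have hxu : x * u = u * x := Subgroup.mem_centralizer_singleton_iff.1 (hPH hxP)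
  have hZ : IsPGroup 7 (Subgroup.zpowers x) :=
    IsPGroup.of_card (n := 1) (by rw [Nat.card_zpowers, hx, pow_one])
  have hfaith := toPermHom_coset_injective hHtop
  let M : SubMulAction ↥(Subgroup.zpowers x) (G ⧸ H) :=
    { carrier := {a | u • a ≠ a}
      smul_mem' := fun z a ha h => ha (by
        obtain ⟨i, hi⟩ := z.2
        have hz : (z : G) * u = u * (z : G) := by
          rw [← hi]; exact ((show Commute x u from hxu).zpow_left i).eq
        have h' : u • (z : G) • a = (z : G) • a := h
        rw [smul_smul, ← hz, ← smul_smul] at h'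
        exact smul_left_cancel (z : G) h') }
  have h4 : 4 ∣ Nat.card M := four_dvd_moved hG (α := G ⧸ H) (orderOf_eq_two_iff_sq.1 hu).2
  have hM9 : Nat.card M ≤ 9 := by
    rw [← hidx9, Subgroup.index_eq_card]
    exact Nat.card_le_card_of_injective Subtype.val Subtype.val_injective
  have hM0 : Nat.card M ≠ 0 := fun h0 => ne_one_of_orderOf_two hu (hfaith (by
    rw [map_one]
    refine Equiv.ext fun a => ?_
    show u • a = a
    by_contra hne
    haveI : Nonempty M := ⟨⟨a, hne⟩⟩
    exact Nat.card_pos.ne' h0))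
  -- `x` fixes at most two cosets
  have hxfix : Nat.card (MulAction.fixedPoints ↥(Subgroup.zpowers x) (G ⧸ H)) ≤ 2 := by
    have hmod := hZ.card_modEq_card_fixedPoints (G ⧸ H)
    rw [← Subgroup.index_eq_card, hidx9, Nat.ModEq] at hmod
    have hle : Nat.card (MulAction.fixedPoints ↥(Subgroup.zpowers x) (G ⧸ H)) ≤ 9 := by
      rw [← hidx9, Subgroup.index_eq_card]
      exact Nat.card_le_card_of_injective Subtype.val Subtype.val_injective
    have hne : Nat.card (MulAction.fixedPoints ↥(Subgroup.zpowers x) (G ⧸ H)) ≠ 9 := by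
      intro h9
      have huniv : ∀ a : G ⧸ H, x • a = a := by
        intro a
        have h' : MulAction.fixedPoints ↥(Subgroup.zpowers x) (G ⧸ H) = Set.univ := by
          refine Set.eq_of_subset_of_ncard_le (Set.subset_univ _) ?_
          rw [Set.ncard_univ, ← Subgroup.index_eq_card, hidx9, ← Nat.card_coe_set_eq, h9]
        exact (h' ▸ Set.mem_univ a : a ∈ MulAction.fixedPoints ↥(Subgroup.zpowers x) (G ⧸ H))
          ⟨x, Subgroup.mem_zpowers x⟩
      have hx1 : x = 1 := hfaith (by
        rw [map_one]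
        exact Equiv.ext fun a => huniv a)
      rw [hx1, orderOf_one] at hx
      omega
    omega
  have hmodM := hZ.card_modEq_card_fixedPoints M
  rw [Nat.ModEq] at hmodM
  have hMfix : Nat.card (MulAction.fixedPoints ↥(Subgroup.zpowers x) M) ≤
      Nat.card (MulAction.fixedPoints ↥(Subgroup.zpowers x) (G ⧸ H)) :=
    Nat.card_le_card_of_injective (fun a => ⟨a.1.1, fun z => congrArg Subtype.val (a.2 z)⟩)
      (fun a b hab => by
        have h1 := congrArg Subtype.val hab
        exact Subtype.ext (Subtype.ext h1))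
  -- `u` moves the fixed points of `x` in `M` in pairs
  have hne1 : Nat.card (MulAction.fixedPoints ↥(Subgroup.zpowers x) M) ≠ 1 := by
    intro h1
    obtain ⟨hsub, ⟨⟨⟨a, ha⟩, hfix⟩⟩⟩ := Nat.card_eq_one_iff_unique.1 h1
    have hua : u • (u • a) ≠ u • a := fun h => ha (smul_left_cancel u h)
    have hfix' : (⟨u • a, hua⟩ : M) ∈ MulAction.fixedPoints ↥(Subgroup.zpowers x) M := fun z => by
      obtain ⟨i, hi⟩ := z.2
      have hz : (z : G) * u = u * (z : G) := by
        rw [← hi]; exact ((show Commute x u from hxu).zpow_left i).eq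
      refine Subtype.ext ?_
      show (z : G) • u • a = u • a
      rw [smul_smul, hz, ← smul_smul]
      exact congrArg (u • ·) (congrArg Subtype.val (hfix z))
    have := hsub.elim ⟨⟨a, ha⟩, hfix⟩ ⟨⟨u • a, hua⟩, hfix'⟩
    exact ha (congrArg (fun w => ((w : MulAction.fixedPoints ↥(Subgroup.zpowers x) M).1).1) this).symm
  omega

theorem false_of_card_1080 (hG : ¬ IsMulCommutative G) (hN : Nat.card G = 1080) : False := by
  haveI := fact_prime Nat.prime_five
  haveI := fact_prime Nat.prime_three
  have hp : 5 ∣ Nat.card G := by rw [hN]; norm_num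
  have hN' : Nat.card G = 5 ^ 1 * 216 := hN
  have hn : Nat.card (Sylow 5 G) = 36 ∨ Nat.card (Sylow 5 G) = 216 := by
    have hd := card_sylow_mem hG hN' one_ne_zero (by norm_num)
    have h2 := two_mul_card_dvd_factorial_sylow hG hp
    rw [hN] at h2
    rw [show (Nat.divisors 216).filter (fun d => d % 5 = 1 ∧ d ≠ 1) = {6, 36, 216} by decide] at hd
    simp only [Finset.mem_insert, Finset.mem_singleton] at hd
    rcases hd with e | e | e
    · rw [e] at h2; exact absurd h2 (by decide)
    · exact Or.inl e
    · exact Or.inr e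
  obtain ⟨P⟩ : Nonempty (Sylow 5 G) := inferInstance
  have hP : Nat.card (P : Subgroup G) = 5 := by simpa using card_sylow_eq hN' (by norm_num) P
  obtain ⟨r, c, hr, hr1, hNc, hCc⟩ := exists_relIndex hG P hP
  have hmul := card_sylow_mul_card_normalizer P
  rw [hN, hNc] at hmul
  have hr' := mem_divisors_of_dvd hr (by norm_num)
  rw [show Nat.divisors (5 - 1) = {1, 2, 4} by decide] at hr'
  simp only [Finset.mem_insert, Finset.mem_singleton] at hr'
  have hval : Nat.card (Sylow 5 G) = 36 ∧ r = 2 ∧ c = 3 := by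
    rcases hn with e | e <;> rw [e] at hmul <;> rcases hr' with rfl | rfl | rfl <;> omega
  obtain ⟨⟨y, hyC⟩, hy⟩ := exists_prime_orderOf_dvd_card' 3
    (show 3 ∣ Nat.card (Subgroup.centralizer ((P : Subgroup G) : Set G)) by rw [hCc, hval.2.2]; norm_num)
  rw [← Subgroup.orderOf_coe] at hy
  change orderOf y = 3 at hy
  set Q := Subgroup.zpowers y with hQ
  have hQ3 : Nat.card Q = 3 := by rw [hQ, Nat.card_zpowers, hy]
  set C := Subgroup.centralizer ((P : Subgroup G) : Set G) with hC
  have hQC : Q ≤ C := Subgroup.zpowers_le.2 hyC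
  -- `N(P) ≤ N(Q)`
  have hC15 : Nat.card C = 15 := by rw [hCc, hval.2.2]
  have hQ1 : Nat.card (Sylow 3 C) = 1 := by
    have hd := card_sylow_dvd (G := C) (p := 3) (k := 1) (m := 5) (by rw [hC15]; norm_num) (by norm_num)
    have hm := card_sylow_mod (G := C) 3
    have := Nat.le_of_dvd (by norm_num) hd
    interval_cases h : Nat.card (Sylow 3 C) <;> omega
  have hNQ : Subgroup.normalizer ((P : Subgroup G) : Set G) ≤ Subgroup.normalizer (Q : Set G) := by
    intro g hg
    have key : ∀ g ∈ Subgroup.normalizer ((P : Subgroup G) : Set G), ∀ z ∈ Q, g * z * g⁻¹ ∈ Q := by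
      intro g hg z hz
      have hzC : g * z * g⁻¹ ∈ C := by
        rw [hC, Subgroup.mem_centralizer_iff]
        intro a ha
        have ha' : g⁻¹ * a * g ∈ (P : Subgroup G) := by
          have := (Subgroup.mem_normalizer_iff.1 (inv_mem hg) a).1 ha
          rwa [inv_inv] at this
        have h := Subgroup.mem_centralizer_iff.1 (hQC hz) _ ha'
        calc a * (g * z * g⁻¹) = g * ((g⁻¹ * a * g) * z) * g⁻¹ := by group
          _ = g * (z * (g⁻¹ * a * g)) * g⁻¹ := by rw [h]
          _ = g * z * g⁻¹ * a := by group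
      have hQ' : IsPGroup 3 (Q.subgroupOf C) := (IsPGroup.of_card (n := 1)
        (by rw [hQ3, pow_one])).comap_subtype
      obtain ⟨E, hE⟩ := hQ'.exists_le_sylow
      have hEc : Nat.card (E : Subgroup C) = 3 := by
        simpa using card_sylow_eq (G := C) (p := 3) (k := 1) (m := 5) (by rw [hC15]; norm_num)
          (by norm_num) E
      have hEQ : (Q.subgroupOf C) = (E : Subgroup C) := Subgroup.eq_of_le_of_card_ge hE (by
        rw [hEc, Nat.card_congr (Subgroup.subgroupOfEquivOfLe hQC).toEquiv, hQ3])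
      by_cases hz1 : z = 1
      · rw [hz1]; simp
      have ho : orderOf (⟨g * z * g⁻¹, hzC⟩ : C) = 3 := by
        rw [← Subgroup.orderOf_coe]
        show orderOf (g * z * g⁻¹) = 3
        rw [orderOf_conj_eq]
        exact orderOf_eq_of_mem_prime hQ3 hz hz1
      obtain ⟨E', hE'⟩ := (IsPGroup.of_card (n := 1) (by rw [Nat.card_zpowers, ho, pow_one]) :
        IsPGroup 3 (Subgroup.zpowers (⟨g * z * g⁻¹, hzC⟩ : C))).exists_le_sylow
      have hEE : E' = E := by
        haveI : Subsingleton (Sylow 3 C) := (Nat.card_eq_one_iff_unique.1 hQ1).1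
        exact Subsingleton.elim _ _
      have hmemE := hE' (Subgroup.mem_zpowers _)
      rw [hEE, ← hEQ] at hmemE
      exact hmemE
    refine Subgroup.mem_normalizer_iff.2 fun z => ⟨key g hg z, fun hz => ?_⟩
    have := key g⁻¹ (inv_mem hg) _ hz
    simpa [mul_assoc] using this
  set N := Subgroup.normalizer (Q : Set G) with hNdef
  have hQtop : Q ≠ ⊤ := fun e => by
    have : Nat.card G = 3 := by rw [← Subgroup.card_top, ← e, hQ3]
    omega
  have hNtop : N ≠ ⊤ := normalizer_ne_top (fun e => by rw [e, Subgroup.card_bot] at hQ3; omega) hQtop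
  have hPN : (P : Subgroup G) ≤ N := Subgroup.le_normalizer.trans hNQ
  have hinf := card_inf_normalizer_mul P hPN
  rw [inf_eq_right.2 hNQ, hNc, hval.2.1, hval.2.2] at hinf
  -- `9` divides `|N(Q)|`
  have h9 : 9 ∣ Nat.card N := by
    obtain ⟨R, hR⟩ := (IsPGroup.of_card (n := 1) (by rw [hQ3, pow_one]) : IsPGroup 3 Q).exists_le_sylow
    have hRc : Nat.card (R : Subgroup G) = 3 ^ 3 :=
      card_sylow_eq (G := G) (k := 3) (m := 40) (by rw [hN]; norm_num) (by norm_num) R
    by_cases hRN : (R : Subgroup G) ≤ N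
    · have h := Subgroup.card_dvd_of_le hRN
      rw [hRc] at h
      exact dvd_trans (by norm_num) h
    haveI : Group.IsNilpotent (R : Subgroup G) := R.isPGroup'.isNilpotent
    have hlt := Group.normalizerCondition_of_isNilpotent (Q.subgroupOf (R : Subgroup G))
      (lt_top_iff_ne_top.2 fun h => hRN ((Subgroup.subgroupOf_eq_top.1 h).trans Subgroup.le_normalizer))
    have hgt := Set.ncard_lt_ncard hlt (Set.toFinite _)
    rw [← Nat.card_coe_set_eq, ← Nat.card_coe_set_eq] at hgt
    change Nat.card (Q.subgroupOf (R : Subgroup G)) < Nat.card (Subgroup.normalizer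
      ((Q.subgroupOf (R : Subgroup G)) : Set (R : Subgroup G))) at hgt
    rw [Nat.card_congr (Subgroup.subgroupOfEquivOfLe hR).toEquiv, hQ3] at hgt
    obtain ⟨a, ha⟩ := IsPGroup.iff_card.1 (R.isPGroup'.to_subgroup (Subgroup.normalizer
      ((Q.subgroupOf (R : Subgroup G)) : Set (R : Subgroup G))))
    rw [ha] at hgt
    have ha2 : 2 ≤ a := (Nat.pow_lt_pow_iff_right (by norm_num : 1 < 3)).1
      (lt_of_le_of_lt (pow_one 3).le hgt)
    have hsub : (Subgroup.normalizer ((Q.subgroupOf (R : Subgroup G)) : Set (R : Subgroup G))).map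
        (R : Subgroup G).subtype ≤ N := by
      rintro _ ⟨x, hx, rfl⟩
      refine Subgroup.mem_normalizer_iff.2 fun z => ⟨fun hz => ?_, fun hz => ?_⟩
      · exact (Subgroup.mem_normalizer_iff.1 hx ⟨z, hR hz⟩).1 hz
      · have hzR : z ∈ (R : Subgroup G) := by
          have := mul_mem (mul_mem (inv_mem x.2) (hR hz)) x.2
          simpa [mul_assoc] using this
        exact (Subgroup.mem_normalizer_iff.1 hx ⟨z, hzR⟩).2 hz
    have h := Subgroup.card_dvd_of_le hsub
    rw [Subgroup.card_map_of_injective (R : Subgroup G).subtype_injective, ha] at h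
    exact dvd_trans (pow_dvd_pow 3 ha2) h
  have hfac := two_mul_card_dvd_factorial_index hG N hNtop
  have hidx := Subgroup.card_mul_index N
  rw [hN] at hfac hidx
  have hi : 7 ≤ N.index := by
    by_contra hlt
    exact absurd (hfac.trans (Nat.factorial_dvd_factorial (show N.index ≤ 6 by omega))) (by decide)
  have hle : Nat.card N ≤ 154 := by nlinarith
  have hemod := card_sylow_mod (G := N) 5
  have : Nat.card (Sylow 5 N) ≤ 5 := by omega
  omega

end CfsgLib.Classification.SmallOrders
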