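import Cfsg.Agent.Classification.SmallOrders.Tools
import Cfsg.Agent.Small.Counting

/-!
# No simple group of order 1040
-/

set_option autoImplicit false

namespace CfsgLib.Classification.SmallOrders

open CfsgLib.Small

variable {G : Type*} [Group G] [Finite G] [IsSimpleGroup G]

/-- An element normalising a group of order five with square centralising it either centralises
it or inverts it. -/
theorem inverts_of_sq {G : Type*} [Group G] [Finite G] {p : ℕ} [Fact p.Prime] {P : Subgroup G}
    (hP : Nat.card P = p) {s : G} (hsN : s ∈ Subgroup.normalizer (P : Set G))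
    (hs : s * s = 1) (hsC : s ∉ Subgroup.centralizer (P : Set G)) {y : G} (hy : y ∈ P) :
    s * y * s⁻¹ = y⁻¹ := by
  have hconj : ∀ x ∈ P, s * x * s⁻¹ ∈ P := fun x hx => (Subgroup.mem_normalizer_iff.1 hsN x).1 hx
  haveI : IsCyclic P := isCyclic_of_prime_card hP
  have hcomm : ∀ a ∈ P, ∀ b ∈ P, a * b = b * a := fun a ha b hb =>
    congrArg Subtype.val (mul_comm' (⟨a, ha⟩ : P) ⟨b, hb⟩)
  set w := y * (s * y * s⁻¹) with hw
  have hwP : w ∈ P := mul_mem hy (hconj y hy)
  have hfix : Commute s w := by
    show s * w = w * s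
    rw [← mul_inv_eq_iff_eq_mul, hw]
    calc s * (y * (s * y * s⁻¹)) * s⁻¹ = (s * y * s⁻¹) * ((s * s) * y * (s * s)⁻¹) := by group
      _ = y * (s * y * s⁻¹) := by rw [hs]; simp [hcomm _ (hconj y hy) y hy]
  by_cases h1 : w = 1
  · exact eq_inv_of_mul_eq_one_right (hw ▸ h1)
  · exact absurd (mem_centralizer_of_commute_prime hP hwP h1 hfix) hsC

/-- Conjugate elements have centralisers of the same order. -/
theorem card_centralizer_conj {G : Type*} [Group G] (g w : G) :
    Nat.card (Subgroup.centralizer ({g⁻¹ * w * g} : Set G))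
      = Nat.card (Subgroup.centralizer ({w} : Set G)) := by
  refine Nat.card_congr ((MulAut.conj g).toEquiv.subtypeEquiv fun a => ?_)
  rw [Subgroup.mem_centralizer_singleton_iff, Subgroup.mem_centralizer_singleton_iff]
  show _ ↔ g * a * g⁻¹ * w = w * (g * a * g⁻¹)
  constructor
  · intro h
    calc g * a * g⁻¹ * w = g * (a * (g⁻¹ * w * g)) * g⁻¹ := by group
      _ = g * (g⁻¹ * w * g * a) * g⁻¹ := by rw [h]
      _ = w * (g * a * g⁻¹) := by group
  · intro h
    calc a * (g⁻¹ * w * g) = g⁻¹ * (g * a * g⁻¹ * w) * g := by group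
      _ = g⁻¹ * (w * (g * a * g⁻¹)) * g := by rw [h]
      _ = g⁻¹ * w * g * a := by group

theorem false_of_card_1040 (hG : ¬ IsMulCommutative G) (hN : Nat.card G = 1040) : False := by
  classical
  haveI := fact_prime Nat.prime_five
  haveI := fact_prime Nat.prime_two
  haveI : Fact (Nat.Prime 13) := ⟨by norm_num⟩
  have hN' : Nat.card G = 5 ^ 1 * 208 := hN
  have hidx13 : ∀ H : Subgroup G, H ≠ ⊤ → Nat.card H ≤ 80 := by
    intro H hH
    have h2 := two_mul_card_dvd_factorial_index hG H hH
    rw [hN] at h2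
    have hm := Subgroup.card_mul_index H
    rw [hN] at hm
    by_contra hlt
    have h12 : H.index ≤ 12 := by nlinarith
    exact absurd (h2.trans (Nat.factorial_dvd_factorial h12)) (by decide)
  -- the normaliser of a Sylow 5-subgroup
  obtain ⟨P⟩ : Nonempty (Sylow 5 G) := inferInstance
  have hP : Nat.card (P : Subgroup G) = 5 := by simpa using card_sylow_eq hN' (by norm_num) P
  obtain ⟨r, c, hr, hr1, hNc, hCc⟩ := exists_relIndex hG P hP
  have hmul := card_sylow_mul_card_normalizer P
  rw [hN, hNc] at hmul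
  have hr' := mem_divisors_of_dvd hr (by norm_num)
  rw [show Nat.divisors (5 - 1) = {1, 2, 4} by decide] at hr'
  simp only [Finset.mem_insert, Finset.mem_singleton] at hr'
  have hrc : Nat.card (Subgroup.normalizer ((P : Subgroup G) : Set G)) = 40 ∧ 2 ∣ c := by
    have hd := card_sylow_mem hG hN' one_ne_zero (by norm_num)
    rw [show (Nat.divisors 208).filter (fun d => d % 5 = 1 ∧ d ≠ 1) = {16, 26} by decide] at hd
    simp only [Finset.mem_insert, Finset.mem_singleton] at hd
    rw [hNc]
    rcases hd with e | e <;> rw [e] at hmul <;> rcases hr' with rfl | rfl | rfl <;> omega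
  set N := Subgroup.normalizer ((P : Subgroup G) : Set G) with hNdef
  -- involutions centralising `P` have centraliser `N(P)`
  have hCu : ∀ u : G, orderOf u = 2 → u ∈ Subgroup.centralizer ((P : Subgroup G) : Set G) →
      Subgroup.centralizer ({u} : Set G) = N := by
    intro u hu huC
    set H : Subgroup G := Subgroup.centralizer ({u} : Set G) with hH
    have hPH : (P : Subgroup G) ≤ H := fun x hx =>
      Subgroup.mem_centralizer_singleton_iff.2 (Subgroup.mem_centralizer_iff.1 huC x hx)
    have h8 : 8 ∣ Nat.card H := eight_dvd_card_centralizer hG (m := 65) hN (by norm_num) hu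
    have hHtop : H ≠ ⊤ := fun e => by
      have := CfsgLib.Small.centralizer_singleton_eq_top_iff.1 e
      rw [center_eq_bot_of_simple hG, Subgroup.mem_bot] at this
      exact ne_one_of_orderOf_two hu this
    have h80 := hidx13 H hHtop
    have hX10 : 10 ∣ Nat.card (H ⊓ N : Subgroup G) := by
      have hle : (P : Subgroup G) ≤ H ⊓ N := le_inf hPH Subgroup.le_normalizer
      have h5 := Subgroup.card_dvd_of_le hle
      rw [hP] at h5
      have h2 := Subgroup.orderOf_dvd_natCard (H ⊓ N) (x := u)
        ⟨Subgroup.mem_centralizer_singleton_iff.2 rfl, Subgroup.centralizer_le_normalizer _ huC⟩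
      rw [hu] at h2
      omega
    have hX40 : Nat.card (H ⊓ N : Subgroup G) ∣ 40 := hrc.1 ▸ Subgroup.card_dvd_of_le inf_le_right
    have hXpos : 0 < Nat.card (H ⊓ N : Subgroup G) := Nat.card_pos
    have hXle := Nat.le_of_dvd (by norm_num) hX40
    have hinf := card_inf_normalizer_mul P hPH
    rw [← hNdef] at hinf
    have hmod := card_sylow_mod (G := H) 5
    have hGd : Nat.card H ∣ 1040 := hN ▸ Subgroup.card_subgroup_dvd_card H
    have he : Nat.card (Sylow 5 H) = 1 := by
      by_contra hne
      have he6 : 6 ≤ Nat.card (Sylow 5 H) := by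
        have h0 : 0 < Nat.card (Sylow 5 H) := Nat.card_pos
        omega
      have hX : Nat.card (H ⊓ N : Subgroup G) = 10 := by
        obtain ⟨j, hj⟩ := hX10
        have : 6 * Nat.card (H ⊓ N : Subgroup G) ≤ 80 :=
          le_trans (Nat.mul_le_mul_right _ he6) (hinf.le.trans h80)
        omega
      rw [hX] at hinf
      have : Nat.card (Sylow 5 H) ≤ 8 := by omega
      have h60 : Nat.card H = 60 := by omega
      rw [h60] at hGd
      norm_num at hGd
    rw [he, one_mul] at hinf
    have h40 : Nat.card H = 40 := by omega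
    refine Subgroup.eq_of_le_of_card_ge (le_normalizer_of_card_sylow_one P hPH he) ?_
    rw [hrc.1, h40]
  -- an involution with centraliser of order eight
  obtain ⟨Q⟩ : Nonempty (Sylow 13 G) := inferInstance
  have hN13 : Nat.card G = 13 ^ 1 * 80 := hN
  have hQ : Nat.card (Q : Subgroup G) = 13 := by simpa using card_sylow_eq hN13 (by norm_num) Q
  have hn13 : Nat.card (Sylow 13 G) = 40 := by
    have hd := card_sylow_mem hG hN13 one_ne_zero (by norm_num)
    rw [show (Nat.divisors 80).filter (fun d => d % 13 = 1 ∧ d ≠ 1) = {40} by decide] at hd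
    simpa using hd
  set NQ := Subgroup.normalizer ((Q : Subgroup G) : Set G) with hNQdef
  have hNQ : Nat.card NQ = 26 := by
    have h := card_sylow_mul_card_normalizer Q
    rw [hn13, hN, ← hNQdef] at h
    omega
  have hCQ : ∀ w : G, orderOf w = 2 → w ∉ Subgroup.centralizer ((Q : Subgroup G) : Set G) := by
    intro w hw hwC
    obtain ⟨r', c', -, hr1', hNc', hCc'⟩ := exists_relIndex hG Q hQ
    have h2 := Subgroup.orderOf_dvd_natCard _ hwC
    rw [hw, hCc'] at h2
    rw [← hNQdef, hNQ] at hNc'
    have hc2 : 2 ∣ c' := (Nat.Coprime.dvd_mul_left (by norm_num : Nat.Coprime 2 13)).1 h2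
    obtain ⟨j, rfl⟩ := hc2
    have h26 : 26 * (r' * j) = 26 * 1 := by linarith
    exact hr1' (mul_eq_one.1 (Nat.eq_of_mul_eq_mul_left (by norm_num) h26)).1
  obtain ⟨⟨w, hwN⟩, hw⟩ := exists_prime_orderOf_dvd_card' 2 (show 2 ∣ Nat.card NQ by rw [hNQ]; norm_num)
  rw [← Subgroup.orderOf_coe] at hw
  change orderOf w = 2 at hw
  have hww : w * w = 1 := (orderOf_eq_two_iff_sq.1 hw).2
  -- `w` fixes four Sylow 13-subgroups
  have hF : Nat.card {R : Sylow 13 G // w • R = R} = 4 := by
    have hwQ : w • Q = Q := Sylow.smul_eq_iff_mem_normalizer.2 hwN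
    have h4 := four_dvd_moved hG (α := Sylow 13 G) hww
    cases nonempty_fintype (Sylow 13 G)
    rw [Nat.card_eq_fintype_card (α := {R : Sylow 13 G // w • R ≠ R}), Fintype.card_subtype_compl,
      ← Nat.card_eq_fintype_card, ← Nat.card_eq_fintype_card, hn13] at h4
    have hle : (Nat.card {R : Sylow 13 G // w • R = R} - 1) * 13 ≤ 39 := by
      have hinj := Nat.card_le_card_of_injective
        (fun z : {R : Sylow 13 G // w • R = R ∧ R ≠ Q} × ↥(Q : Subgroup G) =>
          (⟨(z.2 : G) • (z.1 : Sylow 13 G), fun h => z.1.2.2 (by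
            have hQ' : (z.2 : G)⁻¹ • Q = Q :=
              Sylow.smul_eq_iff_mem_normalizer.2 (Subgroup.le_normalizer (inv_mem z.2.2))
            exact (inv_smul_smul (z.2 : G) (z.1 : Sylow 13 G)).symm.trans
              ((congrArg ((z.2 : G)⁻¹ • ·) h).trans hQ'))⟩ : {R : Sylow 13 G // R ≠ Q})) ?_
      · rw [Nat.card_prod, hQ, Nat.card_eq_fintype_card (α := {R : Sylow 13 G // R ≠ Q}),
          Fintype.card_subtype_compl, Fintype.card_subtype_eq, ← Nat.card_eq_fintype_card, hn13] at hinj
        refine le_trans (Nat.mul_le_mul_right _ ?_) hinj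
        rw [Nat.card_eq_fintype_card, Nat.card_eq_fintype_card, Fintype.card_subtype,
          Fintype.card_subtype, ← Finset.card_erase_of_mem (a := Q) (by simp [hwQ])]
        exact Finset.card_le_card fun R hR => by
          simp only [Finset.mem_erase, Finset.mem_filter, Finset.mem_univ, true_and] at hR ⊢
          exact ⟨hR.2, hR.1⟩
      · rintro ⟨⟨R, hR, hRQ⟩, a⟩ ⟨⟨R', hR', hRQ'⟩, b⟩ h
        have h' : (a : G) • R = (b : G) • R' := congrArg Subtype.val h
        set e := (b : G)⁻¹ * a with he
        have heQ : e ∈ (Q : Subgroup G) := mul_mem (inv_mem b.2) a.2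
        have heR : e • R = R' := by rw [he, mul_smul, h', inv_smul_smul]
        have he1 : e = 1 := by
          by_contra he1
          have hwi : w⁻¹ • R = R := by rw [inv_smul_eq_iff, hR]
          have hk : w * e * w⁻¹ * e⁻¹ ∈ (Q : Subgroup G) :=
            mul_mem ((Subgroup.mem_normalizer_iff.1 hwN e).1 heQ) (inv_mem heQ)
          have hk' : (w * e * w⁻¹ * e⁻¹) • R' = R' := by
            rw [mul_smul, mul_smul, mul_smul, ← heR, inv_smul_smul, hwi, heR, hR']
          refine hCQ w hw (mem_centralizer_of_commute_prime hQ heQ he1 ?_)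
          by_contra hne
          exact hRQ' (eq_of_smul_eq hQ hk (fun h1 => hne (mul_inv_eq_iff_eq_mul.1
            (mul_inv_eq_one.1 h1))) hk')
        have hRR : R = R' := by rw [← heR, he1, one_smul]
        subst hRR
        exact Prod.ext rfl (Subtype.ext (inv_mul_eq_one.1 (he ▸ he1)).symm)
    have hpos : 0 < Nat.card {R : Sylow 13 G // w • R = R} := by
      haveI : Nonempty {R : Sylow 13 G // w • R = R} := ⟨⟨Q, hwQ⟩⟩
      exact Nat.card_pos
    omega
  have hw8 : Nat.card (Subgroup.centralizer ({w} : Set G)) = 8 := by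
    -- `C(w)` is transitive on the fixed points with stabiliser `⟨w⟩`
    let Cw := Subgroup.centralizer ({w} : Set G)
    let S : SubMulAction ↥Cw (Sylow 13 G) :=
      { carrier := {R | w • R = R}
        smul_mem' := fun g R hR => by
          show w • (g : G) • R = (g : G) • R
          rw [smul_smul, ← Subgroup.mem_centralizer_singleton_iff.1 g.2, ← smul_smul, hR] }
    let Q₀ : S := ⟨Q, Sylow.smul_eq_iff_mem_normalizer.2 hwN⟩
    have hconjN : ∀ v ∈ NQ, orderOf v = 2 → ∃ n ∈ NQ, n * w * n⁻¹ = v := by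
      intro v hv hvo
      have hone : ∀ z : NQ, orderOf z = 2 → ∃ E : Sylow 2 NQ, z ∈ (E : Subgroup NQ) := fun z hz => by
        obtain ⟨E, hE⟩ := (IsPGroup.of_card (n := 1) (by rw [Nat.card_zpowers, hz, pow_one]) :
          IsPGroup 2 (Subgroup.zpowers z)).exists_le_sylow
        exact ⟨E, hE (Subgroup.mem_zpowers z)⟩
      have ho : orderOf (⟨w, hwN⟩ : NQ) = 2 := (Subgroup.orderOf_coe _).symm.trans hw
      have ho' : orderOf (⟨v, hv⟩ : NQ) = 2 := (Subgroup.orderOf_coe _).symm.trans hvo
      obtain ⟨E, hE⟩ := hone _ ho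
      obtain ⟨E', hE'⟩ := hone _ ho'
      obtain ⟨n, rfl⟩ := MulAction.exists_smul_eq NQ E E'
      have hE2 : Nat.card (E : Subgroup NQ) = 2 := by
        simpa using card_sylow_eq (G := NQ) (p := 2) (k := 1) (m := 13) (by rw [hNQ]; norm_num)
          (by norm_num) E
      rw [Sylow.coe_subgroup_smul, Subgroup.mem_pointwise_smul_iff_inv_smul_mem] at hE'
      have h := eq_zpowers_of_mem_prime hE2 hE (fun e => by rw [e, orderOf_one] at ho; omega)
      rw [← h, mem_zpowers_iff_mem_range_orderOf, ho] at hE'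
      simp only [Finset.mem_image, Finset.mem_range] at hE'
      obtain ⟨i, hi, hie⟩ := hE'
      refine ⟨n, n.2, ?_⟩
      rw [← map_inv, MulAut.smul_def] at hie
      interval_cases i
      · exfalso
        rw [pow_zero] at hie
        have := (MulEquiv.map_eq_one_iff _).1 hie.symm
        exact ne_one_of_orderOf_two hvo (congrArg Subtype.val this)
      · rw [pow_one] at hie
        have h2 := congrArg Subtype.val hie
        simp only [MulAut.conj_apply, Subgroup.coe_mul, inv_inv, Subgroup.coe_inv] at h2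
        rw [h2]; group
    have horb : MulAction.orbit ↥Cw Q₀ = Set.univ := by
      refine Set.eq_univ_of_forall fun R => ?_
      obtain ⟨g, hg⟩ := MulAction.exists_smul_eq G Q (R : Sylow 13 G)
      have hv : g⁻¹ * w * g ∈ NQ := Sylow.smul_eq_iff_mem_normalizer.1 (by
        rw [mul_smul, mul_smul, hg, show w • (R : Sylow 13 G) = R from R.2, ← hg, inv_smul_smul])
      have hvo : orderOf (g⁻¹ * w * g) = 2 := by
        have := orderOf_conj_eq g⁻¹ w; rw [inv_inv] at this; rw [this, hw]
      obtain ⟨n, hn, hnw⟩ := hconjN _ hv hvo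
      have hgn : g * n ∈ Cw := Subgroup.mem_centralizer_singleton_iff.2 (by
        calc g * n * w = g * (n * w * n⁻¹) * n := by group
          _ = w * (g * n) := by rw [hnw]; group)
      refine ⟨⟨g * n, hgn⟩, Subtype.ext ?_⟩
      show (g * n) • Q = R
      rw [mul_smul, Sylow.smul_eq_iff_mem_normalizer.2 hn, hg]
    have hst : Nat.card (MulAction.stabilizer ↥Cw Q₀) = 2 := by
      have hle : (MulAction.stabilizer ↥Cw Q₀).map Cw.subtype = Subgroup.zpowers w := by
        refine le_antisymm ?_ ?_
        · rintro _ ⟨g, hg, rfl⟩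
          have hgN : (g : G) ∈ NQ := Sylow.smul_eq_iff_mem_normalizer.1 (congrArg Subtype.val hg)
          by_contra hgw
          -- otherwise `w` centralises a nontrivial element of `Q`
          have hQle : (Q : Subgroup G) ≤ NQ := Subgroup.le_normalizer
          have hidx : ((Q : Subgroup G).subgroupOf NQ).index = 2 := by
            have h1 := Subgroup.card_mul_index ((Q : Subgroup G).subgroupOf NQ)
            rw [Nat.card_congr (Subgroup.subgroupOfEquivOfLe hQle).toEquiv, hQ, hNQ] at h1
            omega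
          have hwQ' : w ∉ (Q : Subgroup G) := fun h => by
            have := Subgroup.orderOf_dvd_natCard _ h
            rw [hw, hQ] at this; norm_num at this
          have hcg : Commute w (g : G) := (Subgroup.mem_centralizer_singleton_iff.1 g.2).symm
          by_cases hgQ : (g : G) ∈ (Q : Subgroup G)
          · refine hCQ w hw (mem_centralizer_of_commute_prime hQ hgQ (fun e => hgw ?_) hcg)
            show (g : G) ∈ Subgroup.zpowers w
            rw [e]; exact one_mem _
          · have hgwQ : (g : G) * w ∈ (Q : Subgroup G) :=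
              ((Subgroup.mul_mem_iff_of_index_two hidx (a := ⟨g, hgN⟩) (b := ⟨w, hwN⟩)).2
                (iff_of_false hgQ hwQ') : _)
            refine hCQ w hw (mem_centralizer_of_commute_prime hQ hgwQ (fun e => hgw ?_)
              (hcg.mul_right (Commute.refl w)))
            show (g : G) ∈ Subgroup.zpowers w
            rw [eq_inv_of_mul_eq_one_left e]
            exact inv_mem (Subgroup.mem_zpowers w)
        · rw [Subgroup.zpowers_le]
          exact ⟨⟨w, Subgroup.mem_centralizer_singleton_iff.2 rfl⟩,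
            Subtype.ext (Sylow.smul_eq_iff_mem_normalizer.2 hwN), rfl⟩
      rw [← Subgroup.card_map_of_injective Cw.subtype_injective, hle, Nat.card_zpowers, hw]
    have hidx := MulAction.index_stabilizer ↥Cw Q₀
    rw [horb, Set.ncard_univ] at hidx
    have h := Subgroup.card_mul_index (MulAction.stabilizer ↥Cw Q₀)
    rw [hst, hidx] at h
    have hS : Nat.card S = 4 := hF
    rw [hS] at h
    exact h.symm
  -- the Sylow 2-subgroup of `N(P)` inside one of `G`
  obtain ⟨E⟩ : Nonempty (Sylow 2 N) := inferInstance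
  set T8 := (E : Subgroup N).map N.subtype with hT8
  have hT8c : Nat.card T8 = 8 := by
    rw [hT8, Subgroup.card_map_of_injective N.subtype_injective]
    simpa using card_sylow_eq (G := N) (p := 2) (k := 3) (m := 5) (by rw [hrc.1]; norm_num) (by norm_num) E
  obtain ⟨T, hT⟩ := (E.isPGroup'.map N.subtype).exists_le_sylow
  have hTc : Nat.card (T : Subgroup G) = 16 := by
    simpa using card_sylow_eq (G := G) (k := 4) (m := 65) hN (by norm_num) T
  have hidx2 : (T8.subgroupOf (T : Subgroup G)).index = 2 := by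
    have h1 := Subgroup.card_mul_index (T8.subgroupOf (T : Subgroup G))
    rw [Nat.card_congr (Subgroup.subgroupOfEquivOfLe hT).toEquiv, hT8c, hTc] at h1
    omega
  have hnormal : ∀ x ∈ (T : Subgroup G), ∀ a ∈ T8, x * a * x⁻¹ ∈ T8 := fun x hx a ha =>
    (Subgroup.normal_of_index_eq_two hidx2).conj_mem ⟨a, hT ha⟩ ha ⟨x, hx⟩
  have hT8N : T8 ≤ N := Subgroup.map_subtype_le _
  have hno : ∀ H : Subgroup G, H.index ≠ 2 := fun H hH => by
    have := two_lt_index hG H (fun e => by rw [e, Subgroup.index_top] at hH; omega)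
    omega
  -- some element of `T` outside `T8`
  obtain ⟨x, hxT, hx8⟩ : ∃ x ∈ (T : Subgroup G), x ∉ T8 := by
    by_contra hcon
    push Not at hcon
    have := Subgroup.card_le_of_le (show (T : Subgroup G) ≤ T8 from hcon)
    omega
  have hxN : x ∉ N := fun h => by
    have hle : IsPGroup 2 ((T : Subgroup G) ⊓ N : Subgroup G) := T.isPGroup'.to_le inf_le_left
    obtain ⟨k, hk⟩ := IsPGroup.iff_card.1 hle
    have hd : Nat.card ((T : Subgroup G) ⊓ N : Subgroup G) ∣ 40 := hrc.1 ▸ Subgroup.card_dvd_of_le inf_le_right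
    have hle8 : T8 ≤ (T : Subgroup G) ⊓ N := le_inf hT hT8N
    have h8le := Subgroup.card_le_of_le hle8
    rw [hT8c, hk] at h8le
    rw [hk] at hd
    have hk3 : k ≤ 3 := by
      by_contra hlt
      have := (pow_dvd_pow 2 (show 4 ≤ k by omega)).trans hd
      norm_num at this
    have : (2 : ℕ) ^ k ≤ 8 := (Nat.pow_le_pow_right (by norm_num) hk3).trans (by norm_num)
    have heq := Subgroup.eq_of_le_of_card_ge hle8 (by rw [hT8c, hk]; omega)
    exact hx8 (heq ▸ ⟨hxT, h⟩)
  -- `T8` is abelian
  obtain ⟨⟨u, huC⟩, hu⟩ := exists_prime_orderOf_dvd_card' 2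
    (show 2 ∣ Nat.card (Subgroup.centralizer ((P : Subgroup G) : Set G)) by
      rw [hCc]; exact hrc.2.mul_left 5)
  rw [← Subgroup.orderOf_coe] at hu
  change orderOf u = 2 at hu
  have huN : u ∈ N := Subgroup.centralizer_le_normalizer _ huC
  have huc : ∀ g ∈ N, g * u = u * g := fun g hg => by
    rw [← hCu u hu huC] at hg; exact Subgroup.mem_centralizer_singleton_iff.1 hg
  have huT8 : u ∈ T8 := by
    refine ⟨⟨u, huN⟩, ?_, rfl⟩
    have hnorm : (⟨u, huN⟩ : N) ∈ Subgroup.normalizer ((E : Subgroup N) : Set N) :=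
      Subgroup.centralizer_le_normalizer _ (Subgroup.mem_centralizer_iff.2 fun a _ =>
        Subtype.ext (huc a a.2))
    have hp : IsPGroup 2 (Subgroup.zpowers (⟨u, huN⟩ : N)) := IsPGroup.of_card (n := 1) (by
      rw [Nat.card_zpowers, ← Subgroup.orderOf_coe, hu, pow_one])
    exact ((hp.inf_normalizer_sylow E).le ⟨Subgroup.mem_zpowers _, hnorm⟩).2
  have hab : ∀ a ∈ T8, ∀ b ∈ T8, a * b = b * a := by
    by_contra hcon
    -- otherwise `u` generates the centre, which `x` must fix
    set Z := Subgroup.center T8 with hZ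
    have hz1 : (⟨u, huT8⟩ : T8) ∈ Z := Subgroup.mem_center_iff.2 fun a =>
      Subtype.ext (huc a (hT8N a.2))
    have hne : Z ≠ ⊤ := fun e => hcon fun a ha b hb => by
      have h := Subgroup.mem_center_iff.1 (e ▸ Subgroup.mem_top (⟨b, hb⟩ : T8) : (⟨b, hb⟩ : T8) ∈ Z) ⟨a, ha⟩
      exact congrArg Subtype.val h
    have hZ2 : Nat.card Z = 2 := by
      have hncyc : ¬ IsCyclic (T8 ⧸ Z) := fun hc => hcon fun a ha b hb => congrArg Subtype.val
        (commutative_of_cyclic_center_quotient (QuotientGroup.mk' Z)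
          (by rw [QuotientGroup.ker_mk']) (⟨a, ha⟩ : T8) ⟨b, hb⟩)
      have hd := Subgroup.card_mul_index Z
      rw [hT8c] at hd
      obtain ⟨j, hj, hZj⟩ := (Nat.dvd_prime_pow Nat.prime_two).1 (⟨_, hd.symm⟩ : Nat.card Z ∣ 2 ^ 3)
      have hZu : 2 ≤ Nat.card Z := by
        have := Subgroup.orderOf_dvd_natCard Z hz1
        rw [← Subgroup.orderOf_coe, hu] at this
        exact Nat.le_of_dvd Nat.card_pos this
      have hidxZ : Z.index ≠ 2 := fun h2 => hncyc (isCyclic_of_prime_card (p := 2)
        (by rw [← Subgroup.index_eq_card, h2]))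
      have hidx1 : Z.index ≠ 1 := fun h1 => hne (Subgroup.index_eq_one.1 h1)
      rw [hZj] at hd hZu ⊢
      interval_cases j <;> omega
    have hzx : x * u * x⁻¹ = u := by
      have hmem := hnormal x hxT u huT8
      have hzc : (⟨x * u * x⁻¹, hmem⟩ : T8) ∈ Z := Subgroup.mem_center_iff.2 fun a => Subtype.ext (by
        have hxi : x⁻¹ * a * x ∈ T8 := by
          have := hnormal x⁻¹ (inv_mem hxT) a a.2
          rwa [inv_inv] at this
        have := huc _ (hT8N hxi)
        show (a : G) * (x * u * x⁻¹) = x * u * x⁻¹ * a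
        calc (a : G) * (x * u * x⁻¹) = x * ((x⁻¹ * a * x) * u) * x⁻¹ := by group
          _ = x * (u * (x⁻¹ * a * x)) * x⁻¹ := by rw [this]
          _ = x * u * x⁻¹ * a := by group)
      have h := eq_zpowers_of_mem_prime hZ2 hz1
        (fun e => ne_one_of_orderOf_two hu (congrArg Subtype.val e))
      rw [← h, mem_zpowers_iff_mem_range_orderOf, ← Subgroup.orderOf_coe] at hzc
      rw [show orderOf u = 2 from hu] at hzc
      simp only [Finset.mem_image, Finset.mem_range] at hzc
      obtain ⟨i, hi, hie⟩ := hzc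
      interval_cases i
      · rw [pow_zero] at hie
        exact absurd (conj_eq_one_iff.1 (congrArg Subtype.val hie).symm) (ne_one_of_orderOf_two hu)
      · rw [pow_one] at hie
        exact (congrArg Subtype.val hie).symm
    exact hxN (hCu u hu huC ▸ Subgroup.mem_centralizer_singleton_iff.2 (mul_inv_eq_iff_eq_mul.1 hzx))
  obtain ⟨g, hg⟩ := thompson_transfer_sylow hno T T8 hT hidx2 hw
  set s := g⁻¹ * w * g with hs
  have hso : orderOf s = 2 := by
    have := orderOf_conj_eq g⁻¹ w; rw [inv_inv] at this; rw [hs, this, hw]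
  have hCs : Nat.card (Subgroup.centralizer ({s} : Set G)) = 8 := by
    rw [← hw8, hs, card_centralizer_conj]
  -- compare `s` with its conjugate under `x`
  have hsT8 : s ∈ T8 := hg
  set s' := x * s * x⁻¹ with hs'
  have hs'T8 : s' ∈ T8 := hnormal x hxT s hsT8
  have hs'o : orderOf s' = 2 := by rw [hs', orderOf_conj_eq, hso]
  have hCs' : Nat.card (Subgroup.centralizer ({s'} : Set G)) = 8 := by
    rw [← hCs, hs', ← card_centralizer_conj x⁻¹ s, inv_inv]
  have hnotC : ∀ v : G, orderOf v = 2 → Nat.card (Subgroup.centralizer ({v} : Set G)) = 8 →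
      v ∉ Subgroup.centralizer ((P : Subgroup G) : Set G) := fun v hv h8 hvC => by
    rw [hCu v hv hvC, hrc.1] at h8; omega
  set z := s * s' with hz
  have hzC : z ∈ Subgroup.centralizer ((P : Subgroup G) : Set G) := by
    rw [Subgroup.mem_centralizer_iff]
    intro y hy
    have h1 := inverts_of_sq hP (hT8N hsT8) (orderOf_eq_two_iff_sq.1 hso).2 (hnotC s hso hCs) (inv_mem hy)
    have h2 := inverts_of_sq hP (hT8N hs'T8) (orderOf_eq_two_iff_sq.1 hs'o).2 (hnotC s' hs'o hCs') hy
    calc y * z = (s * y⁻¹ * s⁻¹) * z := by rw [h1, inv_inv]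
      _ = s * (y⁻¹ * s') := by rw [hz]; group
      _ = s * ((s' * y * s'⁻¹) * s') := by rw [h2]
      _ = z * y := by rw [hz]; group
  have hx2 : x * x ∈ T8 :=
    ((Subgroup.mul_mem_iff_of_index_two hidx2 (a := ⟨x, hxT⟩) (b := ⟨x, hxT⟩)).2 Iff.rfl : _)
  have hzx : Commute x z := by
    show x * z = z * x
    rw [← mul_inv_eq_iff_eq_mul, hz, ← conj_mul, ← hs', hab s hsT8 s' hs'T8, hs']
    rw [show x * (x * s * x⁻¹) * x⁻¹ = (x * x) * s * (x * x)⁻¹ by group, hab _ hx2 s hsT8]
    group
  by_cases hz1 : z = 1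
  · have hss : s' = s := by
      have := eq_inv_of_mul_eq_one_right hz1
      rw [this, inv_eq_self_of_orderOf_two hso]
    have hTle : (T : Subgroup G) ≤ Subgroup.centralizer ({s} : Set G) := by
      intro y hy
      rw [Subgroup.mem_centralizer_singleton_iff]
      by_cases hy8 : y ∈ T8
      · exact hab y hy8 s hsT8
      · have hyx : y * x⁻¹ ∈ T8 :=
          ((Subgroup.mul_mem_iff_of_index_two hidx2 (a := ⟨y, hy⟩) (b := (⟨x, hxT⟩ : (T : Subgroup G))⁻¹)).2
            (iff_of_false hy8 (fun h => hx8 (inv_mem_iff.1 (show x⁻¹ ∈ T8 from h)))) : _)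
        have h1 := hab _ hyx s hsT8
        have h2 : x * s = s * x := mul_inv_eq_iff_eq_mul.1 (hs'.symm.trans hss)
        calc y * s = (y * x⁻¹) * (x * s) := by group
          _ = ((y * x⁻¹) * s) * x := by rw [h2]; group
          _ = s * y := by rw [h1]; group
    have := Subgroup.card_le_of_le hTle
    omega
  · have hzo : orderOf z = 2 := orderOf_eq_two_iff_sq.2 ⟨hz1, by
      calc z * z = s * (s' * s) * s' := by rw [hz]; group
        _ = (s * s) * (s' * s') := by rw [hab s' hs'T8 s hsT8]; group
        _ = 1 := by rw [(orderOf_eq_two_iff_sq.1 hso).2, (orderOf_eq_two_iff_sq.1 hs'o).2, one_mul]⟩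
    exact hxN (hCu z hzo hzC ▸ Subgroup.mem_centralizer_singleton_iff.2 hzx)

end CfsgLib.Classification.SmallOrders
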