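import Cfsg.Agent.Classification.SmallOrders.Tools

/-!
# No simple group of order 612 or 756
-/

set_option autoImplicit false

namespace CfsgLib.Classification.SmallOrders

open CfsgLib.Small

variable {G : Type*} [Group G] [Finite G] [IsSimpleGroup G]

theorem false_of_card_612 (hG : ¬ IsMulCommutative G) (hN : Nat.card G = 612) : False := by
  haveI := fact_prime Nat.prime_three
  haveI := fact_prime Nat.prime_two
  have hN' : Nat.card G = 3 ^ 2 * 68 := hN
  have hn : Nat.card (Sylow 3 G) = 34 := by
    have hd := card_sylow_dvd (p := 3) hN' (by norm_num)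
    have hmod := card_sylow_mod (G := G) 3
    have h2 := two_mul_card_dvd_factorial_sylow hG (p := 3) (by rw [hN]; norm_num)
    rw [hN] at h2
    have h5 : 5 ≤ Nat.card (Sylow 3 G) := by
      by_contra hlt
      exact absurd (h2.trans (Nat.factorial_dvd_factorial (show _ ≤ 4 by omega))) (by decide)
    have := mem_divisors_of_dvd hd (by norm_num)
    rw [show Nat.divisors 68 = {1, 2, 4, 17, 34, 68} by decide] at this
    simp only [Finset.mem_insert, Finset.mem_singleton] at this
    omega
  obtain ⟨D, P, R, c, d, -, hD, hDP, hPM, -, hMc, -, hcd, -, hfac, hn1, hnmod, hndvd⟩ :=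
    exists_inter_normalizer (p := 3) hG hN' (by norm_num) le_rfl (by rw [hn]; norm_num)
  have hd17 : 17 ≤ d := by
    rw [hN] at hfac
    by_contra hlt
    exact absurd (hfac.trans (Nat.factorial_dvd_factorial (show d ≤ 16 by omega))) (by decide)
  have hc4 : c ≤ 4 := by nlinarith
  have hnle : Nat.card (Sylow 3 ↥(Subgroup.normalizer (D : Set G))) = 4 ∧ c = 4 := by
    have hc0 : 0 < c := Nat.pos_of_ne_zero fun e => by subst e; simp at hcd
    have := Nat.le_of_dvd hc0 hndvd
    omega
  -- the Sylow normaliser has order 18
  have hP9 : Nat.card (P : Subgroup G) = 3 ^ 2 := card_sylow_eq hN' (by norm_num) P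
  have hN18 : Nat.card (Subgroup.normalizer ((P : Subgroup G) : Set G)) = 18 := by
    have := card_sylow_mul_card_normalizer P
    rw [hn, hN] at this
    omega
  have hab : IsMulCommutative (P : Subgroup G) := ⟨⟨IsPGroup.commutative_of_card_eq_prime_sq hP9⟩⟩
  obtain ⟨⟨t, htN⟩, ht⟩ := exists_prime_orderOf_dvd_card' 2 (show 2 ∣ Nat.card
    (Subgroup.normalizer ((P : Subgroup G) : Set G)) by rw [hN18]; norm_num)
  rw [← Subgroup.orderOf_coe] at ht
  change orderOf t = 2 at ht
  have htP : t ∉ (P : Subgroup G) := fun h => by
    have := Subgroup.orderOf_dvd_natCard _ h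
    rw [ht, hP9] at this
    norm_num at this
  have htt : t * t = 1 := (orderOf_eq_two_iff_sq.1 ht).2
  have hidx : ((P : Subgroup G).subgroupOf (Subgroup.normalizer ((P : Subgroup G) : Set G))).index = 2 := by
    have h1 := Subgroup.card_mul_index
      ((P : Subgroup G).subgroupOf (Subgroup.normalizer ((P : Subgroup G) : Set G)))
    rw [Nat.card_congr (Subgroup.subgroupOfEquivOfLe Subgroup.le_normalizer).toEquiv, hP9, hN18] at h1
    omega
  have hgen : ∀ y ∈ Subgroup.normalizer ((P : Subgroup G) : Set G),
      y ∈ (P : Subgroup G) ∨ ∃ a ∈ (P : Subgroup G), y = a * t := by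
    intro y hy
    by_cases hyP : y ∈ (P : Subgroup G)
    · exact Or.inl hyP
    refine Or.inr ⟨y * t, ?_, by rw [mul_assoc, htt, mul_one]⟩
    exact ((Subgroup.mul_mem_iff_of_index_two hidx (a := ⟨y, hy⟩) (b := ⟨t, htN⟩)).2
      (iff_of_false hyP htP) : _)
  have hinv := inverts_of_perfect (commutator_eq_top hG) P hab htN hgen
  -- so `t` normalises `D`
  have htM : t ∈ Subgroup.normalizer (D : Set G) := by
    rw [Subgroup.mem_normalizer_iff]
    have key : ∀ x ∈ D, t * x * t⁻¹ ∈ D := fun x hx => by
      rw [hinv x (hDP hx) (by rw [htt]; exact one_mem _)]; exact inv_mem hx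
    refine fun x => ⟨key x, fun hx => ?_⟩
    have ht' : t⁻¹ = t := inv_eq_self_of_orderOf_two ht
    have := key _ hx
    rwa [ht', show t * (t * x * t) * t = (t * t) * x * (t * t) by group, htt, one_mul, mul_one]
      at this
  have h9 := card_inf_normalizer_mul P hPM
  rw [hnle.1, hMc, hnle.2] at h9
  have hdvd := Subgroup.orderOf_dvd_natCard
    (Subgroup.normalizer (D : Set G) ⊓ Subgroup.normalizer ((P : Subgroup G) : Set G))
    (x := t) ⟨htM, htN⟩
  rw [ht] at hdvd
  have h9' : Nat.card (Subgroup.normalizer (D : Set G) ⊓
      Subgroup.normalizer ((P : Subgroup G) : Set G) : Subgroup G) = 9 := by omega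
  rw [h9'] at hdvd
  omega

theorem false_of_card_756 (hG : ¬ IsMulCommutative G) (hN : Nat.card G = 756) : False := by
  haveI := fact_prime Nat.prime_three
  have hN' : Nat.card G = 3 ^ 3 * 28 := hN
  have h2N : ∀ H : Subgroup G, H ≠ ⊤ → Nat.card H ≤ 84 := by
    intro H hH
    have h2 := two_mul_card_dvd_factorial_index hG H hH
    rw [hN] at h2
    have hm := Subgroup.card_mul_index H
    rw [hN] at hm
    by_contra hlt
    have h8 : H.index ≤ 8 := by nlinarith
    exact absurd (h2.trans (Nat.factorial_dvd_factorial h8)) (by decide)
  have hn : Nat.card (Sylow 3 G) = 28 := by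
    have hd := card_sylow_dvd (p := 3) hN' (by norm_num)
    have hmod := card_sylow_mod (G := G) 3
    have h2 := two_mul_card_dvd_factorial_sylow hG (p := 3) (by rw [hN]; norm_num)
    rw [hN] at h2
    have h9 : 9 ≤ Nat.card (Sylow 3 G) := by
      by_contra hlt
      exact absurd (h2.trans (Nat.factorial_dvd_factorial (show _ ≤ 8 by omega))) (by decide)
    have := mem_divisors_of_dvd hd (by norm_num)
    rw [show Nat.divisors 28 = {1, 2, 4, 7, 14, 28} by decide] at this
    simp only [Finset.mem_insert, Finset.mem_singleton] at this
    omega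
  -- proper subgroups of order divisible by 27 are Sylow subgroups
  have h27 : ∀ H : Subgroup G, H ≠ ⊤ → 27 ∣ Nat.card H → Nat.card H = 27 := by
    intro H hH hd
    obtain ⟨j, hj⟩ := hd
    have h84 := h2N H hH
    have hjd : j ∣ 28 := by
      have := Subgroup.card_subgroup_dvd_card H
      rw [hN', hj] at this
      exact Nat.dvd_of_mul_dvd_mul_left (by norm_num) this
    have hj3 : ¬ 3 ∣ j := fun h => by
      have := h.trans hjd
      norm_num at this
    have hsylH : Nat.card (Sylow 3 H) = 1 := by
      have hd := card_sylow_dvd (G := H) (p := 3) (k := 3) (by rw [hj]; norm_num) hj3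
      have hmod := card_sylow_mod (G := H) 3
      have hj0 : 0 < j := Nat.pos_of_dvd_of_pos hjd (by norm_num)
      have := Nat.le_of_dvd hj0 hd
      omega
    obtain ⟨E⟩ : Nonempty (Sylow 3 H) := inferInstance
    have hE : Nat.card (E : Subgroup H) = 3 ^ 3 :=
      card_sylow_eq (G := H) (k := 3) (by rw [hj]; norm_num) hj3 E
    set P : Sylow 3 G := Sylow.ofCard ((E : Subgroup H).map H.subtype) (by
      rw [Subgroup.card_map_of_injective H.subtype_injective, hE, hN',
        Nat.factorization_mul (by norm_num) (by norm_num), Finsupp.add_apply,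
        Nat.factorization_eq_zero_of_not_dvd (show ¬ 3 ∣ 28 by norm_num),
        Nat.Prime.factorization_pow Nat.prime_three, Finsupp.single_eq_same, add_zero]) with hPdef
    have hPH : (P : Subgroup G) ≤ H := by
      rw [hPdef, Sylow.coe_ofCard]; exact Subgroup.map_subtype_le _
    have hle := Subgroup.card_le_of_le (le_normalizer_of_card_sylow_one P hPH hsylH)
    have := card_sylow_mul_card_normalizer P
    rw [hn, hN] at this
    have : 0 < Nat.card H := Nat.card_pos
    omega
  -- all 3-local subgroups have normal 3-complements
  have hcomp : Cfsg.HasNormalPComplement 3 G := by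
    refine CfsgLib.Transfer.hasNormalPComplement_of_normalizers fun Q hQ hQ1 => ?_
    set N := Subgroup.normalizer (Q : Set G) with hNdef
    have hQtop : Q ≠ ⊤ := fun e => not_isPGroup_of_simple hG 3 (by
      rw [e] at hQ; exact hQ.of_equiv Subgroup.topEquiv)
    have hNtop : N ≠ ⊤ := normalizer_ne_top hQ1 hQtop
    by_cases hN27 : 27 ∣ Nat.card N
    · exact CfsgLib.Transfer.hasNormalPComplement_of_isPGroup
        (IsPGroup.of_card (n := 3) (by rw [h27 N hNtop hN27]; norm_num))
    -- the Sylow subgroups of `N` have order at most 9
    obtain ⟨E⟩ : Nonempty (Sylow 3 N) := inferInstance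
    obtain ⟨e, he⟩ := IsPGroup.iff_card.1 E.isPGroup'
    have hele : e ≤ 2 := by
      by_contra hlt
      refine hN27 (dvd_trans ?_ (Subgroup.card_subgroup_dvd_card (E : Subgroup N)))
      rw [he]
      exact pow_dvd_pow 3 (show 3 ≤ e by omega)
    have hEab : IsMulCommutative (E : Subgroup N) := by
      interval_cases e
      · haveI : Subsingleton (E : Subgroup N) := (Nat.card_eq_one_iff_unique.1 he).1
        exact ⟨⟨fun a b => Subsingleton.elim _ _⟩⟩
      · haveI : IsCyclic (E : Subgroup N) := isCyclic_of_prime_card (p := 3) (by simpa using he)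
        infer_instance
      · exact ⟨⟨IsPGroup.commutative_of_card_eq_prime_sq he⟩⟩
    have hNE : Subgroup.normalizer ((E : Subgroup N) : Set N) ≤
        Subgroup.centralizer ((E : Subgroup N) : Set N) := by
      by_cases he0 : e = 0
      · intro x _
        haveI : Subsingleton (E : Subgroup N) := (Nat.card_eq_one_iff_unique.1 (by rw [he, he0, pow_zero])).1
        refine Subgroup.mem_centralizer_iff.2 fun a ha => ?_
        have : a = 1 := congrArg Subtype.val
          (Subsingleton.elim (⟨a, ha⟩ : (E : Subgroup N)) 1)
        simp [this]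
      -- `N(E)` in `G` has order 27
      set E' := (E : Subgroup N).map N.subtype with hE'
      have hE'p : IsPGroup 3 E' := E.isPGroup'.map _
      obtain ⟨P, hEP⟩ := hE'p.exists_le_sylow
      have hE'1 : E' ≠ ⊥ := fun h => he0 (by
        rw [hE', Subgroup.map_eq_bot_iff_of_injective _ N.subtype_injective] at h
        rw [h, Subgroup.card_bot] at he
        exact (Nat.pow_eq_one.1 he.symm).resolve_left (by norm_num))
      have hM : Subgroup.normalizer (E' : Set G) ≠ ⊤ := normalizer_ne_top hE'1 (fun h => by
        refine not_isPGroup_of_simple hG 3 ?_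
        rw [h] at hE'p; exact hE'p.of_equiv Subgroup.topEquiv)
      have hMp : IsPGroup 3 (Subgroup.normalizer (E' : Set G)) := by
        by_cases hd : 27 ∣ Nat.card (Subgroup.normalizer (E' : Set G))
        · exact IsPGroup.of_card (n := 3) (by rw [h27 _ hM hd]; norm_num)
        · exfalso
          apply hd
          -- `E` has index at most three in `P`, or is a proper subgroup growing to order nine
          have hPc : Nat.card (P : Subgroup G) = 3 ^ 3 := card_sylow_eq hN' (by norm_num) P
          by_cases he2 : e = 2
          · have hnorm : (P : Subgroup G) ≤ Subgroup.normalizer (E' : Set G) := by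
              have h1 : Nat.card (E'.subgroupOf (P : Subgroup G)) = 9 := by
                rw [Nat.card_congr (Subgroup.subgroupOfEquivOfLe hEP).toEquiv,
                  Subgroup.card_map_of_injective N.subtype_injective, he, he2]
                norm_num
              haveI : (E'.subgroupOf (P : Subgroup G)).Normal := by
                refine Subgroup.normal_of_index_eq_minFac_card ?_
                have h2 := Subgroup.card_mul_index (E'.subgroupOf (P : Subgroup G))
                rw [h1, hPc] at h2
                rw [hPc, Nat.pow_minFac (by norm_num), Nat.prime_three.minFac_eq]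
                omega
              exact (Subgroup.normal_subgroupOf_iff_le_normalizer hEP).1 inferInstance
            exact dvd_trans (dvd_of_eq (by rw [hPc]; norm_num)) (Subgroup.card_dvd_of_le hnorm)
          · -- `e = 1`: `E` is not a Sylow subgroup of `N`
            exfalso
            have he1 : e = 1 := by omega
            have hQN : Q ≤ N := Subgroup.le_normalizer
            obtain ⟨P', hQP⟩ := hQ.exists_le_sylow
            have hlt : Q.subgroupOf (P' : Subgroup G) <
                Subgroup.normalizer ((Q.subgroupOf (P' : Subgroup G)) : Set (P' : Subgroup G)) := by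
              haveI : Group.IsNilpotent (P' : Subgroup G) := P'.isPGroup'.isNilpotent
              refine Group.normalizerCondition_of_isNilpotent _ (lt_top_iff_ne_top.2 fun h => ?_)
              have hle : (P' : Subgroup G) ≤ Q := Subgroup.subgroupOf_eq_top.1 h
              have h' : Nat.card (P' : Subgroup G) ∣ Nat.card N := Subgroup.card_dvd_of_le (hle.trans hQN)
              rw [card_sylow_eq hN' (by norm_num) P'] at h'
              exact hN27 (by simpa using h')
            have hsub : (Subgroup.normalizer ((Q.subgroupOf (P' : Subgroup G)) : Set (P' : Subgroup G))).map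
                (P' : Subgroup G).subtype ≤ N := by
              rintro _ ⟨x, hx, rfl⟩
              refine Subgroup.mem_normalizer_iff.2 fun y => ⟨fun hy => ?_, fun hy => ?_⟩
              · exact (Subgroup.mem_normalizer_iff.1 hx ⟨y, hQP hy⟩).1 hy
              · have hyP : y ∈ (P' : Subgroup G) := by
                  have := mul_mem (mul_mem (inv_mem x.2) (hQP hy)) x.2
                  simpa [mul_assoc] using this
                exact (Subgroup.mem_normalizer_iff.1 hx ⟨y, hyP⟩).2 hy
            have hgt : Nat.card Q < Nat.card (Subgroup.normalizer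
                ((Q.subgroupOf (P' : Subgroup G)) : Set (P' : Subgroup G))) := by
              rw [← Nat.card_congr (Subgroup.subgroupOfEquivOfLe hQP).toEquiv]
              exact Set.ncard_lt_ncard hlt (Set.toFinite _)
            obtain ⟨a, ha⟩ := IsPGroup.iff_card.1 (P'.isPGroup'.to_subgroup (Subgroup.normalizer
                ((Q.subgroupOf (P' : Subgroup G)) : Set (P' : Subgroup G))))
            obtain ⟨b, hb⟩ := IsPGroup.iff_card.1 hQ
            have hb0 : b ≠ 0 := fun h => hQ1 (Subgroup.card_eq_one.1 (by rw [hb, h, pow_zero]))
            rw [ha, hb] at hgt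
            have hab' := (Nat.pow_lt_pow_iff_right (by norm_num : 1 < 3)).1 hgt
            have hdv := Subgroup.card_dvd_of_le hsub
            rw [Subgroup.card_map_of_injective (P' : Subgroup G).subtype_injective, ha] at hdv
            have hmul := Subgroup.card_mul_index (E : Subgroup N)
            rw [he, he1, pow_one] at hmul
            have h9 : 3 ∣ (E : Subgroup N).index := by
              have := (pow_dvd_pow 3 (show 2 ≤ a by omega)).trans hdv
              rw [← hmul] at this
              exact Nat.dvd_of_mul_dvd_mul_left (by norm_num : 0 < 3) (by simpa [pow_two] using this)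
            exact E.not_dvd_index h9
      intro x hx
      -- elements of `N_N(E)` form a 3-group containing `E`, so lie in `E`
      have hxE : x ∈ (E : Subgroup N) := by
        have hxM : (x : G) ∈ Subgroup.normalizer (E' : Set G) :=
          Subgroup.le_normalizer_map N.subtype ⟨x, hx, rfl⟩
        obtain ⟨k, hk⟩ := hMp ⟨x, hxM⟩
        have hz : IsPGroup 3 (Subgroup.zpowers x) := by
          rintro ⟨_, i, rfl⟩
          refine ⟨k, Subtype.ext ?_⟩
          have hk0 : (x : G) ^ 3 ^ k = 1 := congrArg Subtype.val hk
          have hk' : x ^ 3 ^ k = 1 := Subtype.ext (by simpa using hk0)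
          show (x ^ i) ^ 3 ^ k = 1
          rw [← zpow_natCast, ← zpow_mul, mul_comm, zpow_mul, zpow_natCast, hk', one_zpow]
        exact ((hz.inf_normalizer_sylow E).le ⟨Subgroup.mem_zpowers x, hx⟩).2
      exact Subgroup.mem_centralizer_iff.2 fun a ha =>
        congrArg Subtype.val (mul_comm' (⟨a, ha⟩ : (E : Subgroup N)) ⟨x, hxE⟩)
    exact ⟨E, _, MonoidHom.normal_ker _, MonoidHom.ker_transferSylow_isComplement' E hNE⟩
  obtain ⟨P, K, hK, hc⟩ := hcomp
  rcases hK.eq_bot_or_eq_top with h | h
  · rw [h, Subgroup.isComplement'_bot_left] at hc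
    refine not_isPGroup_of_simple hG 3 ?_
    have hPp := P.isPGroup'
    rw [hc] at hPp
    exact hPp.of_equiv Subgroup.topEquiv
  · rw [h, Subgroup.isComplement'_top_left] at hc
    exact P.ne_bot_of_dvd_card (by rw [hN]; norm_num) hc

end CfsgLib.Classification.SmallOrders
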