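import Cfsg.Agent.Classification.SmallOrders.Order16
import Cfsg.Agent.Classification.SmallOrders.Case1040
import Cfsg.Agent.Small.ThompsonOrder

/-!
# No simple group of order 720
-/

set_option autoImplicit false

namespace CfsgLib.Classification.SmallOrders

open CfsgLib.Small

variable {G : Type*} [Group G] [Finite G] [IsSimpleGroup G]

omit [Finite G] [IsSimpleGroup G] in
/-- An involution fixing only the identity of an abelian group it normalises inverts it. -/
theorem inverts_of_fixedPointFree {P : Subgroup G} (hab : IsMulCommutative P) {s : G}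
    (hs : s * s = 1) (hsN : s ∈ Subgroup.normalizer (P : Set G))
    (hfpf : ∀ x ∈ P, s * x * s⁻¹ = x → x = 1) {x : G} (hx : x ∈ P) : s * x * s⁻¹ = x⁻¹ := by
  have hconj : s * x * s⁻¹ ∈ P := (Subgroup.mem_normalizer_iff.1 hsN x).1 hx
  have hcomm : s * x * s⁻¹ * x = x * (s * x * s⁻¹) :=
    congrArg Subtype.val (mul_comm' (⟨_, hconj⟩ : P) ⟨x, hx⟩)
  refine eq_inv_of_mul_eq_one_right (hfpf _ (mul_mem hx hconj) ?_)
  calc s * (x * (s * x * s⁻¹)) * s⁻¹ = (s * x * s⁻¹) * ((s * s) * x * (s * s)⁻¹) := by group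
    _ = (s * x * s⁻¹) * x := by rw [hs]; group
    _ = x * (s * x * s⁻¹) := hcomm

omit [Finite G] [IsSimpleGroup G] in
/-- Two inverting involutions whose product lies in a group of odd exponent are conjugate by an
element of that group. -/
theorem conj_of_inverting {P : Subgroup G} {s v : G} (hs : s * s = 1)
    (hinv : ∀ x ∈ P, s * x * s⁻¹ = x⁻¹) (hvs : v * s ∈ P) (n : ℕ)
    (hn : ∀ a ∈ P, a ^ (2 * n) = a) : ∃ b ∈ P, b * s * b⁻¹ = v := by
  refine ⟨(v * s) ^ n, pow_mem hvs n, ?_⟩
  have h := hinv _ (pow_mem hvs n)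
  calc (v * s) ^ n * s * ((v * s) ^ n)⁻¹
      = (v * s) ^ n * s * (s * (v * s) ^ n * s⁻¹) := by rw [h]
    _ = (v * s) ^ n * (s * s) * (v * s) ^ n * s⁻¹ := by group
    _ = (v * s) ^ (2 * n) * s⁻¹ := by rw [hs, mul_one, ← pow_add, two_mul]
    _ = v := by rw [hn _ hvs]; group

/-- An index bound for proper subgroups. -/
theorem card_le_90 (hG : ¬ IsMulCommutative G) (hN : Nat.card G = 720) {H : Subgroup G}
    (hH : H ≠ ⊤) : Nat.card H ≤ 90 := by
  have h2 := two_mul_card_dvd_factorial_index hG H hH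
  rw [hN] at h2
  have hm := Subgroup.card_mul_index H
  rw [hN] at hm
  by_contra hlt
  have h7 : H.index ≤ 7 := by nlinarith
  exact absurd (h2.trans (Nat.factorial_dvd_factorial h7)) (by decide)

/-- Sylow 5-subgroups are self-centralising, with normalisers of order twenty. -/
theorem sylow_five_720 (hG : ¬ IsMulCommutative G) (hN : Nat.card G = 720) [Fact (Nat.Prime 5)]
    (P : Sylow 5 G) :
    Nat.card (Sylow 5 G) = 36 ∧ Nat.card (P : Subgroup G) = 5 ∧
      Subgroup.centralizer ((P : Subgroup G) : Set G) = P ∧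
      Nat.card (Subgroup.normalizer ((P : Subgroup G) : Set G)) = 20 := by
  haveI := fact_prime Nat.prime_two
  have hN' : Nat.card G = 5 ^ 1 * 144 := hN
  have hp : 5 ∣ Nat.card G := by rw [hN]; norm_num
  have hP : Nat.card (P : Subgroup G) = 5 := by simpa using card_sylow_eq hN' (by norm_num) P
  obtain ⟨r, c, hr, hr1, hNc, hCc⟩ := exists_relIndex hG P hP
  have hmul := card_sylow_mul_card_normalizer P
  rw [hN, hNc] at hmul
  have hr' := mem_divisors_of_dvd hr (by norm_num)
  rw [show Nat.divisors (5 - 1) = {1, 2, 4} by decide] at hr'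
  simp only [Finset.mem_insert, Finset.mem_singleton] at hr'
  have hn : Nat.card (Sylow 5 G) = 36 := by
    have hd := card_sylow_mem hG hN' one_ne_zero (by norm_num)
    have h2 := two_mul_card_dvd_factorial_sylow hG hp
    rw [hN] at h2
    rw [show (Nat.divisors 144).filter (fun d => d % 5 = 1 ∧ d ≠ 1) = {6, 16, 36} by decide] at hd
    simp only [Finset.mem_insert, Finset.mem_singleton] at hd
    rcases hd with e | e | e
    · rw [e] at h2; exact absurd h2 (by decide)
    · rw [e] at hmul
      rcases hr' with rfl | rfl | rfl <;> omega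
    · exact e
  rw [hn] at hmul
  have hPC : (P : Subgroup G) ≤ Subgroup.centralizer ((P : Subgroup G) : Set G) := by
    haveI : IsCyclic ↥(P : Subgroup G) := isCyclic_of_prime_card hP
    exact Subgroup.le_centralizer (P : Subgroup G)
  by_cases hc1 : c = 1
  · subst hc1
    refine ⟨hn, hP, (Subgroup.eq_of_le_of_card_ge hPC (by rw [hCc, hP])).symm, ?_⟩
    rw [hNc]; omega
  exfalso
  have hrc : r = 2 ∧ c = 2 := by rcases hr' with rfl | rfl | rfl <;> omega
  obtain ⟨⟨u, huC⟩, hu⟩ := exists_prime_orderOf_dvd_card' 2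
    (show 2 ∣ Nat.card (Subgroup.centralizer ((P : Subgroup G) : Set G)) by rw [hCc, hrc.2]; norm_num)
  rw [← Subgroup.orderOf_coe] at hu
  change orderOf u = 2 at hu
  set H : Subgroup G := Subgroup.centralizer ({u} : Set G) with hH
  have hPH : (P : Subgroup G) ≤ H := fun x hx =>
    Subgroup.mem_centralizer_singleton_iff.2 (Subgroup.mem_centralizer_iff.1 huC x hx)
  have h8 : 8 ∣ Nat.card H := eight_dvd_card_centralizer hG (m := 45) hN (by norm_num) hu
  have hHtop : H ≠ ⊤ := fun e => by
    have := CfsgLib.Small.centralizer_singleton_eq_top_iff.1 e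
    rw [center_eq_bot_of_simple hG, Subgroup.mem_bot] at this
    exact ne_one_of_orderOf_two hu this
  have h90 := card_le_90 hG hN hHtop
  set N := Subgroup.normalizer ((P : Subgroup G) : Set G) with hNdef
  have hX : Nat.card (H ⊓ N : Subgroup G) ∣ 20 := by
    have h := Subgroup.card_dvd_of_le (inf_le_right : H ⊓ N ≤ N)
    rw [hNc, hrc.1, hrc.2] at h
    exact h
  have hX10 : 10 ∣ Nat.card (H ⊓ N : Subgroup G) := by
    have h5 := Subgroup.card_dvd_of_le (le_inf hPH Subgroup.le_normalizer : (P : Subgroup G) ≤ H ⊓ N)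
    rw [hP] at h5
    have h2 := Subgroup.orderOf_dvd_natCard (H ⊓ N) (x := u)
      ⟨Subgroup.mem_centralizer_singleton_iff.2 rfl, Subgroup.centralizer_le_normalizer _ huC⟩
    rw [hu] at h2
    omega
  have hinf := card_inf_normalizer_mul P hPH
  rw [← hNdef] at hinf
  have hmod := card_sylow_mod (G := H) 5
  have hXle := Nat.le_of_dvd (by norm_num) hX
  have hXpos : 0 < Nat.card (H ⊓ N : Subgroup G) := Nat.card_pos
  have hXval : Nat.card (H ⊓ N : Subgroup G) = 10 ∨ Nat.card (H ⊓ N : Subgroup G) = 20 := by omega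
  rcases hXval with hx | hx <;> rw [hx] at hinf <;> omega

/-- An element commuting with an element of order five is a power of it. -/
theorem mem_zpowers_of_commute_five (hG : ¬ IsMulCommutative G) (hN : Nat.card G = 720)
    {y x : G} (hy : orderOf y = 5) (h : Commute x y) : x ∈ Subgroup.zpowers y := by
  haveI := fact_prime Nat.prime_five
  obtain ⟨P, hP⟩ := (IsPGroup.of_card (n := 1) (by rw [Nat.card_zpowers, hy, pow_one]) :
    IsPGroup 5 (Subgroup.zpowers y)).exists_le_sylow
  obtain ⟨-, hPc, hC, -⟩ := sylow_five_720 hG hN P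
  have hy1 : y ≠ 1 := fun e => by rw [e, orderOf_one] at hy; omega
  have hxC := mem_centralizer_of_commute_prime hPc (hP (Subgroup.mem_zpowers y)) hy1 h
  rw [hC, ← eq_zpowers_of_mem_prime hPc (hP (Subgroup.mem_zpowers y)) hy1] at hxC
  exact hxC

/-- An involution whose centraliser is a Sylow 2-subgroup, and which is a square there. -/
theorem exists_central_square_720 (hG : ¬ IsMulCommutative G) (hN : Nat.card G = 720) :
    ∃ t y : G, orderOf t = 2 ∧ Nat.card (Subgroup.centralizer ({t} : Set G)) = 16 ∧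
      y ∈ Subgroup.centralizer ({t} : Set G) ∧ y * y = t := by
  classical
  haveI := fact_prime Nat.prime_five
  haveI := fact_prime Nat.prime_two
  obtain ⟨P⟩ : Nonempty (Sylow 5 G) := inferInstance
  obtain ⟨hn, hP, hC, hN20⟩ := sylow_five_720 hG hN P
  set N := Subgroup.normalizer ((P : Subgroup G) : Set G) with hNdef
  obtain ⟨⟨t, htN⟩, ht⟩ := exists_prime_orderOf_dvd_card' 2 (show 2 ∣ Nat.card N by rw [hN20]; norm_num)
  rw [← Subgroup.orderOf_coe] at ht
  change orderOf t = 2 at ht
  have htt : t * t = 1 := (orderOf_eq_two_iff_sq.1 ht).2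
  have hnotC : ∀ v : G, orderOf v = 2 → v ∉ Subgroup.centralizer ((P : Subgroup G) : Set G) := by
    intro v hv hvC
    rw [hC] at hvC
    have := Subgroup.orderOf_dvd_natCard _ hvC
    rw [hv, hP] at this
    omega
  have hinv : ∀ v ∈ N, orderOf v = 2 → ∀ x ∈ (P : Subgroup G), v * x * v⁻¹ = x⁻¹ := fun v hv hvo x hx =>
    inverts_of_sq hP hv (orderOf_eq_two_iff_sq.1 hvo).2 (hnotC v hvo) hx
  -- a cyclic subgroup of order four of `N(P)` containing `t`
  obtain ⟨E, hE⟩ := (IsPGroup.of_card (n := 1) (by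
    rw [Nat.card_zpowers, ← Subgroup.orderOf_coe, ht, pow_one]) :
      IsPGroup 2 (Subgroup.zpowers (⟨t, htN⟩ : N))).exists_le_sylow
  have hEc : Nat.card (E : Subgroup N) = 4 := by
    simpa using card_sylow_eq (G := N) (p := 2) (k := 2) (m := 5) (by rw [hN20]; norm_num)
      (by norm_num) E
  have hEab : ∀ a b : (E : Subgroup N), a * b = b * a :=
    IsPGroup.commutative_of_card_eq_prime_sq (p := 2) (by rw [hEc]; norm_num)
  have hEt : ∀ a : (E : Subgroup N), ((a : N) : G) ∈ Subgroup.centralizer ({t} : Set G) := fun a =>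
    Subgroup.mem_centralizer_singleton_iff.2 (congrArg (fun w : (E : Subgroup N) => ((w : N) : G))
      (hEab a ⟨_, hE (Subgroup.mem_zpowers _)⟩))
  obtain ⟨y, hyE, hy2⟩ : ∃ y : N, y ∈ (E : Subgroup N) ∧ (y : G) * y = t := by
    obtain ⟨y, hyne⟩ : ∃ y : (E : Subgroup N), ((y : N) : G) ≠ 1 ∧ ((y : N) : G) ≠ t := by
      by_contra hcon
      push Not at hcon
      have := Nat.card_le_card_of_injective
        (fun y : (E : Subgroup N) => if ((y : N) : G) = 1 then (0 : Fin 2) else 1) (fun a b hab => by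
          apply Subtype.ext; apply Subtype.ext
          dsimp only at hab
          by_cases ha : ((a : N) : G) = 1 <;> by_cases hb : ((b : N) : G) = 1
          · rw [ha, hb]
          · simp [ha, hb] at hab
          · simp [ha, hb] at hab
          · rw [hcon a ha, hcon b hb])
      rw [hEc, Nat.card_eq_fintype_card, Fintype.card_fin] at this
      omega
    refine ⟨y, y.2, ?_⟩
    have h4 : ((y : N) : G) ^ 4 = 1 := by
      have h := pow_card_eq_one' (x := y)
      rw [hEc] at h
      exact congrArg (fun w : (E : Subgroup N) => ((w : N) : G)) h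
    by_cases h2 : ((y : N) : G) * (y : N) = 1
    · exfalso
      -- a second involution differs from `t` by an element of `P`
      have hyo : orderOf ((y : N) : G) = 2 := orderOf_eq_two_iff_sq.2 ⟨hyne.1, h2⟩
      have hyt : ((y : N) : G) * t ∈ (P : Subgroup G) := by
        rw [← hC, Subgroup.mem_centralizer_iff]
        intro x hx
        have h1 := hinv _ (y : N).2 hyo _ (inv_mem hx)
        have h3 := hinv t htN ht x hx
        calc x * (((y : N) : G) * t)
            = ((y : N) : G) * x⁻¹ * ((y : N) : G)⁻¹ * ((y : N) * t) := by rw [h1, inv_inv]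
          _ = ((y : N) : G) * (x⁻¹ * t) := by group
          _ = ((y : N) : G) * (t * x * t⁻¹ * t) := by rw [h3]
          _ = ((y : N) : G) * t * x := by group
      have hd := Subgroup.orderOf_dvd_natCard _ hyt
      rw [hP] at hd
      have h4' : (((y : N) : G) * t) ^ 4 = 1 := by
        have hc := Subgroup.mem_centralizer_singleton_iff.1 (hEt y)
        rw [Commute.mul_pow hc, h4, one_mul, show (4 : ℕ) = 2 * 2 from rfl, pow_mul, pow_two t,
          htt, one_pow]
      have h1 : ((y : N) : G) * t = 1 := orderOf_eq_one_iff.1 (Nat.eq_one_of_dvd_coprimes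
        (by norm_num : Nat.Coprime 4 5) (orderOf_dvd_of_pow_eq_one h4') hd)
      exact hyne.2 (by rw [eq_inv_of_mul_eq_one_left h1, inv_eq_self_of_orderOf_two ht])
    · have ho : orderOf (((y : N) : G) * (y : N)) = 2 := orderOf_eq_two_iff_sq.2 ⟨h2, by
        rw [← h4, pow_succ, pow_succ, pow_two]; group⟩
      by_contra hne
      -- the square inverts `P`, hence differs from `t` by an element of `P`
      have hyt : ((y : N) : G) * (y : N) * t ∈ (P : Subgroup G) := by
        rw [← hC, Subgroup.mem_centralizer_iff]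
        intro x hx
        have h1 := hinv _ (mul_mem (y : N).2 (y : N).2) ho _ (inv_mem hx)
        have h3 := hinv t htN ht x hx
        set s := ((y : N) : G) * (y : N)
        calc x * (s * t) = s * x⁻¹ * s⁻¹ * (s * t) := by rw [h1, inv_inv]
          _ = s * (x⁻¹ * t) := by group
          _ = s * (t * x * t⁻¹ * t) := by rw [h3]
          _ = s * t * x := by group
      have hd := Subgroup.orderOf_dvd_natCard _ hyt
      rw [hP] at hd
      have hc := Subgroup.mem_centralizer_singleton_iff.1 (hEt y)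
      have h4' : (((y : N) : G) * (y : N) * t) ^ 4 = 1 := by
        rw [Commute.mul_pow ((show Commute ((y : N) : G) t from hc).mul_left hc),
          Commute.mul_pow (Commute.refl _), h4, one_mul, one_mul,
          show (4 : ℕ) = 2 * 2 from rfl, pow_mul, pow_two t, htt, one_pow]
      have h1 := orderOf_eq_one_iff.1 (Nat.eq_one_of_dvd_coprimes
        (by norm_num : Nat.Coprime 4 5) (orderOf_dvd_of_pow_eq_one h4') hd)
      exact hne (by rw [eq_inv_of_mul_eq_one_left h1, inv_eq_self_of_orderOf_two ht])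
  refine ⟨t, y, ht, ?_, hEt ⟨y, hyE⟩, hy2⟩
  -- the action of `C(t)` on the fixed points of `t`
  set Ct := Subgroup.centralizer ({t} : Set G) with hCt
  have hH4 : Nat.card (Ct ⊓ N : Subgroup G) = 4 := by
    have h4 : 4 ∣ Nat.card (Ct ⊓ N : Subgroup G) := by
      have hle : (E : Subgroup N).map N.subtype ≤ Ct ⊓ N := by
        rintro _ ⟨a, ha, rfl⟩; exact ⟨hEt ⟨a, ha⟩, a.2⟩
      have h := Subgroup.card_dvd_of_le hle
      rwa [Subgroup.card_map_of_injective N.subtype_injective, hEc] at h
    have h20 : Nat.card (Ct ⊓ N : Subgroup G) ∣ 20 := hN20 ▸ Subgroup.card_dvd_of_le inf_le_right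
    have h5 : ¬ 5 ∣ Nat.card (Ct ⊓ N : Subgroup G) := by
      intro h
      obtain ⟨⟨x, hx⟩, hxo⟩ := exists_prime_orderOf_dvd_card' 5 h
      rw [← Subgroup.orderOf_coe] at hxo
      change orderOf x = 5 at hxo
      have hz : IsPGroup 5 (Subgroup.zpowers x) :=
        IsPGroup.of_card (n := 1) (by rw [Nat.card_zpowers, hxo, pow_one])
      have hxP : x ∈ (P : Subgroup G) :=
        ((hz.inf_normalizer_sylow P).le ⟨Subgroup.mem_zpowers x, hx.2⟩).2
      refine hnotC t ht (mem_centralizer_of_commute_prime hP hxP (fun e => ?_)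
        (Subgroup.mem_centralizer_singleton_iff.1 hx.1).symm)
      rw [e, orderOf_one] at hxo; omega
    have := mem_divisors_of_dvd h20 (by norm_num)
    rw [show Nat.divisors 20 = {1, 2, 4, 5, 10, 20} by decide] at this
    simp only [Finset.mem_insert, Finset.mem_singleton] at this
    omega
  have htP : t • P = P := Sylow.smul_eq_iff_mem_normalizer.2 htN
  let S : SubMulAction ↥Ct (Sylow 5 G) :=
    { carrier := {R | t • R = R}
      smul_mem' := fun g R hR => by
        show t • (g : G) • R = (g : G) • R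
        rw [smul_smul, ← Subgroup.mem_centralizer_singleton_iff.1 g.2, ← smul_smul, hR] }
  let P₀ : S := ⟨P, htP⟩
  have horb : MulAction.orbit ↥Ct P₀ = Set.univ := by
    refine Set.eq_univ_of_forall fun R => ?_
    obtain ⟨g, hg⟩ := MulAction.exists_smul_eq G P (R : Sylow 5 G)
    have hv : g⁻¹ * t * g ∈ N := Sylow.smul_eq_iff_mem_normalizer.1 (by
      rw [mul_smul, mul_smul, hg, show t • (R : Sylow 5 G) = R from R.2, ← hg, inv_smul_smul])
    have hvo : orderOf (g⁻¹ * t * g) = 2 := by
      have := orderOf_conj_eq g⁻¹ t; rw [inv_inv] at this; rw [this, ht]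
    have hvt : (g⁻¹ * t * g) * t ∈ (P : Subgroup G) := by
      rw [← hC, Subgroup.mem_centralizer_iff]
      intro x hx
      have h1 := hinv _ hv hvo _ (inv_mem hx)
      have h3 := hinv t htN ht x hx
      set s := g⁻¹ * t * g
      calc x * (s * t) = s * x⁻¹ * s⁻¹ * (s * t) := by rw [h1, inv_inv]
        _ = s * (x⁻¹ * t) := by group
        _ = s * (t * x * t⁻¹ * t) := by rw [h3]
        _ = s * t * x := by group
    obtain ⟨b, hb, hbt⟩ := conj_of_inverting htt (hinv t htN ht) hvt 3 (fun a ha => by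
      have h5 : a ^ 5 = 1 := orderOf_dvd_iff_pow_eq_one.1 (hP ▸ Subgroup.orderOf_dvd_natCard _ ha)
      rw [show 2 * 3 = 5 + 1 from rfl, pow_add, h5, one_mul, pow_one])
    have hgb : g * b ∈ Ct := Subgroup.mem_centralizer_singleton_iff.2 (by
      calc g * b * t = g * (b * t * b⁻¹) * b := by group
        _ = t * (g * b) := by rw [hbt]; group)
    refine ⟨⟨g * b, hgb⟩, Subtype.ext ?_⟩
    show (g * b) • P = R
    rw [mul_smul, Sylow.smul_eq_iff_mem_normalizer.2 (Subgroup.le_normalizer hb), hg]
  have hst : Nat.card (MulAction.stabilizer ↥Ct P₀) = 4 := by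
    have hle : (MulAction.stabilizer ↥Ct P₀).map Ct.subtype = Ct ⊓ N := by
      refine le_antisymm ?_ ?_
      · rintro _ ⟨g, hg, rfl⟩
        exact ⟨g.2, Sylow.smul_eq_iff_mem_normalizer.1 (congrArg Subtype.val hg)⟩
      · rintro g ⟨hg1, hg2⟩
        exact ⟨⟨g, hg1⟩, Subtype.ext (Sylow.smul_eq_iff_mem_normalizer.2 hg2), rfl⟩
    rw [← Subgroup.card_map_of_injective Ct.subtype_injective, hle, hH4]
  have hCf : Nat.card Ct = 4 * Nat.card S := by
    have hidx := MulAction.index_stabilizer ↥Ct P₀
    rw [horb, Set.ncard_univ] at hidx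
    have h := Subgroup.card_mul_index (MulAction.stabilizer ↥Ct P₀)
    rw [hst, hidx] at h
    exact h.symm
  -- at most eight fixed points
  have h4 := four_dvd_moved hG (α := Sylow 5 G) htt
  cases nonempty_fintype (Sylow 5 G)
  rw [Nat.card_eq_fintype_card (α := {R : Sylow 5 G // t • R ≠ R}), Fintype.card_subtype_compl,
    ← Nat.card_eq_fintype_card, ← Nat.card_eq_fintype_card, hn] at h4
  have hSF : Nat.card S = Nat.card {R : Sylow 5 G // t • R = R} := Nat.card_congr (Equiv.refl _)
  have hle : (Nat.card {R : Sylow 5 G // t • R = R} - 1) * 5 ≤ 35 := by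
    have hinj := Nat.card_le_card_of_injective
      (fun z : {R : Sylow 5 G // t • R = R ∧ R ≠ P} × ↥(P : Subgroup G) =>
        (⟨(z.2 : G) • (z.1 : Sylow 5 G), fun h => z.1.2.2 (by
          have hP' : (z.2 : G)⁻¹ • P = P :=
            Sylow.smul_eq_iff_mem_normalizer.2 (Subgroup.le_normalizer (inv_mem z.2.2))
          exact (inv_smul_smul (z.2 : G) (z.1 : Sylow 5 G)).symm.trans
            ((congrArg ((z.2 : G)⁻¹ • ·) h).trans hP'))⟩ : {R : Sylow 5 G // R ≠ P})) ?_
    · rw [Nat.card_prod, hP, Nat.card_eq_fintype_card (α := {R : Sylow 5 G // R ≠ P}),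
        Fintype.card_subtype_compl, Fintype.card_subtype_eq, ← Nat.card_eq_fintype_card, hn] at hinj
      refine le_trans (Nat.mul_le_mul_right _ ?_) hinj
      rw [Nat.card_eq_fintype_card, Nat.card_eq_fintype_card, Fintype.card_subtype,
        Fintype.card_subtype, ← Finset.card_erase_of_mem (a := P) (by simp [htP])]
      exact Finset.card_le_card fun R hR => by
        simp only [Finset.mem_erase, Finset.mem_filter, Finset.mem_univ, true_and] at hR ⊢
        exact ⟨hR.2, hR.1⟩
    · rintro ⟨⟨R, hR, hRP⟩, a⟩ ⟨⟨R', hR', hRP'⟩, b⟩ h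
      have h' : (a : G) • R = (b : G) • R' := congrArg Subtype.val h
      set e := (b : G)⁻¹ * a with he
      have heP : e ∈ (P : Subgroup G) := mul_mem (inv_mem b.2) a.2
      have heR : e • R = R' := by rw [he, mul_smul, h', inv_smul_smul]
      have hti : t⁻¹ • R = R := by rw [inv_smul_eq_iff, hR]
      have hk : (t * e * t⁻¹ * e⁻¹) • R' = R' := by
        rw [mul_smul, mul_smul, mul_smul, ← heR, inv_smul_smul, hti, heR, hR']
      rw [hinv t htN ht e heP] at hk
      have he1 : e = 1 := by
        by_contra he1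
        refine hRP' (eq_of_smul_eq hP (mul_mem (inv_mem heP) (inv_mem heP)) (fun e2 => he1 ?_) hk)
        have hee : e ^ 2 = 1 := by
          rw [pow_two, ← inv_eq_one, mul_inv_rev]; exact e2
        have hd := Subgroup.orderOf_dvd_natCard _ heP
        rw [hP] at hd
        exact orderOf_eq_one_iff.1 (Nat.eq_one_of_dvd_coprimes (by norm_num : Nat.Coprime 5 2) hd
          (orderOf_dvd_of_pow_eq_one hee))
      have hRR : R = R' := by rw [← heR, he1, one_smul]
      subst hRR
      exact Prod.ext rfl (Subtype.ext (inv_mul_eq_one.1 (he ▸ he1)).symm)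
  have hdvd : Nat.card Ct ∣ 720 := hN ▸ Subgroup.card_subgroup_dvd_card Ct
  have hpos : 0 < Nat.card {R : Sylow 5 G // t • R = R} := by
    haveI : Nonempty {R : Sylow 5 G // t • R = R} := ⟨⟨P, htP⟩⟩
    exact Nat.card_pos
  rw [hSF] at hCf
  rcases (show Nat.card {R : Sylow 5 G // t • R = R} = 4 ∨
    Nat.card {R : Sylow 5 G // t • R = R} = 8 by omega) with e | e <;> rw [e] at hCf
  · exact hCf
  · rw [hCf] at hdvd; norm_num at hdvd

/-- Every Sylow 2-subgroup is the centraliser of an involution which is a square in it. -/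
theorem sylow_two_720 (hG : ¬ IsMulCommutative G) (hN : Nat.card G = 720) [Fact (Nat.Prime 2)]
    (T : Sylow 2 G) : ∃ z y : G, orderOf z = 2 ∧
      Subgroup.centralizer ({z} : Set G) = T ∧ y ∈ (T : Subgroup G) ∧ y * y = z := by
  obtain ⟨t, y, ht, hC, hyC, hy⟩ := exists_central_square_720 hG hN
  obtain ⟨T₀, hT₀⟩ := (IsPGroup.of_card (n := 4) (by rw [hC]; norm_num) :
    IsPGroup 2 (Subgroup.centralizer ({t} : Set G))).exists_le_sylow
  have hTc : ∀ T : Sylow 2 G, Nat.card (T : Subgroup G) = 16 := fun T => by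
    simpa using card_sylow_eq (G := G) (k := 4) (m := 45) hN (by norm_num) T
  have hT₀eq : Subgroup.centralizer ({t} : Set G) = (T₀ : Subgroup G) :=
    Subgroup.eq_of_le_of_card_ge hT₀ (by rw [hC, hTc])
  obtain ⟨g, rfl⟩ := MulAction.exists_smul_eq G T₀ T
  have hmem : ∀ x : G, x ∈ ((g • T₀ : Sylow 2 G) : Subgroup G) ↔ g⁻¹ * x * g ∈ (T₀ : Subgroup G) := by
    intro x
    rw [Sylow.coe_subgroup_smul, Subgroup.mem_pointwise_smul_iff_inv_smul_mem, ← map_inv]
    simp [MulAut.smul_def]
  refine ⟨g * t * g⁻¹, g * y * g⁻¹, by rw [orderOf_conj_eq, ht], ?_, ?_, by rw [conj_mul, hy]⟩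
  · ext x
    rw [hmem, ← hT₀eq, Subgroup.mem_centralizer_singleton_iff, Subgroup.mem_centralizer_singleton_iff]
    constructor
    · intro h
      calc g⁻¹ * x * g * t = g⁻¹ * (x * (g * t * g⁻¹)) * g := by group
        _ = g⁻¹ * (g * t * g⁻¹ * x) * g := by rw [h]
        _ = t * (g⁻¹ * x * g) := by group
    · intro h
      calc x * (g * t * g⁻¹) = g * (g⁻¹ * x * g * t) * g⁻¹ := by group
        _ = g * (t * (g⁻¹ * x * g)) * g⁻¹ := by rw [h]
        _ = g * t * g⁻¹ * x := by group
  · rw [hmem, ← hT₀eq, show g⁻¹ * (g * y * g⁻¹) * g = y by group]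
    exact hyC

/-- The normaliser of a common subgroup of order three of two Sylow 3-subgroups. -/
theorem normalizer_common_720 (hG : ¬ IsMulCommutative G) (hN : Nat.card G = 720)
    [Fact (Nat.Prime 3)] {P R : Sylow 3 G} (hne : P ≠ R) {D : Subgroup G} (hD : Nat.card D = 3)
    (hDP : D ≤ (P : Subgroup G)) (hDR : D ≤ (R : Subgroup G)) :
    (P : Subgroup G) ≤ Subgroup.normalizer (D : Set G) ∧
    (R : Subgroup G) ≤ Subgroup.normalizer (D : Set G) ∧
    Nat.card (Sylow 3 (Subgroup.normalizer (D : Set G))) = 4 ∧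
    (Nat.card (Subgroup.normalizer (D : Set G)) = 36 ∨
      Nat.card (Subgroup.normalizer (D : Set G)) = 72) := by
  haveI := fact_prime Nat.prime_five
  have hN' : Nat.card G = 3 ^ 2 * 80 := hN
  have habS : ∀ S : Sylow 3 G, D ≤ (S : Subgroup G) →
      (S : Subgroup G) ≤ Subgroup.normalizer (D : Set G) := by
    intro S hS
    refine le_trans ?_ (Subgroup.centralizer_le_normalizer _)
    intro a ha
    rw [Subgroup.mem_centralizer_iff]
    intro d hd
    exact congrArg Subtype.val (IsPGroup.commutative_of_card_eq_prime_sq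
      (card_sylow_eq hN' (by norm_num) S) ⟨d, hS hd⟩ ⟨a, ha⟩)
  have hPM := habS P hDP
  have hRM := habS R hDR
  refine ⟨hPM, hRM, ?_⟩
  set M := Subgroup.normalizer (D : Set G) with hM
  have hMtop : M ≠ ⊤ := normalizer_ne_top (fun e => by rw [e, Subgroup.card_bot] at hD; omega)
    (fun e => by
      have := Subgroup.card_top (G := G)
      rw [← e, hD, hN] at this; omega)
  obtain ⟨c, hc⟩ := (card_sylow_eq hN' (by norm_num) P) ▸ Subgroup.card_dvd_of_le hPM
  have h90 := card_le_90 hG hN hMtop
  have hcd : c ∣ 80 := by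
    have := Subgroup.card_subgroup_dvd_card M
    rw [hc, hN'] at this
    exact Nat.dvd_of_mul_dvd_mul_left (by norm_num) this
  have hc5 : ¬ 5 ∣ c := by
    intro h
    obtain ⟨⟨y, hyM⟩, hy⟩ := exists_prime_orderOf_dvd_card' 5
      (show 5 ∣ Nat.card M by rw [hc]; exact h.mul_left _)
    rw [← Subgroup.orderOf_coe] at hy
    change orderOf y = 5 at hy
    have hrel := relIndex_centralizer_dvd_pred hD
    have hy2 : y * y ∈ Subgroup.centralizer (D : Set G) := by
      rcases (Nat.dvd_prime Nat.prime_two).1 hrel with e | e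
      · exact Subgroup.relIndex_eq_one.1 e (mul_mem hyM hyM)
      · exact (Subgroup.mul_self_mem_of_index_two e ⟨y, hyM⟩ : _)
    have hy6 : (y * y) ^ 3 = y := by
      rw [← pow_two, ← pow_mul, show 2 * 3 = 5 + 1 from rfl, pow_add, ← hy, pow_orderOf_eq_one,
        one_mul, pow_one]
    haveI : Nontrivial D := Finite.one_lt_card_iff_nontrivial.1 (by omega)
    obtain ⟨⟨d, hd⟩, hd1⟩ := exists_ne (1 : D)
    have hcomm : Commute d y := hy6 ▸ Subgroup.mem_centralizer_iff.1 (pow_mem hy2 3) d hd
    have hdy := mem_zpowers_of_commute_five hG hN hy hcomm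
    have h5 := Subgroup.orderOf_dvd_natCard (Subgroup.zpowers y) hdy
    rw [Nat.card_zpowers, hy] at h5
    have h3 := Subgroup.orderOf_dvd_natCard D hd
    rw [hD] at h3
    exact hd1 (Subtype.ext (orderOf_eq_one_iff.1
      (Nat.eq_one_of_dvd_coprimes (by norm_num : Nat.Coprime 3 5) h3 h5)))
  have hn1 : Nat.card (Sylow 3 M) ≠ 1 := fun h1 => by
    haveI : Subsingleton (Sylow 3 M) := (Nat.card_eq_one_iff_unique.1 h1).1
    exact hne (Sylow.subtype_injective (hP := hPM) (hQ := hRM) (Subsingleton.elim _ _))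
  have hnd : Nat.card (Sylow 3 M) ∣ c := card_sylow_dvd hc (fun h => by
    have := h.trans hcd
    norm_num at this)
  have hnmod := card_sylow_mod (G := M) 3
  have hc' := mem_divisors_of_dvd hcd (by norm_num)
  rw [show Nat.divisors 80 = {1, 2, 4, 5, 8, 10, 16, 20, 40, 80} by decide] at hc'
  simp only [Finset.mem_insert, Finset.mem_singleton] at hc'
  have hcval : c = 1 ∨ c = 2 ∨ c = 4 ∨ c = 8 := by
    rcases hc' with rfl | rfl | rfl | rfl | rfl | rfl | rfl | rfl | rfl | rfl <;> omega
  have hpos : 0 < Nat.card (Sylow 3 M) := Nat.card_pos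
  have hcpos : 0 < c := by omega
  have hle := Nat.le_of_dvd hcpos hnd
  rcases hcval with rfl | rfl | rfl | rfl
  · omega
  · omega
  · exact ⟨by omega, Or.inl (by rw [hc]; norm_num)⟩
  · refine ⟨?_, Or.inr (by rw [hc]; norm_num)⟩
    have := mem_divisors_of_dvd hnd (by norm_num)
    rw [show Nat.divisors 8 = {1, 2, 4, 8} by decide] at this
    simp only [Finset.mem_insert, Finset.mem_singleton] at this
    omega

/-- With forty Sylow 3-subgroups, their normalisers are generalised dihedral. -/
theorem inverting_720 (hG : ¬ IsMulCommutative G) (hN : Nat.card G = 720) [Fact (Nat.Prime 3)]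
    (hn : Nat.card (Sylow 3 G) = 40) (P : Sylow 3 G) :
    ∃ t, orderOf t = 2 ∧ t ∈ Subgroup.normalizer ((P : Subgroup G) : Set G) ∧
      (∀ x ∈ (P : Subgroup G), t * x * t⁻¹ = x⁻¹) ∧
      ∀ s ∈ Subgroup.normalizer ((P : Subgroup G) : Set G),
        s ∈ (P : Subgroup G) ∨ ∃ a ∈ (P : Subgroup G), s = a * t := by
  haveI := fact_prime Nat.prime_two
  have hN' : Nat.card G = 3 ^ 2 * 80 := hN
  have hP9 : Nat.card (P : Subgroup G) = 3 ^ 2 := card_sylow_eq hN' (by norm_num) P
  have hN18 : Nat.card (Subgroup.normalizer ((P : Subgroup G) : Set G)) = 18 := by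
    have := card_sylow_mul_card_normalizer P
    rw [hn, hN] at this
    omega
  have hab : IsMulCommutative (P : Subgroup G) := ⟨⟨IsPGroup.commutative_of_card_eq_prime_sq hP9⟩⟩
  obtain ⟨⟨t, htN⟩, ht⟩ := exists_prime_orderOf_dvd_card' 2 (show 2 ∣ Nat.card
    (Subgroup.normalizer ((P : Subgroup G) : Set G)) by rw [hN18]; norm_num)
  rw [← Subgroup.orderOf_coe] at ht
  change orderOf t = 2 at ht
  have htP : t ∉ (P : Subgroup G) := fun h => by
    have := Subgroup.orderOf_dvd_natCard _ h
    rw [ht, hP9] at this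
    norm_num at this
  have htt : t * t = 1 := (orderOf_eq_two_iff_sq.1 ht).2
  have hidx : ((P : Subgroup G).subgroupOf (Subgroup.normalizer ((P : Subgroup G) : Set G))).index = 2 := by
    have h1 := Subgroup.card_mul_index
      ((P : Subgroup G).subgroupOf (Subgroup.normalizer ((P : Subgroup G) : Set G)))
    rw [Nat.card_congr (Subgroup.subgroupOfEquivOfLe Subgroup.le_normalizer).toEquiv, hP9, hN18] at h1
    omega
  have hgen : ∀ y ∈ Subgroup.normalizer ((P : Subgroup G) : Set G),
      y ∈ (P : Subgroup G) ∨ ∃ a ∈ (P : Subgroup G), y = a * t := by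
    intro y hy
    by_cases hyP : y ∈ (P : Subgroup G)
    · exact Or.inl hyP
    refine Or.inr ⟨y * t, ?_, by rw [mul_assoc, htt, mul_one]⟩
    exact ((Subgroup.mul_mem_iff_of_index_two hidx (a := ⟨y, hy⟩) (b := ⟨t, htN⟩)).2
      (iff_of_false hyP htP) : _)
  exact ⟨t, ht, htN, fun x hx => inverts_of_perfect (commutator_eq_top hG) P hab htN hgen x hx
    (by rw [htt]; exact one_mem _), hgen⟩

/-- Two Sylow 3-subgroups meet trivially when there are forty of them. -/
theorem disjoint_forty_720 (hG : ¬ IsMulCommutative G) (hN : Nat.card G = 720)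
    [Fact (Nat.Prime 3)] (hn : Nat.card (Sylow 3 G) = 40) {P R : Sylow 3 G} (hne : P ≠ R)
    {D : Subgroup G} (hD : Nat.card D = 3) (hDP : D ≤ (P : Subgroup G))
    (hDR : D ≤ (R : Subgroup G)) : False := by
  classical
  haveI := fact_prime Nat.prime_two
  have hN' : Nat.card G = 3 ^ 2 * 80 := hN
  have hP9 : Nat.card (P : Subgroup G) = 9 := by simpa using card_sylow_eq hN' (by norm_num) P
  have hcomm : ∀ S : Sylow 3 G, ∀ a ∈ (S : Subgroup G), ∀ b ∈ (S : Subgroup G), a * b = b * a :=
    fun S a ha b hb => congrArg Subtype.val (IsPGroup.commutative_of_card_eq_prime_sq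
      (card_sylow_eq hN' (by norm_num) S) ⟨a, ha⟩ ⟨b, hb⟩)
  obtain ⟨hPM, hRM, hn4, hMc⟩ := normalizer_common_720 hG hN hne hD hDP hDR
  obtain ⟨t, ht, htN, hinv, -⟩ := inverting_720 hG hN hn P
  set M := Subgroup.normalizer (D : Set G) with hM
  have htM : t ∈ M := by
    rw [hM, Subgroup.mem_normalizer_iff]
    have key : ∀ x ∈ D, t * x * t⁻¹ ∈ D := fun x hx => by
      rw [hinv x (hDP hx)]; exact inv_mem hx
    refine fun x => ⟨key x, fun hx => ?_⟩
    have hk := key _ hx
    rw [inv_eq_self_of_orderOf_two ht,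
      show t * (t * x * t) * t = (t * t) * x * (t * t) by group,
      mul_self_of_orderOf_two ht, one_mul, mul_one] at hk
    exact hk
  have hM72 : Nat.card M = 72 := by
    refine hMc.resolve_left fun h36 => ?_
    have h := card_inf_normalizer_mul P hPM
    rw [hn4, h36] at h
    have h2 := Subgroup.orderOf_dvd_natCard (M ⊓ Subgroup.normalizer ((P : Subgroup G) : Set G))
      (x := t) ⟨htM, htN⟩
    rw [ht] at h2
    omega
  -- the centraliser of `D`
  set C := Subgroup.centralizer (D : Set G) with hC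
  have hCM : C ≤ M := Subgroup.centralizer_le_normalizer _
  have hPC : (P : Subgroup G) ≤ C := fun a ha => Subgroup.mem_centralizer_iff.2 fun d hd =>
    hcomm P d (hDP hd) a ha
  have hRC : (R : Subgroup G) ≤ C := fun a ha => Subgroup.mem_centralizer_iff.2 fun d hd =>
    hcomm R d (hDR hd) a ha
  haveI : Nontrivial D := Finite.one_lt_card_iff_nontrivial.1 (by omega)
  obtain ⟨⟨d, hdD⟩, hd1⟩ := exists_ne (1 : D)
  have hd1' : d ≠ 1 := fun e => hd1 (Subtype.ext e)
  have htC : t ∉ C := by
    intro h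
    have h1 := hinv d (hDP hdD)
    rw [← Subgroup.mem_centralizer_iff.1 h d hdD, mul_inv_cancel_right] at h1
    refine hd1' ?_
    have h3 : d ^ 3 = 1 := orderOf_dvd_iff_pow_eq_one.1 (hD ▸ Subgroup.orderOf_dvd_natCard D hdD)
    calc d = d ^ 3 * (d * d)⁻¹ := by rw [pow_succ, pow_two]; group
      _ = 1 := by rw [h3, eq_inv_iff_mul_eq_one.1 h1]; group
  have hrel2 : C.relIndex M = 2 :=
    ((Nat.dvd_prime Nat.prime_two).1 (relIndex_centralizer_dvd_pred hD)).resolve_left
      fun e => htC (Subgroup.relIndex_eq_one.1 e htM)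
  have hC36 : Nat.card C = 36 := by
    have h := Subgroup.card_mul_index (C.subgroupOf M)
    rw [Nat.card_congr (Subgroup.subgroupOfEquivOfLe hCM).toEquiv, hM72,
      show (C.subgroupOf M).index = 2 from hrel2] at h
    omega
  have hCN : C ⊓ Subgroup.normalizer ((P : Subgroup G) : Set G) = P := by
    have h := card_inf_normalizer_mul P hPC
    rw [hC36] at h
    have hn1 : Nat.card (Sylow 3 C) ≠ 1 := fun h1 => by
      haveI : Subsingleton (Sylow 3 C) := (Nat.card_eq_one_iff_unique.1 h1).1
      exact hne (Sylow.subtype_injective (hP := hPC) (hQ := hRC) (Subsingleton.elim _ _))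
    have hd4 := mem_divisors_of_dvd (card_sylow_dvd (G := C) (p := 3) (k := 2) (m := 4)
      (by rw [hC36]; norm_num) (by norm_num)) (by norm_num)
    rw [show Nat.divisors 4 = {1, 2, 4} by decide] at hd4
    simp only [Finset.mem_insert, Finset.mem_singleton] at hd4
    have hmod := card_sylow_mod (G := C) 3
    have h4 : Nat.card (Sylow 3 C) = 4 := by omega
    rw [h4] at h
    exact (Subgroup.eq_of_le_of_card_ge (le_inf hPC Subgroup.le_normalizer) (by omega)).symm
  set P' : Sylow 3 C := P.subtype hPC with hP'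
  have hNP' : Subgroup.normalizer ((P' : Subgroup C) : Set C) ≤
      Subgroup.centralizer ((P' : Subgroup C) : Set C) := by
    intro x hx
    have hxP : (x : G) ∈ (P : Subgroup G) := by
      rw [← hCN]
      refine ⟨x.2, Subgroup.mem_normalizer_iff.2 fun a => ⟨fun ha => ?_, fun ha => ?_⟩⟩
      · exact (Subgroup.mem_normalizer_iff.1 hx ⟨a, hPC ha⟩).1 ha
      · have haC : a ∈ C := by
          have := mul_mem (mul_mem (inv_mem x.2) (hPC ha)) x.2
          simpa [mul_assoc] using this
        exact (Subgroup.mem_normalizer_iff.1 hx ⟨a, haC⟩).2 ha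
    exact Subgroup.mem_centralizer_iff.2 fun a ha => Subtype.ext (hcomm P a ha x hxP)
  set K := (MonoidHom.transferSylow P' hNP').ker with hK
  have hcompl : K.IsComplement' (P' : Subgroup C) :=
    MonoidHom.ker_transferSylow_isComplement' P' hNP'
  have hK4 : Nat.card K = 4 := by
    have h := hcompl.card_mul
    have hc : Nat.card (P' : Subgroup C) = 9 := by
      rw [hP', Sylow.coe_subtype, Nat.card_congr (Subgroup.subgroupOfEquivOfLe hPC).toEquiv, hP9]
    rw [hc, hC36] at h
    omega
  have hKidx : K.index = 9 := by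
    have h := Subgroup.card_mul_index K
    rw [hK4, hC36] at h
    omega
  have hKmem : ∀ x : C, x ^ 4 = 1 → x ∈ K := by
    intro x hx
    have h9 := Subgroup.pow_index_mem K x
    rw [hKidx, show 9 = 4 * 2 + 1 from rfl, pow_add, pow_mul, hx, one_pow, one_mul, pow_one] at h9
    exact h9
  set V := K.map C.subtype with hV
  have hVC : V ≤ C := Subgroup.map_subtype_le K
  have hV4 : Nat.card V = 4 := by
    rw [hV, Subgroup.card_map_of_injective C.subtype_injective, hK4]
  have hVmem : ∀ v ∈ C, v ^ 4 = 1 → v ∈ V := fun v hv h =>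
    ⟨⟨v, hv⟩, hKmem _ (Subtype.ext (by simpa using h)), rfl⟩
  have hVpow : ∀ v ∈ V, v ^ 4 = 1 := fun v hv =>
    orderOf_dvd_iff_pow_eq_one.1 (hV4 ▸ Subgroup.orderOf_dvd_natCard V hv)
  have hVcomm : ∀ v ∈ V, ∀ w ∈ V, v * w = w * v := fun v hv w hw =>
    congrArg Subtype.val (IsPGroup.commutative_of_card_eq_prime_sq
      (show Nat.card V = 2 ^ 2 by rw [hV4]; norm_num) ⟨v, hv⟩ ⟨w, hw⟩)
  have hVconj : ∀ m ∈ M, ∀ v ∈ V, m * v * m⁻¹ ∈ V := by
    intro m hm v hv
    refine hVmem _ (Subgroup.mem_centralizer_iff.2 fun x hx => ?_)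
      (by rw [conj_pow, hVpow v hv]; group)
    have hx' : m⁻¹ * x * m ∈ D := by
      have h := (Subgroup.mem_normalizer_iff.1 (inv_mem hm) x).1 hx
      rwa [inv_inv] at h
    have h := Subgroup.mem_centralizer_iff.1 (hVC hv) _ hx'
    calc x * (m * v * m⁻¹) = m * (m⁻¹ * x * m * v) * m⁻¹ := by group
      _ = m * (v * (m⁻¹ * x * m)) * m⁻¹ := by rw [h]
      _ = m * v * m⁻¹ * x := by group
  -- a Sylow 2-subgroup of `M`
  obtain ⟨E, hE⟩ := ((IsPGroup.of_card (n := 2) (by rw [hV4]; norm_num) :
    IsPGroup 2 V).comap_subtype (K := M)).exists_le_sylow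
  set T0 := (E : Subgroup M).map M.subtype with hT0
  have hT0c : Nat.card T0 = 8 := by
    rw [hT0, Subgroup.card_map_of_injective M.subtype_injective]
    simpa using card_sylow_eq (G := M) (p := 2) (k := 3) (m := 9) (by rw [hM72]; norm_num)
      (by norm_num) E
  have hVT0 : V ≤ T0 := fun v hv => ⟨⟨v, hCM (hVC hv)⟩, hE hv, rfl⟩
  obtain ⟨T, hT⟩ := (E.isPGroup'.map M.subtype).exists_le_sylow
  have hTc : Nat.card (T : Subgroup G) = 16 := by
    simpa using card_sylow_eq (G := G) (k := 4) (m := 45) hN (by norm_num) T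
  obtain ⟨z, y, hz, hzT, hy, hyz⟩ := sylow_two_720 hG hN T
  have hidx2 : (T0.subgroupOf (T : Subgroup G)).index = 2 := by
    have h1 := Subgroup.card_mul_index (T0.subgroupOf (T : Subgroup G))
    rw [Nat.card_congr (Subgroup.subgroupOfEquivOfLe hT).toEquiv, hT0c, hTc] at h1
    omega
  have hzM : z ∈ M := by
    have h : y * y ∈ T0 := (Subgroup.mul_self_mem_of_index_two hidx2 ⟨y, hy⟩ : _)
    rw [hyz] at h
    exact Subgroup.map_subtype_le _ h
  have hzC : z ∉ C := by
    intro h
    have hdT : d ∈ (T : Subgroup G) := by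
      rw [← hzT]
      exact Subgroup.mem_centralizer_singleton_iff.2 (Subgroup.mem_centralizer_iff.1 h d hdD)
    have h16 := Subgroup.orderOf_dvd_natCard _ hdT
    rw [hTc] at h16
    have h3 := Subgroup.orderOf_dvd_natCard D hdD
    rw [hD] at h3
    exact hd1' (orderOf_eq_one_iff.1
      (Nat.eq_one_of_dvd_coprimes (by norm_num : Nat.Coprime 3 16) h3 h16))
  have hzV : ∀ v ∈ V, v * z = z * v := fun v hv => by
    have hvT : v ∈ Subgroup.centralizer ({z} : Set G) := by rw [hzT]; exact hT (hVT0 hv)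
    exact Subgroup.mem_centralizer_singleton_iff.1 hvT
  -- `t` acts on `V` as an element `a` of `P`
  have htz : t * z ∈ C :=
    ((Subgroup.mul_mem_iff_of_index_two (show (C.subgroupOf M).index = 2 from hrel2)
      (a := ⟨t, htM⟩) (b := ⟨z, hzM⟩)).2 (iff_of_false htC hzC) : _)
  obtain ⟨⟨⟨k, hk⟩, ⟨a, ha⟩⟩, hka⟩ := hcompl.2 ⟨t * z, htz⟩
  have hka' : (k : G) * (a : G) = t * z := congrArg Subtype.val hka
  have haP : (a : G) ∈ (P : Subgroup G) := ha
  have hkV : (k : G) ∈ V := ⟨k, hk, rfl⟩
  have hact : ∀ v ∈ V, t * v * t⁻¹ = (a : G) * v * (a : G)⁻¹ := by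
    intro v hv
    have haM : (a : G) ∈ M := hPM haP
    have h1 := hVcomm (k : G) hkV _ (hVconj _ haM v hv)
    calc t * v * t⁻¹ = (t * z) * (z⁻¹ * (v * z)) * (t * z)⁻¹ := by group
      _ = (k : G) * a * v * ((k : G) * a)⁻¹ := by rw [hzV v hv, ← hka']; group
      _ = ((k : G) * ((a : G) * v * (a : G)⁻¹)) * (k : G)⁻¹ := by group
      _ = (a : G) * v * (a : G)⁻¹ := by rw [h1]; group
  have hxx : ∀ x ∈ (P : Subgroup G), ∀ v ∈ V, x * v * x⁻¹ = x⁻¹ * v * x := by
    intro x hx v hv
    have hax : (a : G) * x * (a : G)⁻¹ = x := by rw [hcomm P _ haP _ hx]; group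
    set v₁ := (a : G)⁻¹ * v * a with hv1
    have hv1V : v₁ ∈ V := by
      have h := hVconj _ (inv_mem (hPM haP)) v hv
      rwa [inv_inv] at h
    have hw : x * v₁ * x⁻¹ ∈ V := hVconj x (hPM hx) _ hv1V
    have ht1 : t⁻¹ * v * t = v₁ := by
      calc t⁻¹ * v * t = t⁻¹ * ((a : G) * v₁ * (a : G)⁻¹) * t := by rw [hv1]; group
        _ = t⁻¹ * (t * v₁ * t⁻¹) * t := by rw [hact v₁ hv1V]
        _ = v₁ := by group
    have h2 : x⁻¹ * v * x = t * (x * (t⁻¹ * v * t) * x⁻¹) * t⁻¹ := by
      calc x⁻¹ * v * x = (t * x * t⁻¹) * v * (t * x * t⁻¹)⁻¹ := by rw [hinv x hx, inv_inv]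
        _ = _ := by group
    rw [h2, ht1, hact _ hw, hv1]
    calc x * v * x⁻¹ = ((a : G) * x * (a : G)⁻¹) * v * ((a : G) * x * (a : G)⁻¹)⁻¹ := by rw [hax]
      _ = _ := by group
  have hcen : ∀ x ∈ (P : Subgroup G), ∀ v ∈ V, Commute x v := by
    intro x hx v hv
    have h2 : Commute (x * x) v := by
      show x * x * v = v * (x * x)
      calc x * x * v = x * (x * v * x⁻¹) * x := by group
        _ = x * (x⁻¹ * v * x) * x := by rw [hxx x hx v hv]
        _ = v * (x * x) := by group
    have h9 : x ^ 9 = 1 := orderOf_dvd_iff_pow_eq_one.1 (hP9 ▸ Subgroup.orderOf_dvd_natCard _ hx)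
    have hx5 : (x * x) ^ 5 = x := by
      rw [← pow_two, ← pow_mul, show 2 * 5 = 9 + 1 from rfl, pow_add, h9, one_mul, pow_one]
    exact hx5 ▸ h2.pow_left 5
  have hV1 : ∀ v ∈ V, v = 1 := fun v hv => by
    have hvP : v ∈ C ⊓ Subgroup.normalizer ((P : Subgroup G) : Set G) :=
      ⟨hVC hv, Subgroup.centralizer_le_normalizer _
        (Subgroup.mem_centralizer_iff.2 fun x hx => hcen x hx v hv)⟩
    rw [hCN] at hvP
    have h9 := Subgroup.orderOf_dvd_natCard _ hvP
    rw [hP9] at h9
    exact orderOf_eq_one_iff.1 (Nat.eq_one_of_dvd_coprimes (by norm_num : Nat.Coprime 4 9)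
      (orderOf_dvd_of_pow_eq_one (hVpow v hv)) h9)
  haveI : Subsingleton V :=
    ⟨fun v w => Subtype.ext ((hV1 v v.2).trans (hV1 w w.2).symm)⟩
  rw [Nat.card_of_subsingleton (1 : V)] at hV4
  omega

/-- Two Sylow 3-subgroups meet trivially when there are ten of them. -/
theorem disjoint_ten_720 (hG : ¬ IsMulCommutative G) (hN : Nat.card G = 720)
    [Fact (Nat.Prime 3)] (hn : Nat.card (Sylow 3 G) = 10) {P R : Sylow 3 G} (hne : P ≠ R)
    {D : Subgroup G} (hD : Nat.card D = 3) (hDP : D ≤ (P : Subgroup G))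
    (hDR : D ≤ (R : Subgroup G)) : False := by
  classical
  haveI := fact_prime Nat.prime_two
  have hN' : Nat.card G = 3 ^ 2 * 80 := hN
  cases nonempty_fintype (Sylow 3 G)
  have hP9 : Nat.card (P : Subgroup G) = 9 := by simpa using card_sylow_eq hN' (by norm_num) P
  set N := Subgroup.normalizer ((P : Subgroup G) : Set G) with hNdef
  have hN72 : Nat.card N = 72 := by
    have h := card_sylow_mul_card_normalizer P
    rw [hn, hN, ← hNdef] at h
    omega
  obtain ⟨E⟩ : Nonempty (Sylow 2 N) := inferInstance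
  set T0 := (E : Subgroup N).map N.subtype with hT0
  have hT0c : Nat.card T0 = 8 := by
    rw [hT0, Subgroup.card_map_of_injective N.subtype_injective]
    simpa using card_sylow_eq (G := N) (p := 2) (k := 3) (m := 9) (by rw [hN72]; norm_num)
      (by norm_num) E
  have hT0N : T0 ≤ N := Subgroup.map_subtype_le _
  -- `T0` fixes some other Sylow subgroup
  let S : SubMulAction ↥T0 (Sylow 3 G) :=
    { carrier := {Q | Q ≠ P}
      smul_mem' := fun a Q hQ h => hQ (by
        have hP' : (a : G)⁻¹ • P = P :=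
          Sylow.smul_eq_iff_mem_normalizer.2 (inv_mem (hT0N a.2))
        exact (inv_smul_smul (a : G) Q).symm.trans ((congrArg ((a : G)⁻¹ • ·) h).trans hP')) }
  have hScard : Nat.card S = 9 := by
    show Nat.card {Q : Sylow 3 G // Q ≠ P} = 9
    rw [Nat.card_eq_fintype_card, Fintype.card_subtype_compl, Fintype.card_subtype_eq,
      ← Nat.card_eq_fintype_card, hn]
  have hmod := (E.isPGroup'.map N.subtype).card_modEq_card_fixedPoints S
  rw [hScard, Nat.ModEq] at hmod
  obtain ⟨⟨⟨R₀, hR₀⟩, hfix⟩⟩ : Nonempty (MulAction.fixedPoints ↥T0 S) := by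
    by_contra hcon
    rw [not_nonempty_iff] at hcon
    rw [Nat.card_of_isEmpty] at hmod
    omega
  have hR₀ne : R₀ ≠ P := hR₀
  have hbot : (P : Subgroup G) ⊓ (R₀ : Subgroup G) = ⊥ := by
    by_contra hbot
    set D₀ := (P : Subgroup G) ⊓ (R₀ : Subgroup G) with hD₀
    have hD3 : Nat.card D₀ = 3 := by
      have hd := mem_divisors_of_dvd
        (hP9 ▸ Subgroup.card_dvd_of_le (inf_le_left : D₀ ≤ (P : Subgroup G))) (by norm_num)
      rw [show Nat.divisors 9 = {1, 3, 9} by decide] at hd
      simp only [Finset.mem_insert, Finset.mem_singleton] at hd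
      rcases hd with e | e | e
      · exact absurd (Subgroup.card_eq_one.1 e) hbot
      · exact e
      · exfalso
        have heq : D₀ = (P : Subgroup G) :=
          Subgroup.eq_of_le_of_card_ge inf_le_left (by rw [e, hP9])
        have hle : (P : Subgroup G) ≤ (R₀ : Subgroup G) := heq ▸ inf_le_right
        exact hR₀ne (Sylow.ext (Subgroup.eq_of_le_of_card_ge hle
          (le_of_eq (Nat.card_congr (R₀.equiv P).toEquiv))).symm)
    obtain ⟨hPM, -, hn4, hMc⟩ := normalizer_common_720 hG hN hR₀ne.symm hD3 inf_le_left inf_le_right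
    have hT0M : T0 ≤ Subgroup.normalizer (D₀ : Set G) := by
      intro a ha
      have h1 : a • P = P := Sylow.smul_eq_iff_mem_normalizer.2 (hT0N ha)
      have h2 : a • R₀ = R₀ := congrArg Subtype.val (hfix ⟨a, ha⟩)
      have ha1 := Sylow.smul_eq_iff_mem_normalizer.1 h1
      have ha2 := Sylow.smul_eq_iff_mem_normalizer.1 h2
      refine Subgroup.mem_normalizer_iff.2 fun x => ?_
      show x ∈ (P : Subgroup G) ∧ x ∈ (R₀ : Subgroup G) ↔ _ ∧ _
      rw [Subgroup.mem_normalizer_iff.1 ha1 x, Subgroup.mem_normalizer_iff.1 ha2 x]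
      exact Iff.rfl
    have h8 := Subgroup.card_dvd_of_le (le_inf hT0M hT0N)
    rw [hT0c] at h8
    have h := card_inf_normalizer_mul P hPM
    rw [hn4, ← hNdef] at h
    rcases hMc with e | e <;> rw [e] at h <;> omega
  -- `P` is transitive on the other Sylow subgroups
  have hinj : Function.Injective (fun a : ↥(P : Subgroup G) =>
      (⟨(a : G) • R₀, fun h => hR₀ne (by
        have hP' : (a : G)⁻¹ • P = P :=
          Sylow.smul_eq_iff_mem_normalizer.2 (Subgroup.le_normalizer (inv_mem a.2))
        exact (inv_smul_smul (a : G) R₀).symm.trans ((congrArg ((a : G)⁻¹ • ·) h).trans hP'))⟩ :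
          {Q : Sylow 3 G // Q ≠ P})) := by
    intro a b hab
    have hab' : (a : G) • R₀ = (b : G) • R₀ := congrArg Subtype.val hab
    have he : ((b : G)⁻¹ * a) • R₀ = R₀ := by rw [mul_smul, hab', inv_smul_smul]
    have hz : IsPGroup 3 (Subgroup.zpowers ((b : G)⁻¹ * a)) :=
      P.isPGroup'.to_le (Subgroup.zpowers_le.2 (mul_mem (inv_mem b.2) a.2))
    have hR : (b : G)⁻¹ * a ∈ (R₀ : Subgroup G) :=
      ((hz.inf_normalizer_sylow R₀).le ⟨Subgroup.mem_zpowers _,
        Sylow.smul_eq_iff_mem_normalizer.1 he⟩).2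
    have hm : (b : G)⁻¹ * a ∈ (P : Subgroup G) ⊓ (R₀ : Subgroup G) :=
      ⟨(mul_mem (inv_mem b.2) a.2 : (b : G)⁻¹ * a ∈ (P : Subgroup G)), hR⟩
    rw [hbot, Subgroup.mem_bot] at hm
    exact Subtype.ext (inv_mul_eq_one.1 hm).symm
  obtain ⟨a, ha⟩ := ((Nat.bijective_iff_injective_and_card _).2 ⟨hinj, by
    rw [hP9, Nat.card_eq_fintype_card (α := {Q : Sylow 3 G // Q ≠ P}), Fintype.card_subtype_compl,
      Fintype.card_subtype_eq, ← Nat.card_eq_fintype_card, hn]⟩).2 ⟨R, hne.symm⟩
  have ha' : (a : G) • R₀ = R := congrArg Subtype.val ha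
  haveI : Nontrivial D := Finite.one_lt_card_iff_nontrivial.1 (by omega)
  obtain ⟨⟨d, hd⟩, hd1⟩ := exists_ne (1 : D)
  have hdR : (a : G)⁻¹ * d * a ∈ (R₀ : Subgroup G) := by
    have h := hDR hd
    rw [← ha', Sylow.coe_subgroup_smul, Subgroup.mem_pointwise_smul_iff_inv_smul_mem, ← map_inv] at h
    simpa [MulAut.smul_def] using h
  have hdd : (a : G)⁻¹ * d * a = d := by
    have hc : d * (a : G) = a * d := congrArg Subtype.val
      (IsPGroup.commutative_of_card_eq_prime_sq (card_sylow_eq hN' (by norm_num) P) ⟨d, hDP hd⟩ a)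
    rw [mul_assoc, hc]; group
  rw [hdd] at hdR
  have hm : d ∈ (P : Subgroup G) ⊓ (R₀ : Subgroup G) := ⟨hDP hd, hdR⟩
  rw [hbot, Subgroup.mem_bot] at hm
  exact hd1 (Subtype.ext hm)

/-- There are ten or forty Sylow 3-subgroups. -/
theorem card_sylow_three_720 (hG : ¬ IsMulCommutative G) (hN : Nat.card G = 720)
    [Fact (Nat.Prime 3)] : Nat.card (Sylow 3 G) = 10 ∨ Nat.card (Sylow 3 G) = 40 := by
  haveI := fact_prime Nat.prime_five
  have hN' : Nat.card G = 3 ^ 2 * 80 := hN
  have hd := card_sylow_mem hG hN' (by norm_num) (by norm_num)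
  rw [show (Nat.divisors 80).filter (fun d => d % 3 = 1 ∧ d ≠ 1) = {4, 10, 16, 40} by decide] at hd
  simp only [Finset.mem_insert, Finset.mem_singleton] at hd
  have h2 := two_mul_card_dvd_factorial_sylow hG (p := 3) (by rw [hN]; norm_num)
  rw [hN] at h2
  rcases hd with e | e | e | e
  · rw [e] at h2; exact absurd h2 (by decide)
  · exact Or.inl e
  · exfalso
    obtain ⟨P⟩ : Nonempty (Sylow 3 G) := inferInstance
    set N := Subgroup.normalizer ((P : Subgroup G) : Set G) with hNdef
    have hN45 : Nat.card N = 45 := by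
      have h := card_sylow_mul_card_normalizer P
      rw [e, hN, ← hNdef] at h; omega
    obtain ⟨⟨y, hyN⟩, hy⟩ := exists_prime_orderOf_dvd_card' 5
      (show 5 ∣ Nat.card N by rw [hN45]; norm_num)
    rw [← Subgroup.orderOf_coe] at hy
    change orderOf y = 5 at hy
    obtain ⟨Q, hQ⟩ := (IsPGroup.of_card (n := 1) (by rw [Nat.card_zpowers, hy, pow_one]) :
      IsPGroup 5 (Subgroup.zpowers y)).exists_le_sylow
    obtain ⟨-, hQc, -, hQN⟩ := sylow_five_720 hG hN Q
    have hy1 : y ≠ 1 := fun h => by rw [h, orderOf_one] at hy; omega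
    have hQle : (Q : Subgroup G) ≤ N := by
      rw [← eq_zpowers_of_mem_prime hQc (hQ (Subgroup.mem_zpowers y)) hy1]
      exact Subgroup.zpowers_le.2 hyN
    have hd9 := mem_divisors_of_dvd (card_sylow_dvd (G := N) (p := 5) (k := 1) (m := 9)
      (by rw [hN45]; norm_num) (by norm_num)) (by norm_num)
    rw [show Nat.divisors 9 = {1, 3, 9} by decide] at hd9
    simp only [Finset.mem_insert, Finset.mem_singleton] at hd9
    have hm := card_sylow_mod (G := N) 5
    have h1 : Nat.card (Sylow 5 N) = 1 := by omega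
    have := Subgroup.card_dvd_of_le (le_normalizer_of_card_sylow_one Q hQle h1)
    rw [hN45, hQN] at this
    norm_num at this
  · exact Or.inr e

theorem false_of_card_720 (hG : ¬ IsMulCommutative G) (hN : Nat.card G = 720) : False := by
  classical
  haveI := fact_prime Nat.prime_two
  haveI := fact_prime Nat.prime_three
  haveI := fact_prime Nat.prime_five
  cases nonempty_fintype G
  cases nonempty_fintype (Sylow 3 G)
  have hN' : Nat.card G = 3 ^ 2 * 80 := hN
  have h9 : ∀ P : Sylow 3 G, Nat.card (P : Subgroup G) = 9 := fun P => by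
    simpa using card_sylow_eq hN' (by norm_num) P
  have h5ord : ∀ y x : G, orderOf y = 5 → Commute x y → x ≠ 1 → orderOf x = 5 := fun y x hy hc hx => by
    have h := Subgroup.orderOf_dvd_natCard _ (mem_zpowers_of_commute_five hG hN hy hc)
    rw [Nat.card_zpowers, hy] at h
    exact ((Nat.dvd_prime Nat.prime_five).1 h).resolve_left fun e => hx (orderOf_eq_one_iff.1 e)
  have hn3 := card_sylow_three_720 hG hN
  -- Sylow 3-subgroups meet trivially
  have huniq : ∀ (P R : Sylow 3 G) (x : G), x ∈ (P : Subgroup G) → x ∈ (R : Subgroup G) → x ≠ 1 →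
      P = R := by
    intro P R x hxP hxR hx
    by_contra hne
    obtain ⟨⟨d, hd⟩, hdo⟩ : ∃ d : Subgroup.zpowers x, orderOf d = 3 :=
      exists_prime_orderOf_dvd_card' 3 (by
        rw [Nat.card_zpowers]
        have h := mem_divisors_of_dvd (h9 P ▸ Subgroup.orderOf_dvd_natCard _ hxP) (by norm_num)
        rw [show Nat.divisors 9 = {1, 3, 9} by decide] at h
        simp only [Finset.mem_insert, Finset.mem_singleton] at h
        have : orderOf x ≠ 1 := fun e => hx (orderOf_eq_one_iff.1 e)
        omega)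
    rw [← Subgroup.orderOf_coe] at hdo
    change orderOf d = 3 at hdo
    have hD : Nat.card (Subgroup.zpowers d) = 3 := by rw [Nat.card_zpowers, hdo]
    have hDP : Subgroup.zpowers d ≤ (P : Subgroup G) :=
      Subgroup.zpowers_le.2 (Subgroup.zpowers_le.2 hxP hd)
    have hDR : Subgroup.zpowers d ≤ (R : Subgroup G) :=
      Subgroup.zpowers_le.2 (Subgroup.zpowers_le.2 hxR hd)
    rcases hn3 with e | e
    · exact disjoint_ten_720 hG hN e hne hD hDP hDR
    · exact disjoint_forty_720 hG hN e hne hD hDP hDR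
  -- involutions of `N(P)` invert `P`
  have hinv : ∀ (P : Sylow 3 G) (s : G), orderOf s = 2 →
      s ∈ Subgroup.normalizer ((P : Subgroup G) : Set G) →
      ∀ x ∈ (P : Subgroup G), s * x * s⁻¹ = x⁻¹ := by
    intro P s hs hsN
    have hab : IsMulCommutative (P : Subgroup G) :=
      ⟨⟨IsPGroup.commutative_of_card_eq_prime_sq (card_sylow_eq hN' (by norm_num) P)⟩⟩
    rcases hn3 with e | e
    · refine fun x hx => inverts_of_fixedPointFree hab (orderOf_eq_two_iff_sq.1 hs).2 hsN ?_ hx
      intro d hd hfix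
      by_contra hd1
      -- `⟨d⟩` acts freely on the other fixed points of `s`
      have hds : d * s = s * d := (mul_inv_eq_iff_eq_mul.1 hfix).symm
      have hdP : d • P = P := Sylow.smul_eq_iff_mem_normalizer.2 (Subgroup.le_normalizer hd)
      have hsP : s • P = P := Sylow.smul_eq_iff_mem_normalizer.2 hsN
      let S : SubMulAction ↥(Subgroup.zpowers d) (Sylow 3 G) :=
        { carrier := {R | s • R = R ∧ R ≠ P}
          smul_mem' := fun a R hR => by
            obtain ⟨i, hi⟩ := a.2
            have hc : (a : G) * s = s * (a : G) := by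
              rw [← hi]; exact ((show Commute d s from hds).zpow_left i).eq
            refine ⟨?_, fun h => hR.2 ?_⟩
            · show s • (a : G) • R = (a : G) • R
              rw [smul_smul, ← hc, ← smul_smul, hR.1]
            · have hP' : (a : G)⁻¹ • P = P := Sylow.smul_eq_iff_mem_normalizer.2
                (inv_mem (Subgroup.le_normalizer (Subgroup.zpowers_le.2 hd a.2)))
              exact (inv_smul_smul (a : G) R).symm.trans ((congrArg ((a : G)⁻¹ • ·) h).trans hP') }
      have hpg : IsPGroup 3 (Subgroup.zpowers d) := P.isPGroup'.to_le (Subgroup.zpowers_le.2 hd)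
      have hmodS := hpg.card_modEq_card_fixedPoints S
      haveI : IsEmpty (MulAction.fixedPoints ↥(Subgroup.zpowers d) S) := ⟨fun ⟨⟨R, hR⟩, hfx⟩ => by
        have h' : d • R = R := congrArg Subtype.val (hfx ⟨d, Subgroup.mem_zpowers d⟩)
        have hdR : d ∈ (R : Subgroup G) := ((hpg.inf_normalizer_sylow R).le
          ⟨Subgroup.mem_zpowers d, Sylow.smul_eq_iff_mem_normalizer.1 h'⟩).2
        exact hR.2 (huniq R P d hdR hd hd1)⟩
      rw [Nat.card_of_isEmpty (α := MulAction.fixedPoints ↥(Subgroup.zpowers d) S), Nat.ModEq,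
        Nat.zero_mod] at hmodS
      have hsplit : Nat.card S + 1 = Nat.card {R : Sylow 3 G // s • R = R} := by
        show Nat.card {R : Sylow 3 G // s • R = R ∧ R ≠ P} + 1 = _
        rw [Nat.card_eq_fintype_card, Nat.card_eq_fintype_card, Fintype.card_subtype,
          Fintype.card_subtype, ← Finset.card_erase_add_one (s := Finset.univ.filter
            (fun R : Sylow 3 G => s • R = R)) (a := P) (by simp [hsP])]
        congr 2
        ext R
        simp [and_comm]
      have h4 := four_dvd_moved hG (α := Sylow 3 G) (orderOf_eq_two_iff_sq.1 hs).2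
      rw [Nat.card_eq_fintype_card (α := {R : Sylow 3 G // s • R ≠ R}), Fintype.card_subtype_compl,
        ← Nat.card_eq_fintype_card, ← Nat.card_eq_fintype_card, e] at h4
      have hle : Nat.card {R : Sylow 3 G // s • R = R} ≤ 10 :=
        e ▸ Nat.card_le_card_of_injective Subtype.val Subtype.val_injective
      have h10 : Nat.card {R : Sylow 3 G // s • R = R} = 10 := by omega
      refine ne_one_of_orderOf_two hs (sylow_action_faithful hG (p := 3)
        (by rw [hN]; norm_num) fun R => ?_)
      have hall : ∀ R : Sylow 3 G, R ∈ Finset.univ.filter (fun R : Sylow 3 G => s • R = R) := by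
        intro R
        have hc : (Finset.univ.filter (fun R : Sylow 3 G => s • R = R)).card =
            Fintype.card (Sylow 3 G) := by
          rw [← Fintype.card_subtype, ← Nat.card_eq_fintype_card, ← Nat.card_eq_fintype_card, h10, e]
        rw [(Finset.card_eq_iff_eq_univ _).1 hc]
        exact Finset.mem_univ R
      exact (Finset.mem_filter.1 (hall R)).2
    · obtain ⟨t, ht, -, hti, hgen⟩ := inverting_720 hG hN e P
      rcases hgen s hsN with hsP | ⟨a, ha, rfl⟩
      · have h := Subgroup.orderOf_dvd_natCard _ hsP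
        rw [hs, h9 P] at h
        omega
      · intro x hx
        have hc : a * x⁻¹ = x⁻¹ * a := congrArg Subtype.val
          (mul_comm' (⟨a, ha⟩ : (P : Subgroup G)) ⟨x⁻¹, inv_mem hx⟩)
        calc a * t * x * (a * t)⁻¹ = a * (t * x * t⁻¹) * a⁻¹ := by group
          _ = x⁻¹ := by rw [hti x hx, hc]; group
  -- involution centralisers are 2-groups
  have hC2 : ∀ u : G, orderOf u = 2 → Nat.card (Subgroup.centralizer ({u} : Set G)) ∣ 16 := by
    intro u hu
    have h5 : ¬ 5 ∣ Nat.card (Subgroup.centralizer ({u} : Set G)) := by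
      intro h
      obtain ⟨⟨y, hyC⟩, hy⟩ := exists_prime_orderOf_dvd_card' 5 h
      rw [← Subgroup.orderOf_coe] at hy
      change orderOf y = 5 at hy
      have := h5ord y u hy (Subgroup.mem_centralizer_singleton_iff.1 hyC).symm (ne_one_of_orderOf_two hu)
      omega
    have h3 : ¬ 3 ∣ Nat.card (Subgroup.centralizer ({u} : Set G)) := by
      intro h
      obtain ⟨⟨d, hdC⟩, hdo⟩ := exists_prime_orderOf_dvd_card' 3 h
      rw [← Subgroup.orderOf_coe] at hdo
      change orderOf d = 3 at hdo
      have hd1 : d ≠ 1 := fun e => by rw [e, orderOf_one] at hdo; omega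
      have hdu : d * u = u * d := Subgroup.mem_centralizer_singleton_iff.1 hdC
      obtain ⟨P, hP⟩ := (IsPGroup.of_card (n := 1) (by rw [Nat.card_zpowers, hdo, pow_one]) :
        IsPGroup 3 (Subgroup.zpowers d)).exists_le_sylow
      have hdP : d ∈ (P : Subgroup G) := hP (Subgroup.mem_zpowers d)
      have hdP' : d ∈ ((u • P : Sylow 3 G) : Subgroup G) := by
        rw [Sylow.coe_subgroup_smul, Subgroup.mem_pointwise_smul_iff_inv_smul_mem, ← map_inv]
        simpa [MulAut.smul_def, mul_assoc, hdu] using hdP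
      have huN := Sylow.smul_eq_iff_mem_normalizer.1 (huniq (u • P) P d hdP' hdP hd1)
      have h1 := hinv P u hu huN d hdP
      rw [← hdu, mul_inv_cancel_right] at h1
      have hd2 : d ^ 2 = 1 := by rw [pow_two]; exact eq_inv_iff_mul_eq_one.1 h1
      have := orderOf_dvd_of_pow_eq_one hd2
      rw [hdo] at this; omega
    have hd : Nat.card (Subgroup.centralizer ({u} : Set G)) ∣ 16 * 45 :=
      dvd_trans (Subgroup.card_subgroup_dvd_card _) (dvd_of_eq (by rw [hN]))
    refine Nat.Coprime.dvd_of_dvd_mul_right ?_ hd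
    rw [show 45 = 3 ^ 2 * 5 from rfl]
    exact Nat.Coprime.mul_right
      (((Nat.prime_three.coprime_iff_not_dvd).2 h3).symm.pow_right 2)
      ((Nat.prime_five.coprime_iff_not_dvd).2 h5).symm
  -- elements of even order fall into classes of size divisible by 45
  set Ev := Finset.univ.filter (fun g : G => 2 ∣ orderOf g) with hEv
  set S5 := Finset.univ.filter (fun g : G => orderOf g = 5) with hS5
  set S3 := Finset.univ.filter (fun g : G => orderOf g = 3 ∨ orderOf g = 9) with hS3
  have hsum : 1 + Ev.card + S5.card + S3.card = 720 := by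
    have hpart : Finset.univ = ({1} ∪ Ev) ∪ S5 ∪ S3 := by
      ext g
      simp only [Finset.mem_univ, Finset.mem_union, Finset.mem_singleton, hEv, hS5, hS3,
        Finset.mem_filter, true_and, true_iff]
      by_cases hg : g = 1
      · exact Or.inl (Or.inl (Or.inl hg))
      by_cases h2 : 2 ∣ orderOf g
      · exact Or.inl (Or.inl (Or.inr h2))
      have h1 : orderOf g ≠ 1 := fun e => hg (orderOf_eq_one_iff.1 e)
      by_cases h5 : 5 ∣ orderOf g
      · refine Or.inl (Or.inr ?_)
        obtain ⟨k, hk⟩ := h5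
        have hpos : 0 < orderOf g := orderOf_pos g
        have hk0 : k ≠ 0 := fun e => by rw [e] at hk; omega
        have hy : orderOf (g ^ k) = 5 := by
          rw [orderOf_pow_of_dvd hk0 ⟨5, by rw [hk, mul_comm]⟩, hk,
            Nat.mul_div_cancel _ (Nat.pos_of_ne_zero hk0)]
        exact h5ord (g ^ k) g hy ((Commute.refl g).pow_right k) hg
      · refine Or.inr ?_
        have hd9 : orderOf g ∣ 9 := by
          have hd : orderOf g ∣ 9 * 80 := dvd_trans (orderOf_dvd_natCard g) (dvd_of_eq (by rw [hN]))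
          refine Nat.Coprime.dvd_of_dvd_mul_right ?_ hd
          rw [show 80 = 2 ^ 4 * 5 from rfl]
          exact Nat.Coprime.mul_right
            (((Nat.prime_two.coprime_iff_not_dvd).2 h2).symm.pow_right 4)
            ((Nat.prime_five.coprime_iff_not_dvd).2 h5).symm
        have h := mem_divisors_of_dvd hd9 (by norm_num)
        rw [show Nat.divisors 9 = {1, 3, 9} by decide] at h
        simp only [Finset.mem_insert, Finset.mem_singleton] at h
        omega
    have hc := congrArg Finset.card hpart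
    have hd1 : Disjoint ({1} : Finset G) Ev := by
      rw [Finset.disjoint_singleton_left, hEv, Finset.mem_filter]
      rintro ⟨-, h⟩; rw [orderOf_one] at h; omega
    have hd2 : Disjoint ({1} ∪ Ev) S5 := by
      rw [Finset.disjoint_left]
      intro g hg hg5
      simp only [hEv, hS5, Finset.mem_union, Finset.mem_singleton, Finset.mem_filter,
        Finset.mem_univ, true_and] at hg hg5
      rcases hg with rfl | h
      · rw [orderOf_one] at hg5; omega
      · omega
    have hd3 : Disjoint ({1} ∪ Ev ∪ S5) S3 := by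
      rw [Finset.disjoint_left]
      intro g hg hg3
      simp only [hEv, hS5, hS3, Finset.mem_union, Finset.mem_singleton, Finset.mem_filter,
        Finset.mem_univ, true_and] at hg hg3
      rcases hg with (rfl | h) | h
      · rw [orderOf_one] at hg3; omega
      · omega
      · omega
    rw [Finset.card_union_of_disjoint hd3, Finset.card_union_of_disjoint hd2,
      Finset.card_union_of_disjoint hd1, Finset.card_singleton, Finset.card_univ,
      ← Nat.card_eq_fintype_card, hN] at hc
    omega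
  have hc5 : S5.card = 144 := by
    rw [hS5, ← Fintype.card_subtype, ← Nat.card_eq_fintype_card,
      card_orderOf_eq_prime (fun P : Sylow 5 G => (sylow_five_720 hG hN P).2.1),
      (sylow_five_720 hG hN default).1]
  have hc3 : S3.card = Nat.card (Sylow 3 G) * 8 := by
    rw [hS3, ← Fintype.card_subtype, ← Nat.card_eq_fintype_card]
    have hex : ∀ g : G, (orderOf g = 3 ∨ orderOf g = 9) → ∃ P : Sylow 3 G, g ∈ (P : Subgroup G) := by
      intro g hg
      obtain ⟨P, hP⟩ := (show IsPGroup 3 (Subgroup.zpowers g) by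
        rcases hg with e | e
        · exact IsPGroup.of_card (n := 1) (by rw [Nat.card_zpowers, e, pow_one])
        · exact IsPGroup.of_card (n := 2) (by rw [Nat.card_zpowers, e]; norm_num)).exists_le_sylow
      exact ⟨P, hP (Subgroup.mem_zpowers g)⟩
    choose Q hQ using hex
    have hne : ∀ g : G, (orderOf g = 3 ∨ orderOf g = 9) → g ≠ 1 := fun g h e => by
      rw [e, orderOf_one] at h; omega
    have hof : ∀ (P : Sylow 3 G) (g : (P : Subgroup G)), g ≠ 1 →
        orderOf (g : G) = 3 ∨ orderOf (g : G) = 9 := fun P g hg => by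
      have h := mem_divisors_of_dvd (h9 P ▸ Subgroup.orderOf_dvd_natCard _ g.2) (by norm_num)
      rw [show Nat.divisors 9 = {1, 3, 9} by decide] at h
      simp only [Finset.mem_insert, Finset.mem_singleton] at h
      have h1 : orderOf (g : G) ≠ 1 := fun e => hg (Subtype.ext (orderOf_eq_one_iff.1 e))
      omega
    let eqv : {g : G // orderOf g = 3 ∨ orderOf g = 9} ≃
        Σ P : Sylow 3 G, {g : ↥(P : Subgroup G) // g ≠ 1} :=
      { toFun := fun g => ⟨Q g.1 g.2, ⟨⟨g.1, hQ g.1 g.2⟩, fun h => hne g.1 g.2 (congrArg Subtype.val h)⟩⟩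
        invFun := fun s => ⟨s.2.1.1, hof s.1 s.2.1 s.2.2⟩
        left_inv := fun g => rfl
        right_inv := by
          rintro ⟨P, ⟨⟨g, hg⟩, hg1⟩⟩
          have hg' : orderOf g = 3 ∨ orderOf g = 9 := hof P ⟨g, hg⟩ hg1
          have hPQ : Q g hg' = P := huniq _ _ g (hQ g hg') hg (hne g hg')
          subst hPQ
          rfl }
    rw [Nat.card_congr eqv, Nat.card_sigma, Finset.sum_const_nat (m := 8), Finset.card_univ,
      ← Nat.card_eq_fintype_card]
    intro P _
    rw [Nat.card_eq_fintype_card, Fintype.card_subtype_compl, Fintype.card_subtype_eq,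
      ← Nat.card_eq_fintype_card, h9]
  have h45 : 45 ∣ Ev.card := by
    rw [hEv, ← Fintype.card_subtype, ← Nat.card_eq_fintype_card]
    let S : SubMulAction (ConjAct G) G :=
      { carrier := {g | 2 ∣ orderOf g}
        smul_mem' := fun a g hg => by
          show 2 ∣ orderOf (a • g)
          rw [ConjAct.smul_def, orderOf_conj_eq]; exact hg }
    show 45 ∣ Nat.card S
    cases nonempty_fintype S
    rw [Nat.card_congr (MulAction.selfEquivSigmaOrbits (ConjAct G) S), Nat.card_sigma]
    refine Finset.dvd_sum fun q _ => ?_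
    generalize Quotient.out q = x
    obtain ⟨g, hg⟩ := x
    rw [Nat.card_coe_set_eq, ← MulAction.index_stabilizer]
    have hg2 : 2 ∣ orderOf g := hg
    set z := g ^ (orderOf g / 2) with hz
    have hzo : orderOf z = 2 := by
      have hpos : 0 < orderOf g := orderOf_pos g
      rw [hz, orderOf_pow_of_dvd (by omega) (Nat.div_dvd_of_dvd hg2), Nat.div_div_self hg2 (by omega)]
    set St := MulAction.stabilizer (ConjAct G) (⟨g, hg⟩ : S) with hSt
    have hst : Nat.card St ∣ 16 := by
      refine dvd_trans ?_ (hC2 z hzo)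
      rw [← Subgroup.card_map_of_injective (f := ConjAct.ofConjAct.toMonoidHom) (K := St)
        ConjAct.ofConjAct.injective]
      refine Subgroup.card_dvd_of_le ?_
      rintro _ ⟨a, ha, rfl⟩
      have h := congrArg Subtype.val ha
      rw [SubMulAction.val_smul, ConjAct.smul_def, mul_inv_eq_iff_eq_mul] at h
      rw [Subgroup.mem_centralizer_singleton_iff]
      exact ((show Commute (ConjAct.ofConjAct a) g from h).pow_right _).eq
    have hmul := Subgroup.card_mul_index St
    rw [Nat.card_congr ConjAct.ofConjAct.toEquiv, hN] at hmul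
    obtain ⟨j, hj⟩ := hst
    refine ⟨j, ?_⟩
    have hpos : 0 < Nat.card St := Nat.card_pos
    refine Nat.eq_of_mul_eq_mul_left hpos ?_
    calc Nat.card St * St.index = 720 := hmul
      _ = 45 * (Nat.card St * j) := by rw [← hj]
      _ = Nat.card St * (45 * j) := by ring
  have hn10 : Nat.card (Sylow 3 G) = 10 := by
    rcases hn3 with e | e
    · exact e
    · exfalso; rw [e] at hc3; omega
  have hEv495 : Ev.card = 495 := by rw [hn10] at hc3; omega
  -- all involutions are conjugate
  obtain ⟨P⟩ : Nonempty (Sylow 3 G) := inferInstance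
  set N := Subgroup.normalizer ((P : Subgroup G) : Set G) with hNdef
  have hN72 : Nat.card N = 72 := by
    have h := card_sylow_mul_card_normalizer P
    rw [hn10, hN, ← hNdef] at h
    omega
  obtain ⟨⟨s, hsN⟩, hs⟩ := exists_prime_orderOf_dvd_card' 2
    (show 2 ∣ Nat.card N by rw [hN72]; norm_num)
  rw [← Subgroup.orderOf_coe] at hs
  change orderOf s = 2 at hs
  have hconjs : ∀ v : G, orderOf v = 2 → IsConj v s := by
    intro v hv
    obtain ⟨R, hR⟩ : ∃ R : Sylow 3 G, v • R = R := by
      by_contra hcon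
      push Not at hcon
      have h4 := four_dvd_moved hG (α := Sylow 3 G) (orderOf_eq_two_iff_sq.1 hv).2
      rw [Nat.card_congr (Equiv.subtypeUnivEquiv hcon), hn10] at h4
      norm_num at h4
    obtain ⟨g, hg⟩ := MulAction.exists_smul_eq G R P
    have hvN : g * v * g⁻¹ ∈ N := Sylow.smul_eq_iff_mem_normalizer.1 (by
      rw [mul_smul, mul_smul, show g⁻¹ • P = R by rw [← hg, inv_smul_smul], hR, hg])
    have hvo : orderOf (g * v * g⁻¹) = 2 := by rw [orderOf_conj_eq, hv]
    set v' := g * v * g⁻¹ with hv'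
    have hvs : v' * s ∈ Subgroup.centralizer ((P : Subgroup G) : Set G) := by
      rw [Subgroup.mem_centralizer_iff]
      intro x hx
      have h1 := hinv P v' hvo hvN _ (inv_mem hx)
      have h2 := hinv P s hs hsN x hx
      calc x * (v' * s) = v' * x⁻¹ * v'⁻¹ * (v' * s) := by rw [h1, inv_inv]
        _ = v' * (x⁻¹ * s) := by group
        _ = v' * (s * x * s⁻¹ * s) := by rw [h2]
        _ = v' * s * x := by group
    have hCP : v' * s ∈ (P : Subgroup G) := by
      by_cases hvs1 : v' * s = 1
      · rw [hvs1]; exact one_mem _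
      have hord := orderOf_pos (v' * s)
      have h2 : ¬ 2 ∣ orderOf (v' * s) := fun h2 => by
        have hmem : (v' * s) ^ (orderOf (v' * s) / 2) ∈
            Subgroup.centralizer ((P : Subgroup G) : Set G) := pow_mem hvs _
        have ho : orderOf ((v' * s) ^ (orderOf (v' * s) / 2)) = 2 := by
          rw [orderOf_pow_of_dvd (by omega) (Nat.div_dvd_of_dvd h2), Nat.div_div_self h2 (by omega)]
        set w := (v' * s) ^ (orderOf (v' * s) / 2)
        obtain ⟨⟨x, hx⟩, hxo⟩ := exists_prime_orderOf_dvd_card' 3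
          (show 3 ∣ Nat.card (P : Subgroup G) by rw [h9]; norm_num)
        rw [← Subgroup.orderOf_coe] at hxo
        change orderOf x = 3 at hxo
        have hc := Subgroup.mem_centralizer_iff.1 hmem x hx
        have h1 := hinv P w ho (Subgroup.centralizer_le_normalizer _ hmem) x hx
        rw [← hc, mul_inv_cancel_right] at h1
        have hd2 : x ^ 2 = 1 := by rw [pow_two]; exact eq_inv_iff_mul_eq_one.1 h1
        have := orderOf_dvd_of_pow_eq_one hd2
        rw [hxo] at this; omega
      have h5 : ¬ 5 ∣ orderOf (v' * s) := by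
        rintro ⟨k, hk⟩
        have hk0 : k ≠ 0 := fun e => by rw [e] at hk; omega
        have hy : orderOf ((v' * s) ^ k) = 5 := by
          rw [orderOf_pow_of_dvd hk0 ⟨5, by rw [hk, mul_comm]⟩, hk,
            Nat.mul_div_cancel _ (Nat.pos_of_ne_zero hk0)]
        obtain ⟨⟨x, hx⟩, hxo⟩ := exists_prime_orderOf_dvd_card' 3
          (show 3 ∣ Nat.card (P : Subgroup G) by rw [h9]; norm_num)
        rw [← Subgroup.orderOf_coe] at hxo
        change orderOf x = 3 at hxo
        have hc : Commute x ((v' * s) ^ k) := Subgroup.mem_centralizer_iff.1 (pow_mem hvs k) x hx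
        have := h5ord _ x hy hc (fun e => by rw [e, orderOf_one] at hxo; omega)
        omega
      have hd9 : orderOf (v' * s) ∣ 9 := by
        have hd : orderOf (v' * s) ∣ 9 * 80 :=
          dvd_trans (orderOf_dvd_natCard _) (dvd_of_eq (by rw [hN]))
        refine Nat.Coprime.dvd_of_dvd_mul_right ?_ hd
        rw [show 80 = 2 ^ 4 * 5 from rfl]
        exact Nat.Coprime.mul_right
          (((Nat.prime_two.coprime_iff_not_dvd).2 h2).symm.pow_right 4)
          ((Nat.prime_five.coprime_iff_not_dvd).2 h5).symm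
      have hz : IsPGroup 3 (Subgroup.zpowers (v' * s)) := by
        obtain ⟨k, -, hk⟩ := (Nat.dvd_prime_pow Nat.prime_three).1
          (show orderOf (v' * s) ∣ 3 ^ 2 by simpa using hd9)
        exact IsPGroup.of_card (n := k) (by rw [Nat.card_zpowers, hk])
      exact ((hz.inf_normalizer_sylow P).le
        ⟨Subgroup.mem_zpowers _, Subgroup.centralizer_le_normalizer _ hvs⟩).2
    obtain ⟨b, -, hbv⟩ := conj_of_inverting (orderOf_eq_two_iff_sq.1 hs).2
      (fun x hx => hinv P s hs hsN x hx) hCP 5 (fun a ha => by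
        have h9' : a ^ 9 = 1 := orderOf_dvd_iff_pow_eq_one.1 (h9 P ▸ Subgroup.orderOf_dvd_natCard _ ha)
        rw [show 2 * 5 = 9 + 1 from rfl, pow_add, h9', one_mul, pow_one])
    refine (isConj_iff.2 ⟨g, rfl⟩ : IsConj v v').trans ?_
    exact (isConj_iff.2 ⟨b, hbv⟩ : IsConj s v').symm
  have hC16 : Nat.card (Subgroup.centralizer ({s} : Set G)) = 16 := by
    obtain ⟨t, -, ht, hC, -, -⟩ := exists_central_square_720 hG hN
    obtain ⟨c, hc⟩ := isConj_iff.1 (hconjs t ht)
    rw [← hc, ← hC, ← card_centralizer_conj c⁻¹ t, inv_inv]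
  have hinvcard : Nat.card {z : G // orderOf z = 2} = 45 := by
    have h := card_conjugates_mul_card_centralizer s
    rw [hC16, hN] at h
    have heq : Nat.card {z : G // orderOf z = 2} = Nat.card {g : G // IsConj s g} := by
      refine Nat.card_congr (Equiv.subtypeEquivRight fun z => ⟨fun hz => (hconjs z hz).symm, fun hz => ?_⟩)
      obtain ⟨c, rfl⟩ := isConj_iff.1 hz
      rw [orderOf_conj_eq, hs]
    omega
  set z := s with hzdef
  -- eleven elements power to each involution
  have hcount : Nat.card {g : G // g ≠ 1 ∧ z ∈ Subgroup.zpowers g} = 11 := by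
    have hfib : ∀ v : {v : G // orderOf v = 2},
        Nat.card {g : G // g ≠ 1 ∧ (v : G) ∈ Subgroup.zpowers g} =
        Nat.card {g : G // g ≠ 1 ∧ z ∈ Subgroup.zpowers g} := by
      intro v
      obtain ⟨c, hc⟩ := isConj_iff.1 (hconjs v v.2)
      refine Nat.card_congr ((MulAut.conj c).toEquiv.subtypeEquiv fun g => ?_)
      show g ≠ 1 ∧ _ ↔ c * g * c⁻¹ ≠ 1 ∧ _
      refine and_congr (not_congr conj_eq_one_iff.symm) ?_
      rw [Subgroup.mem_zpowers_iff, Subgroup.mem_zpowers_iff]
      refine exists_congr fun k => ?_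
      show g ^ k = (v : G) ↔ ((c * g * c⁻¹ : G)) ^ k = z
      rw [conj_zpow, ← hc]
      exact (MulAut.conj c).injective.eq_iff.symm
    have hpick : ∀ g : G, 2 ∣ orderOf g → orderOf (g ^ (orderOf g / 2)) = 2 := fun g hg => by
      have hpos : 0 < orderOf g := orderOf_pos g
      rw [orderOf_pow_of_dvd (by omega) (Nat.div_dvd_of_dvd hg), Nat.div_div_self hg (by omega)]
    let eqv : {g : G // 2 ∣ orderOf g} ≃
        Σ v : {v : G // orderOf v = 2}, {g : G // g ≠ 1 ∧ (v : G) ∈ Subgroup.zpowers g} :=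
      { toFun := fun g => ⟨⟨g.1 ^ (orderOf g.1 / 2), hpick g.1 g.2⟩, ⟨g.1, fun e => by
            have h := g.2
            rw [e, orderOf_one] at h
            omega, half_pow_mem g.1 _⟩⟩
        invFun := fun w => ⟨w.2.1, by
          have h := Subgroup.orderOf_dvd_natCard _ w.2.2.2
          rwa [Nat.card_zpowers, w.1.2] at h⟩
        left_inv := fun g => rfl
        right_inv := by
          rintro ⟨⟨v, hv⟩, ⟨g, hg1, hgv⟩⟩
          have hve : v = g ^ (orderOf g / 2) := invol_mem_zpowers_eq hv hgv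
          subst hve
          rfl }
    have h := hEv495
    rw [hEv, ← Fintype.card_subtype, ← Nat.card_eq_fintype_card, Nat.card_congr eqv,
      Nat.card_sigma, Finset.sum_congr rfl (fun v _ => hfib v), Finset.sum_const, Finset.card_univ,
      ← Nat.card_eq_fintype_card, hinvcard, smul_eq_mul] at h
    omega
  set T := Subgroup.centralizer ({z} : Set G) with hT
  have hzT : z ∈ T := Subgroup.mem_centralizer_singleton_iff.2 rfl
  have hcountT : Nat.card {g : T // g ≠ 1 ∧ (⟨z, hzT⟩ : T) ∈ Subgroup.zpowers g} = 11 := by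
    rw [← hcount]
    refine Nat.card_congr
      { toFun := fun g => ⟨g.1.1, fun e => g.2.1 (Subtype.ext e), ?_⟩
        invFun := fun g => ⟨⟨g.1, ?_⟩, fun e => g.2.1 (congrArg Subtype.val e), ?_⟩
        left_inv := fun g => rfl
        right_inv := fun g => rfl }
    · obtain ⟨k, hk⟩ := Subgroup.mem_zpowers_iff.1 g.2.2
      exact ⟨k, congrArg Subtype.val hk⟩
    · obtain ⟨k, hk⟩ := Subgroup.mem_zpowers_iff.1 g.2.2
      refine Subgroup.mem_centralizer_singleton_iff.2 ?_
      have hc := ((Commute.refl g.1).zpow_right k).eq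
      simp only [hk] at hc
      exact hc
    · obtain ⟨k, hk⟩ := Subgroup.mem_zpowers_iff.1 g.2.2
      exact ⟨k, Subtype.ext hk⟩
  obtain ⟨g, w, hg, hgz, -, hw, hww⟩ := exists_eight_four hC16
    (z := ⟨z, hzT⟩) ((Subgroup.orderOf_coe _).symm.trans hs)
    (fun a => Subtype.ext (Subgroup.mem_centralizer_singleton_iff.1 a.2)) hcountT
  refine false_of_eight_four hG hs hT.symm.symm hC16 g.2 w.2
    ((Subgroup.orderOf_coe g).trans hg) (congrArg Subtype.val hgz) (fun h => hw ?_)
    (congrArg Subtype.val hww)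
  obtain ⟨k, hk⟩ := Subgroup.mem_zpowers_iff.1 h
  exact ⟨k, Subtype.ext hk⟩

end CfsgLib.Classification.SmallOrders
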