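import Cfsg.Agent.Classification.SmallOrders.Check

/-!
# Certificates for the orders up to 1092
-/

set_option autoImplicit false

namespace CfsgLib.Classification.SmallOrders

/-- Certificates from order 1 on. -/
def table0 : List Cert :=
  [.pq 2 2 0 0, .pq 2 2 1 0, .pq 3 2 1 0, .pq 2 2 2 0, .pq 5 2 1 0, .pq 2 3 1 1, .pq 7 2 1 0,
   .pq 2 2 3 0, .pq 3 2 2 0, .pq 2 5 1 1, .pq 11 2 1 0, .pq 2 3 2 1, .pq 13 2 1 0, .pq 2 7 1 1,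
   .pq 3 5 1 1, .pq 2 2 4 0, .pq 17 2 1 0, .pq 2 3 1 2, .pq 19 2 1 0, .pq 2 5 2 1, .pq 3 7 1 1,
   .pq 2 11 1 1, .pq 23 2 1 0, .pq 2 3 3 1, .pq 5 2 2 0, .pq 2 13 1 1, .pq 3 2 3 0, .pq 2 7 2 1,
   .pq 29 2 1 0, .two, .pq 31 2 1 0, .pq 2 2 5 0, .pq 3 11 1 1, .pq 2 17 1 1, .pq 5 7 1 1,
   .pq 2 3 2 2, .pq 37 2 1 0, .pq 2 19 1 1, .pq 3 13 1 1, .pq 2 5 3 1, .pq 41 2 1 0, .two,
   .pq 43 2 1 0, .pq 2 11 2 1, .pq 3 5 2 1, .pq 2 23 1 1, .pq 47 2 1 0, .pq 2 3 4 1, .pq 7 2 2 0,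
   .pq 2 5 1 2, .pq 3 17 1 1, .pq 2 13 2 1, .pq 53 2 1 0, .pq 2 3 1 3, .pq 5 11 1 1, .pq 2 7 3 1,
   .pq 3 19 1 1, .pq 2 29 1 1, .pq 59 2 1 0, .target, .pq 61 2 1 0, .pq 2 31 1 1, .pq 3 7 2 1,
   .pq 2 2 6 0, .pq 5 13 1 1, .two, .pq 67 2 1 0, .pq 2 17 2 1, .pq 3 23 1 1, .two, .pq 71 2 1 0,
   .pq 2 3 3 2, .pq 73 2 1 0, .pq 2 37 1 1, .pq 3 5 1 2, .pq 2 19 2 1, .pq 7 11 1 1, .two,
   .pq 79 2 1 0, .pq 2 5 4 1, .pq 3 2 4 0, .pq 2 41 1 1, .pq 83 2 1 0, .syl 7 1, .pq 5 17 1 1,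
   .pq 2 43 1 1, .pq 3 29 1 1, .pq 2 11 3 1, .pq 89 2 1 0, .two, .pq 7 13 1 1, .pq 2 23 2 1,
   .pq 3 31 1 1, .pq 2 47 1 1, .pq 5 19 1 1, .pq 2 3 5 1, .pq 97 2 1 0, .pq 2 7 1 2, .pq 3 11 2 1,
   .pq 2 5 2 2]

theorem table0_check : checkFrom 1 table0 = true := by decide +kernel

/-- Certificates from order 101 on. -/
def table1 : List Cert :=
  [.pq 101 2 1 0, .two, .pq 103 2 1 0, .pq 2 13 3 1, .syl 7 1, .pq 2 53 1 1, .pq 107 2 1 0,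
   .pq 2 3 2 3, .pq 109 2 1 0, .two, .pq 3 37 1 1, .pq 2 7 4 1, .pq 113 2 1 0, .two, .pq 5 23 1 1,
   .pq 2 29 2 1, .pq 3 13 2 1, .pq 2 59 1 1, .pq 7 17 1 1, .syl 3 1, .pq 11 2 2 0, .pq 2 61 1 1,
   .pq 3 41 1 1, .pq 2 31 2 1, .pq 5 2 3 0, .two, .pq 127 2 1 0, .pq 2 2 7 0, .pq 3 43 1 1,
   .two, .pq 131 2 1 0, .syl 11 1, .pq 7 19 1 1, .pq 2 67 1 1, .pq 3 5 3 1, .pq 2 17 3 1,
   .pq 137 2 1 0, .two, .pq 139 2 1 0, .syl 7 1, .pq 3 47 1 1, .pq 2 71 1 1, .pq 11 13 1 1,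
   .pq 2 3 4 2, .pq 5 29 1 1, .pq 2 73 1 1, .pq 3 7 1 2, .pq 2 37 2 1, .pq 149 2 1 0,
   .two, .pq 151 2 1 0, .pq 2 19 3 1, .pq 3 17 2 1, .two, .pq 5 31 1 1, .syl 13 1, .pq 157 2 1 0,
   .pq 2 79 1 1, .pq 3 53 1 1, .pq 2 5 5 1, .pq 7 23 1 1, .pq 2 3 1 4, .pq 163 2 1 0,
   .pq 2 41 2 1, .syl 11 1, .pq 2 83 1 1, .pq 167 2 1 0, .target, .pq 13 2 2 0, .two,
   .pq 3 19 2 1, .pq 2 43 2 1, .pq 173 2 1 0, .two, .pq 5 7 2 1, .pq 2 11 4 1, .pq 3 59 1 1,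
   .pq 2 89 1 1, .pq 179 2 1 0, .syl 5 1, .pq 181 2 1 0, .two, .pq 3 61 1 1, .pq 2 23 3 1,
   .pq 5 37 1 1, .two, .pq 11 17 1 1, .pq 2 47 2 1, .pq 3 7 3 1, .two, .pq 191 2 1 0,
   .pq 2 3 6 1, .pq 193 2 1 0, .pq 2 97 1 1, .syl 13 1, .pq 2 7 2 2, .pq 197 2 1 0, .two,
   .pq 199 2 1 0, .pq 2 5 3 2]

theorem table1_check : checkFrom 101 table1 = true := by decide +kernel

/-- Certificates from order 201 on. -/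
def table2 : List Cert :=
  [.pq 3 67 1 1, .pq 2 101 1 1, .pq 7 29 1 1, .syl 17 1, .pq 5 41 1 1, .pq 2 103 1 1,
   .pq 3 23 2 1, .pq 2 13 4 1, .pq 11 19 1 1, .two, .pq 211 2 1 0, .pq 2 53 2 1, .pq 3 71 1 1,
   .pq 2 107 1 1, .pq 5 43 1 1, .pq 2 3 3 3, .pq 7 31 1 1, .pq 2 109 1 1, .pq 3 73 1 1,
   .syl 11 1, .pq 13 17 1 1, .two, .pq 223 2 1 0, .pq 2 7 5 1, .pq 3 5 2 2, .pq 2 113 1 1,
   .pq 227 2 1 0, .syl 19 1, .pq 229 2 1 0, .two, .syl 11 1, .pq 2 29 3 1, .pq 233 2 1 0,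
   .two, .pq 5 47 1 1, .pq 2 59 2 1, .pq 3 79 1 1, .two, .pq 239 2 1 0, .syl 5 1, .pq 241 2 1 0,
   .pq 2 11 1 2, .pq 3 2 5 0, .pq 2 61 2 1, .pq 5 7 1 2, .two, .pq 13 19 1 1, .pq 2 31 3 1,
   .pq 3 83 1 1, .pq 2 5 1 3, .pq 251 2 1 0, .syl 7 1, .pq 11 23 1 1, .pq 2 127 1 1, .syl 17 1,
   .pq 2 2 8 0, .pq 257 2 1 0, .two, .pq 7 37 1 1, .syl 13 1, .pq 3 29 2 1, .pq 2 131 1 1,
   .pq 263 2 1 0, .syl 11 1, .pq 5 53 1 1, .two, .pq 3 89 1 1, .pq 2 67 2 1, .pq 269 2 1 0,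
   .two, .pq 271 2 1 0, .pq 2 17 4 1, .syl 13 1, .pq 2 137 1 1, .pq 5 11 2 1, .syl 23 1,
   .pq 277 2 1 0, .pq 2 139 1 1, .pq 3 31 2 1, .syl 7 1, .pq 281 2 1 0, .two, .pq 283 2 1 0,
   .pq 2 71 2 1, .syl 19 1, .two, .pq 7 41 1 1, .pq 2 3 5 2, .pq 17 2 2 0, .two, .pq 3 97 1 1,
   .pq 2 73 2 1, .pq 293 2 1 0, .two, .pq 5 59 1 1, .pq 2 37 3 1, .pq 3 11 3 1, .pq 2 149 1 1,
   .pq 13 23 1 1, .syl 5 2]

theorem table2_check : checkFrom 201 table2 = true := by decide +kernel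

/-- Certificates from order 301 on. -/
def table3 : List Cert :=
  [.pq 7 43 1 1, .pq 2 151 1 1, .pq 3 101 1 1, .pq 2 19 4 1, .pq 5 61 1 1, .two, .pq 307 2 1 0,
   .syl 11 1, .pq 3 103 1 1, .two, .pq 311 2 1 0, .syl 13 1, .pq 313 2 1 0, .pq 2 157 1 1,
   .syl 5 1, .pq 2 79 2 1, .pq 317 2 1 0, .two, .pq 11 29 1 1, .pq 2 5 6 1, .pq 3 107 1 1,
   .two, .pq 17 19 1 1, .pq 2 3 2 4, .pq 5 13 2 1, .pq 2 163 1 1, .pq 3 109 1 1, .pq 2 41 3 1,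
   .pq 7 47 1 1, .two, .pq 331 2 1 0, .pq 2 83 2 1, .pq 3 37 2 1, .pq 2 167 1 1, .pq 5 67 1 1,
   .syl 7 1, .pq 337 2 1 0, .pq 2 13 1 2, .pq 3 113 1 1, .syl 17 1, .pq 11 31 1 1, .two,
   .pq 7 2 3 0, .pq 2 43 3 1, .syl 23 1, .pq 2 173 1 1, .pq 347 2 1 0, .syl 29 1, .pq 349 2 1 0,
   .two, .pq 3 13 3 1, .pq 2 11 5 1, .pq 353 2 1 0, .two, .pq 5 71 1 1, .pq 2 89 2 1,
   .syl 17 1, .pq 2 179 1 1, .pq 359 2 1 0, .target, .pq 19 2 2 0, .pq 2 181 1 1, .pq 3 11 1 2,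
   .syl 7 1, .pq 5 73 1 1, .two, .pq 367 2 1 0, .pq 2 23 4 1, .pq 3 41 2 1, .two, .pq 7 53 1 1,
   .syl 31 1, .pq 373 2 1 0, .two, .pq 3 5 1 3, .pq 2 47 3 1, .pq 13 29 1 1, .two, .pq 379 2 1 0,
   .syl 19 1, .pq 3 127 1 1, .pq 2 191 1 1, .pq 383 2 1 0, .pq 2 3 7 1, .syl 11 1, .pq 2 193 1 1,
   .pq 3 43 2 1, .pq 2 97 2 1, .pq 389 2 1 0, .two, .pq 17 23 1 1, .pq 2 7 3 2, .pq 3 131 1 1,
   .pq 2 197 1 1, .pq 5 79 1 1, .syl 11 1, .pq 397 2 1 0, .pq 2 199 1 1, .syl 19 1, .pq 2 5 4 2]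

theorem table3_check : checkFrom 301 table3 = true := by decide +kernel

/-- Certificates from order 401 on. -/
def table4 : List Cert :=
  [.pq 401 2 1 0, .two, .pq 13 31 1 1, .pq 2 101 2 1, .pq 3 5 4 1, .two, .pq 11 37 1 1,
   .syl 17 1, .pq 409 2 1 0, .two, .pq 3 137 1 1, .pq 2 103 2 1, .pq 7 59 1 1, .two, .pq 5 83 1 1,
   .pq 2 13 5 1, .pq 3 139 1 1, .two, .pq 419 2 1 0, .syl 7 1, .pq 421 2 1 0, .pq 2 211 1 1,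
   .pq 3 47 2 1, .pq 2 53 3 1, .pq 5 17 2 1, .two, .pq 7 61 1 1, .pq 2 107 2 1, .syl 13 1,
   .two, .pq 431 2 1 0, .pq 2 3 4 3, .pq 433 2 1 0, .two, .syl 29 1, .pq 2 109 2 1, .pq 19 23 1 1,
   .two, .pq 439 2 1 0, .syl 11 1, .pq 3 7 2 2, .two, .pq 443 2 1 0, .syl 37 1, .pq 5 89 1 1,
   .pq 2 223 1 1, .pq 3 149 1 1, .pq 2 7 6 1, .pq 449 2 1 0, .two, .pq 11 41 1 1, .pq 2 113 2 1,
   .pq 3 151 1 1, .pq 2 227 1 1, .syl 13 1, .syl 19 1, .pq 457 2 1 0, .pq 2 229 1 1, .pq 3 17 3 1,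
   .syl 23 1, .pq 461 2 1 0, .two, .pq 463 2 1 0, .pq 2 29 4 1, .syl 31 1, .pq 2 233 1 1,
   .pq 467 2 1 0, .syl 13 1, .pq 7 67 1 1, .two, .pq 3 157 1 1, .pq 2 59 3 1, .pq 11 43 1 1,
   .two, .pq 5 19 2 1, .syl 17 1, .pq 3 53 2 1, .pq 2 239 1 1, .pq 479 2 1 0, .syl 2 5,
   .pq 13 37 1 1, .pq 2 241 1 1, .syl 23 1, .pq 2 11 2 2, .pq 5 97 1 1, .pq 2 3 1 5, .pq 487 2 1 0,
   .pq 2 61 3 1, .pq 3 163 1 1, .two, .pq 491 2 1 0, .syl 41 1, .pq 17 29 1 1, .two, .syl 11 1,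
   .pq 2 31 4 1, .pq 7 71 1 1, .two, .pq 499 2 1 0, .pq 2 5 2 3]

theorem table4_check : checkFrom 401 table4 = true := by decide +kernel

/-- Certificates from order 501 on. -/
def table5 : List Cert :=
  [.pq 3 167 1 1, .pq 2 251 1 1, .pq 503 2 1 0, .target, .pq 5 101 1 1, .two, .pq 3 13 1 2,
   .pq 2 127 2 1, .pq 509 2 1 0, .two, .pq 7 73 1 1, .pq 2 2 9 0, .pq 3 19 3 1, .pq 2 257 1 1,
   .pq 5 103 1 1, .syl 43 1, .pq 11 47 1 1, .two, .pq 3 173 1 1, .syl 13 1, .pq 521 2 1 0,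
   .two, .pq 523 2 1 0, .pq 2 131 2 1, .syl 7 1, .pq 2 263 1 1, .pq 17 31 1 1, .syl 11 1,
   .pq 23 2 2 0, .two, .pq 3 59 2 1, .syl 19 1, .pq 13 41 1 1, .two, .pq 5 107 1 1, .pq 2 67 3 1,
   .pq 3 179 1 1, .pq 2 269 1 1, .pq 7 11 2 1, .syl 5 1, .pq 541 2 1 0, .pq 2 271 1 1,
   .pq 3 181 1 1, .pq 2 17 5 1, .pq 5 109 1 1, .two, .pq 547 2 1 0, .pq 2 137 2 1, .pq 3 61 2 1,
   .two, .pq 19 29 1 1, .syl 23 1, .pq 7 79 1 1, .pq 2 277 1 1, .syl 37 1, .pq 2 139 2 1,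
   .pq 557 2 1 0, .two, .pq 13 43 1 1, .syl 7 1, .syl 17 1, .pq 2 281 1 1, .pq 563 2 1 0,
   .syl 47 1, .pq 5 113 1 1, .pq 2 283 1 1, .pq 3 7 4 1, .pq 2 71 3 1, .pq 569 2 1 0,
   .two, .pq 571 2 1 0, .syl 13 1, .pq 3 191 1 1, .two, .pq 5 23 2 1, .pq 2 3 6 2, .pq 577 2 1 0,
   .pq 2 17 1 2, .pq 3 193 1 1, .syl 29 1, .pq 7 83 1 1, .two, .pq 11 53 1 1, .pq 2 73 3 1,
   .syl 13 1, .pq 2 293 1 1, .pq 587 2 1 0, .syl 7 2, .pq 19 31 1 1, .two, .pq 3 197 1 1,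
   .pq 2 37 4 1, .pq 593 2 1 0, .two, .syl 17 1, .pq 2 149 2 1, .pq 3 199 1 1, .two, .pq 599 2 1 0,
   .syl 5 2]

theorem table5_check : checkFrom 501 table5 = true := by decide +kernel

/-- Certificates from order 601 on. -/
def table6 : List Cert :=
  [.pq 601 2 1 0, .two, .pq 3 67 2 1, .pq 2 151 2 1, .pq 5 11 1 2, .two, .pq 607 2 1 0,
   .pq 2 19 5 1, .syl 29 1, .two, .pq 13 47 1 1, .hand, .pq 613 2 1 0, .pq 2 307 1 1,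
   .syl 41 1, .syl 11 1, .pq 617 2 1 0, .two, .pq 619 2 1 0, .syl 31 1, .pq 3 23 3 1,
   .pq 2 311 1 1, .pq 7 89 1 1, .syl 13 1, .pq 5 2 4 0, .pq 2 313 1 1, .syl 19 1, .pq 2 157 2 1,
   .pq 17 37 1 1, .two, .pq 631 2 1 0, .pq 2 79 3 1, .pq 3 211 1 1, .pq 2 317 1 1, .pq 5 127 1 1,
   .syl 53 1, .pq 7 13 2 1, .two, .pq 3 71 2 1, .pq 2 5 7 1, .pq 641 2 1 0, .two, .pq 643 2 1 0,
   .syl 23 1, .syl 43 1, .two, .pq 647 2 1 0, .pq 2 3 3 4, .pq 11 59 1 1, .two, .syl 31 1,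
   .pq 2 163 2 1, .pq 653 2 1 0, .two, .pq 5 131 1 1, .pq 2 41 4 1, .pq 3 73 2 1, .two,
   .pq 659 2 1 0, .target, .pq 661 2 1 0, .pq 2 331 1 1, .syl 17 1, .pq 2 83 3 1, .syl 19 1,
   .two, .pq 23 29 1 1, .pq 2 167 2 1, .pq 3 223 1 1, .two, .pq 11 61 1 1, .syl 7 1, .pq 673 2 1 0,
   .pq 2 337 1 1, .pq 3 5 3 2, .pq 2 13 2 2, .pq 677 2 1 0, .two, .pq 7 97 1 1, .syl 17 1,
   .pq 3 227 1 1, .two, .pq 683 2 1 0, .syl 19 1, .pq 5 137 1 1, .pq 2 7 1 3, .pq 3 229 1 1,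
   .pq 2 43 4 1, .pq 13 53 1 1, .two, .pq 691 2 1 0, .pq 2 173 2 1, .syl 11 1, .pq 2 347 1 1,
   .pq 5 139 1 1, .syl 29 1, .pq 17 41 1 1, .pq 2 349 1 1, .pq 3 233 1 1, .syl 5 2]

theorem table6_check : checkFrom 601 table6 = true := by decide +kernel

/-- Certificates from order 701 on. -/
def table7 : List Cert :=
  [.pq 701 2 1 0, .two, .pq 19 37 1 1, .pq 2 11 6 1, .syl 47 1, .pq 2 353 1 1, .pq 7 101 1 1,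
   .syl 59 1, .pq 709 2 1 0, .two, .pq 3 79 2 1, .pq 2 89 3 1, .pq 23 31 1 1, .two, .syl 13 1,
   .pq 2 179 2 1, .pq 3 239 1 1, .pq 2 359 1 1, .pq 719 2 1 0, .hand, .pq 7 103 1 1, .pq 2 19 1 2,
   .pq 3 241 1 1, .pq 2 181 2 1, .pq 5 29 2 1, .two, .pq 727 2 1 0, .syl 7 1, .pq 3 2 6 0,
   .two, .pq 17 43 1 1, .syl 61 1, .pq 733 2 1 0, .pq 2 367 1 1, .syl 7 2, .pq 2 23 5 1,
   .pq 11 67 1 1, .two, .pq 739 2 1 0, .syl 37 1, .syl 19 1, .two, .pq 743 2 1 0, .syl 31 1,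
   .pq 5 149 1 1, .pq 2 373 1 1, .pq 3 83 2 1, .syl 17 1, .pq 7 107 1 1, .two, .pq 751 2 1 0,
   .pq 2 47 4 1, .pq 3 251 1 1, .two, .pq 5 151 1 1, .hand, .pq 757 2 1 0, .pq 2 379 1 1,
   .syl 23 1, .syl 19 1, .pq 761 2 1 0, .two, .pq 7 109 1 1, .pq 2 191 2 1, .syl 17 1,
   .pq 2 383 1 1, .pq 13 59 1 1, .pq 2 3 8 1, .pq 769 2 1 0, .two, .pq 3 257 1 1, .pq 2 193 2 1,
   .pq 773 2 1 0, .two, .pq 5 31 2 1, .pq 2 97 3 1, .syl 37 1, .pq 2 389 1 1, .pq 19 41 1 1,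
   .syl 13 1, .pq 11 71 1 1, .two, .pq 3 29 3 1, .pq 2 7 4 2, .pq 5 157 1 1, .two, .pq 787 2 1 0,
   .pq 2 197 2 1, .pq 3 263 1 1, .two, .pq 7 113 1 1, .syl 11 1, .pq 13 61 1 1, .pq 2 397 1 1,
   .syl 53 1, .pq 2 199 2 1, .pq 797 2 1 0, .two, .pq 17 47 1 1, .pq 2 5 5 2]

theorem table7_check : checkFrom 701 table7 = true := by decide +kernel

/-- Certificates from order 801 on. -/
def table8 : List Cert :=
  [.pq 3 89 2 1, .pq 2 401 1 1, .pq 11 73 1 1, .syl 67 1, .syl 23 1, .two, .pq 3 269 1 1,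
   .pq 2 101 3 1, .pq 809 2 1 0, .two, .pq 811 2 1 0, .syl 29 1, .pq 3 271 1 1, .two,
   .pq 5 163 1 1, .syl 17 1, .pq 19 43 1 1, .pq 2 409 1 1, .syl 13 1, .syl 41 1, .pq 821 2 1 0,
   .two, .pq 823 2 1 0, .pq 2 103 3 1, .syl 11 1, .two, .pq 827 2 1 0, .syl 23 1, .pq 829 2 1 0,
   .two, .pq 3 277 1 1, .pq 2 13 6 1, .pq 7 17 2 1, .two, .pq 5 167 1 1, .syl 19 1, .pq 3 31 3 1,
   .pq 2 419 1 1, .pq 839 2 1 0, .syl 7 1, .pq 29 2 2 0, .pq 2 421 1 1, .pq 3 281 1 1,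
   .pq 2 211 2 1, .pq 5 13 1 2, .two, .pq 7 11 1 2, .pq 2 53 4 1, .pq 3 283 1 1, .two,
   .pq 23 37 1 1, .syl 71 1, .pq 853 2 1 0, .two, .syl 19 1, .pq 2 107 3 1, .pq 857 2 1 0,
   .two, .pq 859 2 1 0, .syl 43 1, .syl 41 1, .pq 2 431 1 1, .pq 863 2 1 0, .pq 2 3 5 3,
   .pq 5 173 1 1, .pq 2 433 1 1, .pq 3 17 1 2, .syl 31 1, .pq 11 79 1 1, .two, .pq 13 67 1 1,
   .pq 2 109 3 1, .pq 3 97 2 1, .two, .pq 5 7 3 1, .syl 73 1, .pq 877 2 1 0, .pq 2 439 1 1,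
   .pq 3 293 1 1, .syl 11 1, .pq 881 2 1 0, .two, .pq 883 2 1 0, .syl 17 1, .syl 59 1,
   .pq 2 443 1 1, .pq 887 2 1 0, .syl 37 1, .pq 7 127 1 1, .two, .pq 3 11 4 1, .pq 2 223 2 1,
   .pq 19 47 1 1, .two, .pq 5 179 1 1, .pq 2 7 7 1, .syl 23 1, .pq 2 449 1 1, .pq 29 31 1 1,
   .syl 5 2]

theorem table8_check : checkFrom 801 table8 = true := by decide +kernel

/-- Certificates from order 901 on. -/
def table9 : List Cert :=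
  [.pq 17 53 1 1, .two, .syl 43 1, .pq 2 113 3 1, .pq 5 181 1 1, .two, .pq 907 2 1 0,
   .pq 2 227 2 1, .pq 3 101 2 1, .two, .pq 911 2 1 0, .syl 19 1, .pq 11 83 1 1, .pq 2 457 1 1,
   .syl 61 1, .pq 2 229 2 1, .pq 7 131 1 1, .two, .pq 919 2 1 0, .syl 23 1, .pq 3 307 1 1,
   .pq 2 461 1 1, .pq 13 71 1 1, .syl 11 1, .pq 5 37 2 1, .pq 2 463 1 1, .pq 3 103 2 1,
   .pq 2 29 5 1, .pq 929 2 1 0, .two, .pq 7 19 2 1, .pq 2 233 2 1, .pq 3 311 1 1, .pq 2 467 1 1,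
   .syl 17 1, .syl 13 1, .pq 937 2 1 0, .two, .pq 3 313 1 1, .syl 47 1, .pq 941 2 1 0,
   .two, .pq 23 41 1 1, .pq 2 59 4 1, .syl 5 1, .two, .pq 947 2 1 0, .syl 79 1, .pq 13 73 1 1,
   .two, .pq 3 317 1 1, .syl 17 1, .pq 953 2 1 0, .two, .pq 5 191 1 1, .pq 2 239 2 1,
   .syl 29 1, .pq 2 479 1 1, .pq 7 137 1 1, .syl 2 6, .pq 31 2 2 0, .two, .pq 3 107 2 1,
   .pq 2 241 2 1, .pq 5 193 1 1, .two, .pq 967 2 1 0, .pq 2 11 3 2, .syl 19 1, .two, .pq 971 2 1 0,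
   .pq 2 3 2 5, .pq 7 139 1 1, .pq 2 487 1 1, .syl 13 1, .pq 2 61 4 1, .pq 977 2 1 0,
   .two, .pq 11 89 1 1, .syl 7 2, .pq 3 109 2 1, .pq 2 491 1 1, .pq 983 2 1 0, .syl 41 1,
   .pq 5 197 1 1, .two, .syl 47 1, .syl 19 1, .pq 23 43 1 1, .two, .pq 991 2 1 0, .pq 2 31 5 1,
   .pq 3 331 1 1, .two, .pq 5 199 1 1, .syl 83 1, .pq 997 2 1 0, .pq 2 499 1 1, .pq 3 37 3 1,
   .pq 2 5 3 3]

theorem table9_check : checkFrom 901 table9 = true := by decide +kernel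

/-- Certificates from order 1001 on. -/
def table10 : List Cert :=
  [.syl 13 1, .two, .pq 17 59 1 1, .pq 2 251 2 1, .syl 67 1, .pq 2 503 1 1, .pq 19 53 1 1,
   .hand, .pq 1009 2 1 0, .two, .pq 3 337 1 1, .syl 23 1, .pq 1013 2 1 0, .two, .syl 29 1,
   .pq 2 127 3 1, .pq 3 113 2 1, .pq 2 509 1 1, .pq 1019 2 1 0, .syl 17 1, .pq 1021 2 1 0,
   .two, .syl 31 1, .pq 2 2 10 0, .pq 5 41 2 1, .two, .pq 13 79 1 1, .pq 2 257 2 1, .pq 3 7 1 3,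
   .two, .pq 1031 2 1 0, .syl 43 1, .pq 1033 2 1 0, .two, .syl 23 1, .syl 37 1, .pq 17 61 1 1,
   .two, .pq 1039 2 1 0, .hand, .pq 3 347 1 1, .pq 2 521 1 1, .pq 7 149 1 1, .syl 29 1,
   .syl 19 1, .pq 2 523 1 1, .pq 3 349 1 1, .pq 2 131 3 1, .pq 1049 2 1 0, .two, .pq 1051 2 1 0,
   .pq 2 263 2 1, .pq 3 13 4 1, .two, .pq 5 211 1 1, .syl 11 1, .pq 7 151 1 1, .pq 2 23 1 2,
   .pq 3 353 1 1, .syl 53 1, .pq 1061 2 1 0, .two, .pq 1063 2 1 0, .syl 19 1, .syl 71 1,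
   .two, .pq 11 97 1 1, .syl 89 1, .pq 1069 2 1 0, .two, .syl 17 1, .pq 2 67 4 1, .pq 29 37 1 1,
   .two, .pq 5 43 2 1, .pq 2 269 2 1, .pq 3 359 1 1, .two, .pq 13 83 1 1, .hand, .pq 23 47 1 1,
   .pq 2 541 1 1, .pq 3 19 1 2, .pq 2 271 2 1, .syl 31 1, .two, .pq 1087 2 1 0, .pq 2 17 6 1,
   .pq 3 11 2 2, .two, .pq 1091 2 1 0, .target]

theorem table10_check : checkFrom 1001 table10 = true := by decide +kernel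

theorem exists_cert {N : ℕ} (h1 : 1 ≤ N) (h2 : N ≤ 1092) : ∃ c : Cert, c.check N = true := by
  by_cases h0 : N < 101
  · exact exists_cert_of_checkFrom table0_check (by omega) (by simp [table0]; omega)
  by_cases h1 : N < 201
  · exact exists_cert_of_checkFrom table1_check (by omega) (by simp [table1]; omega)
  by_cases h2 : N < 301
  · exact exists_cert_of_checkFrom table2_check (by omega) (by simp [table2]; omega)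
  by_cases h3 : N < 401
  · exact exists_cert_of_checkFrom table3_check (by omega) (by simp [table3]; omega)
  by_cases h4 : N < 501
  · exact exists_cert_of_checkFrom table4_check (by omega) (by simp [table4]; omega)
  by_cases h5 : N < 601
  · exact exists_cert_of_checkFrom table5_check (by omega) (by simp [table5]; omega)
  by_cases h6 : N < 701
  · exact exists_cert_of_checkFrom table6_check (by omega) (by simp [table6]; omega)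
  by_cases h7 : N < 801
  · exact exists_cert_of_checkFrom table7_check (by omega) (by simp [table7]; omega)
  by_cases h8 : N < 901
  · exact exists_cert_of_checkFrom table8_check (by omega) (by simp [table8]; omega)
  by_cases h9 : N < 1001
  · exact exists_cert_of_checkFrom table9_check (by omega) (by simp [table9]; omega)
  by_cases h10 : N < 1093
  · exact exists_cert_of_checkFrom table10_check (by omega) (by simp [table10]; omega)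
  omega

end CfsgLib.Classification.SmallOrders
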