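import Cfsg.Agent.Classification.SmallOrders.Tools
import Cfsg.Agent.Characters.Burnside

/-!
# A checkable criterion excluding most small orders
-/

set_option autoImplicit false

namespace CfsgLib.Classification.SmallOrders

open CfsgLib.Small

/-- `d! mod M`, computed without large numbers. -/
def factMod (M : ℕ) : ℕ → ℕ
  | 0 => 1 % M
  | d + 1 => (d + 1) * factMod M d % M

theorem factMod_eq (M : ℕ) : ∀ d, factMod M d = d.factorial % M
  | 0 => rfl
  | d + 1 => by
    rw [factMod, factMod_eq M d, Nat.factorial_succ, Nat.mul_mod (d + 1) d.factorial,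
      Nat.mul_mod (d + 1) (d.factorial % M), Nat.mod_mod]

/-- Trial division, correct up to `1155`. -/
def primeCheck (p : ℕ) : Bool :=
  decide (2 ≤ p) && decide (p ≤ 1155)
    && (List.range 32).all fun i => decide (p ≤ i + 2) || !(p % (i + 2) == 0)

theorem prime_of_primeCheck {p : ℕ} (h : primeCheck p = true) : p.Prime := by
  simp only [primeCheck, Bool.and_eq_true, Bool.or_eq_true, decide_eq_true_eq, List.all_eq_true,
    List.mem_range, Bool.not_eq_true', beq_eq_false_iff_ne] at h
  obtain ⟨⟨h2, hb⟩, hall⟩ := h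
  refine Nat.prime_def_le_sqrt.2 ⟨h2, fun m hm2 hm hdvd => ?_⟩
  have hsq : Nat.sqrt p ≤ 33 := Nat.lt_succ_iff.1 (Nat.sqrt_lt.2 (by omega))
  have hlt : Nat.sqrt p < p := Nat.sqrt_lt_self (by omega)
  have := hall (m - 2) (by omega)
  rw [Nat.sub_add_cancel hm2] at this
  rcases this with h' | h'
  · omega
  · exact h' (Nat.mod_eq_zero_of_dvd hdvd)

/-- The normaliser of a Sylow subgroup of prime order `p` cannot fit `d` such subgroups. -/
def primeOrderCheck (N p d : ℕ) : Bool :=
  (List.range p).all fun r => r < 2 || !((p - 1) % r == 0) || !(N % (d * (r * p)) == 0) ||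
    (decide (d ≤ 4 * p) && !(p == 2) && (N / (d * (r * p)) % 2 == 0)) ||
    ((d == p + 1) && !(N / (d * (r * p)) == 1)) ||
    ((d == p + 1) && (p % 4 == 3) && (N / d % 2 == 0))

/-- No subgroup of index `e ∣ m` can be the normaliser of a Sylow intersection of index `p`. -/
def interCheck (N p m : ℕ) : Bool :=
  (List.range (m + 1)).all fun e => decide (e < 2) || !(m % e == 0) || !(factMod (2 * N) e == 0) ||
    (List.range (m / e / p + 1)).all fun j => (j == 0) || !(m / e % (1 + j * p) == 0)

/-- The Sylow `p`-subgroups, of order `p ^ a`, cannot be those of a simple group of order `N`. -/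
def sylowCheck (N p a : ℕ) : Bool :=
  primeCheck p && !(a == 0) && (N % p ^ a == 0) && !(N / p ^ a % p == 0) &&
    (List.range (N / p ^ a / p + 1)).all fun k =>
      (k == 0) || !(N / p ^ a % (1 + k * p) == 0) || !(factMod (2 * N) (1 + k * p) == 0) ||
        ((a == 1) && primeOrderCheck N p (1 + k * p)) ||
        (decide (2 ≤ a) && !((1 + k * p) % (p * p) == 1) && interCheck N p (N / p ^ a))

variable {G : Type*} [Group G] [Finite G] [IsSimpleGroup G]

theorem false_of_primeOrderCheck (hG : ¬ IsMulCommutative G) {N p : ℕ} [Fact p.Prime]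
    (hN : Nat.card G = N) (P : Sylow p G) (hP : Nat.card (P : Subgroup G) = p)
    (h : primeOrderCheck N p (Nat.card (Sylow p G)) = true) : False := by
  have hp2 : 2 ≤ p := (Fact.out : p.Prime).two_le
  have hpd : p ∣ Nat.card G := by
    have := Subgroup.card_subgroup_dvd_card (P : Subgroup G)
    rwa [hP] at this
  obtain ⟨r, c, hr, hr1, hNc, hCc⟩ := exists_relIndex hG P hP
  have hmul := card_sylow_mul_card_normalizer P
  rw [hNc, hN] at hmul
  set n := Nat.card (Sylow p G) with hn
  have hr0 : r ≠ 0 := fun e => by subst e; have := zero_dvd_iff.1 hr; omega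
  have hrp : r < p := lt_of_le_of_lt (Nat.le_of_dvd (by omega) hr) (by omega)
  have hpos : 0 < n * (r * p) := Nat.mul_pos Nat.card_pos (Nat.mul_pos (by omega) (by omega))
  have hN1 : N = n * (r * p) * c := by rw [← hmul]; ring
  have hdvd : N % (n * (r * p)) = 0 := by rw [hN1]; exact Nat.mul_mod_right _ _
  have hdiv : N / (n * (r * p)) = c := by rw [hN1]; exact Nat.mul_div_cancel_left _ hpos
  have hdivn : N / n = r * (p * c) := by rw [← hmul]; exact Nat.mul_div_cancel_left _ Nat.card_pos
  simp only [primeOrderCheck, List.all_eq_true, List.mem_range, Bool.or_eq_true, Bool.and_eq_true,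
    decide_eq_true_eq, Bool.not_eq_true', beq_eq_false_iff_ne, beq_iff_eq, hdivn] at h
  rcases h r hrp with ((((h' | h') | h') | h') | h') | h'
  · omega
  · exact h' (Nat.mod_eq_zero_of_dvd hr)
  · exact h' hdvd
  · refine two_not_dvd_card_centralizer hG hpd P hP h'.1.2 h'.1.1 ?_
    rw [hCc]
    exact Dvd.dvd.mul_left (hdiv ▸ Nat.dvd_of_mod_eq_zero h'.2) p
  · have := congrArg (fun H : Subgroup G => Nat.card H) (centralizer_eq_of_card_succ hG hpd P hP h'.1)
    simp only [hCc, hP] at this
    exact h'.2 (hdiv.trans ((Nat.mul_eq_left (by omega)).1 this))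
  · refine two_not_dvd_card_normalizer hG hpd P hP h'.1.1 h'.1.2 ?_
    rw [hNc]
    exact Nat.dvd_of_mod_eq_zero h'.2

theorem false_of_interCheck (hG : ¬ IsMulCommutative G) {N p k m : ℕ} [Fact p.Prime]
    (hN : Nat.card G = N) (hNk : Nat.card G = p ^ k * m) (hm : ¬ p ∣ m) (hk : 2 ≤ k)
    (hn : Nat.card (Sylow p G) % (p * p) ≠ 1) (h : interCheck N p m = true) : False := by
  obtain ⟨D, P, R, c, d, -, -, -, -, -, -, -, hcd, hd2, hfac, hn1, hnmod, hndvd⟩ :=
    exists_inter_normalizer hG hNk hm hk hn
  simp only [interCheck, List.all_eq_true, List.mem_range, Bool.or_eq_true,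
    decide_eq_true_eq, Bool.not_eq_true', beq_eq_false_iff_ne, beq_iff_eq, factMod_eq] at h
  have hc0 : 0 < c := Nat.pos_of_ne_zero fun e => hm (by rw [← hcd, e, zero_mul]; exact dvd_zero p)
  have hdm : d ∣ m := ⟨c, by rw [← hcd, mul_comm]⟩
  have hdiv : m / d = c := by rw [← hcd]; exact Nat.mul_div_cancel _ (by omega)
  have hdle : d ≤ m := by rw [← hcd]; exact Nat.le_mul_of_pos_left _ hc0
  rw [hN] at hfac
  rcases h d (by omega) with ((h' | h') | h') | h'
  · omega
  · exact h' (Nat.mod_eq_zero_of_dvd hdm)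
  · exact h' (Nat.mod_eq_zero_of_dvd hfac)
  · set n := Nat.card (Sylow p (Subgroup.normalizer (D : Set G))) with hnd
    have hdm' := Nat.div_add_mod n p
    rw [hnmod] at hdm'
    have hne : n = 1 + n / p * p := by rw [mul_comm (n / p) p]; omega
    rw [hdiv] at h'
    rcases h' (n / p) (Nat.lt_succ_of_le (Nat.div_le_div_right (Nat.le_of_dvd hc0 hndvd)))
      with h'' | h''
    · rw [h'', zero_mul, add_zero] at hne
      exact hn1 hne
    · exact h'' (Nat.mod_eq_zero_of_dvd (hne ▸ hndvd))

theorem false_of_sylowCheck (hG : ¬ IsMulCommutative G) {N p a : ℕ}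
    (hN : Nat.card G = N) (h : sylowCheck N p a = true) : False := by
  simp only [sylowCheck, Bool.and_eq_true, Bool.or_eq_true, List.all_eq_true, List.mem_range,
    decide_eq_true_eq, Bool.not_eq_true', beq_eq_false_iff_ne, beq_iff_eq, factMod_eq] at h
  obtain ⟨⟨⟨⟨hp, ha⟩, hdvd⟩, hm⟩, hall⟩ := h
  haveI := fact_prime (prime_of_primeCheck hp)
  set m := N / p ^ a with hmdef
  have hNk : Nat.card G = p ^ a * m := by rw [hN, Nat.mul_div_cancel' (Nat.dvd_of_mod_eq_zero hdvd)]
  have hm' : ¬ p ∣ m := fun e => hm (Nat.mod_eq_zero_of_dvd e)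
  have hpG : p ∣ Nat.card G := hNk ▸ Dvd.dvd.mul_right (dvd_pow_self p ha) m
  have hnd := card_sylow_dvd hNk hm'
  have hnmod := card_sylow_mod (G := G) p
  have hn1 := card_sylow_ne_one hG hpG
  have hfac := two_mul_card_dvd_factorial_sylow hG hpG
  rw [hN] at hfac
  have hm0 : 0 < m := Nat.pos_of_ne_zero fun e => hm' (e ▸ dvd_zero p)
  have hdm := Nat.div_add_mod (Nat.card (Sylow p G)) p
  rw [hnmod] at hdm
  have hne : Nat.card (Sylow p G) = 1 + Nat.card (Sylow p G) / p * p := by
    rw [mul_comm (Nat.card (Sylow p G) / p) p]; omega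
  rcases hall (Nat.card (Sylow p G) / p)
    (Nat.lt_succ_of_le (Nat.div_le_div_right (Nat.le_of_dvd hm0 hnd))) with
    ((( h' | h') | h') | h') | h'
  · rw [h', zero_mul, add_zero] at hne
    exact hn1 hne
  · rw [← hne] at h'
    exact h' (Nat.mod_eq_zero_of_dvd hnd)
  · rw [← hne] at h'
    exact h' (Nat.mod_eq_zero_of_dvd hfac)
  · obtain ⟨P⟩ : Nonempty (Sylow p G) := inferInstance
    rw [← hne] at h'
    refine false_of_primeOrderCheck hG hN P ?_ h'.2
    rw [card_sylow_eq hNk hm' P, h'.1, pow_one]
  · rw [← hne] at h'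
    exact false_of_interCheck hG hN hNk hm' h'.1.1 h'.1.2 h'.2

/-- Certificates, one for each order. -/
inductive Cert
  | target
  | hand
  | two
  | pq (p q a b : ℕ)
  | syl (p a : ℕ)

/-- Certificate check for the order `N`. -/
def Cert.check (N : ℕ) : Cert → Bool
  | .target => [60, 168, 360, 504, 660, 1092].contains N
  | .hand => [612, 720, 756, 1008, 1040, 1080].contains N
  | .two => N % 4 == 2
  | .pq p q a b => primeCheck p && primeCheck q && (p ^ a * q ^ b == N)
  | .syl p a => sylowCheck N p a

/-- Check consecutive orders from `i` on. -/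
def checkFrom : ℕ → List Cert → Bool
  | _, [] => true
  | i, c :: cs => c.check i && checkFrom (i + 1) cs

theorem exists_cert_of_checkFrom {N : ℕ} : ∀ {i : ℕ} {L : List Cert},
    checkFrom i L = true → i ≤ N → N < i + L.length → ∃ c : Cert, c.check N = true
  | i, [], _, h1, h2 => by simp only [List.length_nil, add_zero] at h2; omega
  | i, c :: cs, h, h1, h2 => by
    rw [checkFrom, Bool.and_eq_true] at h
    rcases eq_or_lt_of_le h1 with rfl | h1
    · exact ⟨c, h.1⟩
    · exact exists_cert_of_checkFrom h.2 h1 (by simp only [List.length_cons] at h2; omega)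

/-- The checked criteria leave the six orders of simple groups and six special orders. -/
theorem mem_of_check (hG : ¬ IsMulCommutative G) {c : Cert} (h : c.check (Nat.card G) = true) :
    Nat.card G ∈ [60, 168, 360, 504, 660, 1092] ∨ Nat.card G ∈ [612, 720, 756, 1008, 1040, 1080] := by
  cases c with
  | target => exact Or.inl (by simpa [Cert.check] using h)
  | hand => exact Or.inr (by simpa [Cert.check] using h)
  | two =>
    exfalso
    simp only [Cert.check, beq_iff_eq] at h
    have := four_dvd_card_of_simple hG (by omega)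
    omega
  | pq p q a b =>
    exfalso
    simp only [Cert.check, Bool.and_eq_true, beq_iff_eq] at h
    obtain ⟨⟨hp, hq⟩, hab⟩ := h
    haveI : Group.IsSolvable G := CfsgLib.Characters.isSolvable_of_card_eq_primePow_mul p q a b
      (prime_of_primeCheck hp) (prime_of_primeCheck hq) (dvd_of_eq hab.symm)
    exact hG ⟨⟨IsSimpleGroup.comm_iff_isSolvable.2 inferInstance⟩⟩
  | syl p a => exact (false_of_sylowCheck hG rfl h).elim

end CfsgLib.Classification.SmallOrders
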