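import Cfsg.Agent.Small.SimpleTools
import Cfsg.Agent.Small.ThompsonTransfer
import Cfsg.Agent.LocalEvenBasic.DStar
import Mathlib.GroupTheory.Index

/-!
# Criteria against simple groups of small order

Conjugation action on Sylow subgroups of prime order, parity of involutions, intersections of
Sylow subgroups, and Thompson transfer for Sylow 2-subgroups of order sixteen.
-/

set_option autoImplicit false

namespace CfsgLib.Classification.SmallOrders

open CfsgLib.Small

variable {G : Type*} [Group G] [Finite G] [IsSimpleGroup G]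

/-- An involution of a nonabelian simple group moves a multiple of four points. -/
theorem four_dvd_moved (hG : ¬ IsMulCommutative G) {α : Type*} [MulAction G α] [Finite α] {g : G}
    (hg : g * g = 1) : 4 ∣ Nat.card {a : α // g • a ≠ a} := by
  classical
  cases nonempty_fintype α
  set σ : Equiv.Perm α := MulAction.toPermHom G α g with hσ
  have hsupp : Nat.card {a : α // g • a ≠ a} = σ.support.card := by
    rw [Nat.card_eq_fintype_card, Fintype.card_subtype]
    exact congrArg Finset.card (by
      ext a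
      rw [Equiv.Perm.mem_support, Finset.mem_filter]
      simp [hσ])
  rw [hsupp]
  by_cases h1 : σ = 1
  · rw [h1, Equiv.Perm.support_one, Finset.card_empty]
    exact dvd_zero 4
  have hord : orderOf σ = 2 := orderOf_eq_prime (by rw [pow_two, hσ, ← map_mul, hg, map_one]) h1
  obtain ⟨n, hn⟩ := Equiv.Perm.cycleType_prime_order (σ := σ) (hord ▸ Nat.prime_two)
  rw [hord] at hn
  have hs : σ.support.card = 2 * (n + 1) := by
    rw [← Equiv.Perm.sum_cycleType, hn, Multiset.sum_replicate, smul_eq_mul, mul_comm]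
  have hsign := sign_toPerm_eq_one hG (MulAction.toPermHom G α) g
  rw [← hσ, sign_of_sq_eq_one hord, hs, Nat.mul_div_cancel_left _ two_pos,
    neg_one_pow_eq_one_iff_even (by decide)] at hsign
  obtain ⟨j, hj⟩ := hsign
  exact ⟨j, by omega⟩

/-- The conjugation action on Sylow `p`-subgroups is faithful. -/
theorem sylow_action_faithful (hG : ¬ IsMulCommutative G) {p : ℕ} [Fact p.Prime]
    (hp : p ∣ Nat.card G) {g : G} (h : ∀ Q : Sylow p G, g • Q = Q) : g = 1 := by
  let f : G →* Equiv.Perm (Sylow p G) := MulAction.toPermHom G (Sylow p G)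
  have hfg : f g = 1 := Equiv.ext fun Q => h Q
  have hker : g ∈ f.ker := MonoidHom.mem_ker.2 hfg
  rcases (MonoidHom.normal_ker f).eq_bot_or_eq_top with e | e
  · rw [e] at hker; exact Subgroup.mem_bot.1 hker
  · exfalso
    refine card_sylow_ne_one hG hp (Nat.card_eq_one_iff_unique.2 ⟨⟨fun P Q => ?_⟩, inferInstance⟩)
    obtain ⟨x, rfl⟩ := MulAction.exists_smul_eq G P Q
    have hx : x ∈ f.ker := e ▸ Subgroup.mem_top x
    exact (Equiv.congr_fun (MonoidHom.mem_ker.1 hx) P).symm

section prime

variable {p : ℕ} [Fact p.Prime]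

omit [IsSimpleGroup G] in
/-- A nontrivial element of a Sylow subgroup of prime order fixes only that Sylow subgroup. -/
theorem eq_of_smul_eq {P Q : Sylow p G} (hP : Nat.card (P : Subgroup G) = p) {a : G}
    (ha : a ∈ (P : Subgroup G)) (ha1 : a ≠ 1) (h : a • Q = Q) : Q = P := by
  have haN : a ∈ Subgroup.normalizer ((Q : Subgroup G) : Set G) :=
    Sylow.smul_eq_iff_mem_normalizer.1 h
  have hz : IsPGroup p (Subgroup.zpowers a) :=
    (eq_zpowers_of_mem_prime hP ha ha1).symm ▸ P.isPGroup'
  have hle : Subgroup.zpowers a ≤ (Q : Subgroup G) :=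
    (inf_eq_left.2 (Subgroup.zpowers_le.2 haN)).symm.le.trans
      ((hz.inf_normalizer_sylow Q).le.trans inf_le_right)
  rw [eq_zpowers_of_mem_prime hP ha ha1] at hle
  refine Sylow.ext (Subgroup.eq_of_le_of_card_ge hle ?_).symm
  exact le_of_eq (Nat.card_congr (Q.equiv P).toEquiv)

omit [IsSimpleGroup G] in
/-- For `u` centralising `P` of prime order `p`, the number of Sylow subgroups moved by `u` is
a multiple of `p`. -/
theorem dvd_moved (P : Sylow p G) (hP : Nat.card (P : Subgroup G) = p) {u : G}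
    (hu : u ∈ Subgroup.centralizer ((P : Subgroup G) : Set G)) :
    p ∣ Nat.card {Q : Sylow p G // u • Q ≠ Q} := by
  classical
  let S : SubMulAction ↥(P : Subgroup G) (Sylow p G) :=
    { carrier := {Q | u • Q ≠ Q}
      smul_mem' := fun a Q hQ h => hQ (by
        have hc : (a : G) * u = u * a := Subgroup.mem_centralizer_iff.1 hu a a.2
        have h' : u • (a : G) • Q = (a : G) • Q := h
        rw [smul_smul, ← hc, ← smul_smul] at h'
        exact smul_left_cancel (a : G) h') }
  have hmod := P.isPGroup'.card_modEq_card_fixedPoints S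
  have : IsEmpty (MulAction.fixedPoints ↥(P : Subgroup G) S) := ⟨fun ⟨⟨Q, hQ⟩, hfix⟩ => by
    haveI : Nontrivial ↥(P : Subgroup G) :=
      Finite.one_lt_card_iff_nontrivial.1 (hP.symm ▸ (Fact.out : p.Prime).one_lt)
    obtain ⟨a, ha⟩ := exists_ne (1 : ↥(P : Subgroup G))
    have h' : (a : G) • Q = Q := congrArg Subtype.val (hfix a)
    obtain rfl := eq_of_smul_eq hP a.2 (fun e => ha (Subtype.ext e)) h'
    exact hQ (Sylow.smul_eq_iff_mem_normalizer.2 (Subgroup.centralizer_le_normalizer _ hu))⟩
  rw [Nat.card_of_isEmpty (α := MulAction.fixedPoints ↥(P : Subgroup G) S)] at hmod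
  exact Nat.modEq_zero_iff_dvd.1 hmod

omit [IsSimpleGroup G] in
theorem moved_lt (P : Sylow p G) {u : G} (hu : u • P = P) :
    Nat.card {Q : Sylow p G // u • Q ≠ Q} < Nat.card (Sylow p G) :=
  Finite.card_subtype_lt (x := P) (by simp [hu])

/-- If there are at most `4p` Sylow subgroups of prime order `p`, their centralisers have odd
order. -/
theorem two_not_dvd_card_centralizer (hG : ¬ IsMulCommutative G) (hpd : p ∣ Nat.card G)
    (P : Sylow p G) (hP : Nat.card (P : Subgroup G) = p) (hp2 : p ≠ 2)
    (hn : Nat.card (Sylow p G) ≤ 4 * p) :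
    ¬ 2 ∣ Nat.card (Subgroup.centralizer ((P : Subgroup G) : Set G)) := by
  intro h
  haveI : Fact (Nat.Prime 2) := ⟨Nat.prime_two⟩
  obtain ⟨⟨u, hu⟩, ho⟩ := exists_prime_orderOf_dvd_card' 2 h
  rw [← Subgroup.orderOf_coe, orderOf_eq_two_iff_sq] at ho
  have h4 := four_dvd_moved hG (α := Sylow p G) (g := u) ho.2
  have hpm := dvd_moved P hP hu
  have hlt := moved_lt P (Sylow.smul_eq_iff_mem_normalizer.2 (Subgroup.centralizer_le_normalizer _ hu))
  have h4p : 4 * p ∣ Nat.card {Q : Sylow p G // u • Q ≠ Q} :=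
    Nat.Coprime.mul_dvd_of_dvd_of_dvd
      (Nat.Coprime.pow_left 2 ((Nat.coprime_primes Nat.prime_two Fact.out).2 hp2.symm)) h4 hpm
  have h0 : Nat.card {Q : Sylow p G // u • Q ≠ Q} = 0 :=
    Nat.eq_zero_of_dvd_of_lt h4p (lt_of_lt_of_le hlt hn)
  refine ho.1 (sylow_action_faithful hG hpd fun Q => ?_)
  by_contra hQ
  haveI : Nonempty {Q : Sylow p G // u • Q ≠ Q} := ⟨⟨Q, hQ⟩⟩
  exact Nat.card_pos.ne' h0

/-- With `p + 1` Sylow subgroups of order `p` these are self-centralising. -/
theorem centralizer_eq_of_card_succ (hG : ¬ IsMulCommutative G) (hpd : p ∣ Nat.card G)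
    (P : Sylow p G) (hP : Nat.card (P : Subgroup G) = p) (hn : Nat.card (Sylow p G) = p + 1) :
    Subgroup.centralizer ((P : Subgroup G) : Set G) = P := by
  classical
  haveI : IsCyclic ↥(P : Subgroup G) := isCyclic_of_prime_card hP
  refine le_antisymm (fun x hx => ?_) (Subgroup.le_centralizer (P : Subgroup G))
  obtain ⟨Q, hQ⟩ : ∃ Q, Q ≠ P := by
    haveI : Nontrivial (Sylow p G) := Finite.one_lt_card_iff_nontrivial.1 (by
      have := (Fact.out : p.Prime).pos; omega)
    exact exists_ne P
  -- the orbit map `a ↦ a • Q` is onto the other Sylow subgroups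
  have hQa : ∀ a : ↥(P : Subgroup G), (a : G) • Q ≠ P := fun a h => hQ (by
    have hP' : (a : G)⁻¹ • P = P :=
      Sylow.smul_eq_iff_mem_normalizer.2 (Subgroup.le_normalizer (inv_mem a.2))
    exact (inv_smul_smul (a : G) Q).symm.trans ((congrArg ((a : G)⁻¹ • ·) h).trans hP'))
  have hinj : Function.Injective
      (fun a : ↥(P : Subgroup G) => (⟨(a : G) • Q, hQa a⟩ : {R : Sylow p G // R ≠ P})) := by
    intro a b hab
    by_contra hne
    have h : ((b : G)⁻¹ * a) • Q = Q := by
      rw [mul_smul, show (a : G) • Q = (b : G) • Q from congrArg Subtype.val hab, inv_smul_smul]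
    exact hQ (eq_of_smul_eq hP (mul_mem (inv_mem b.2) a.2)
      (fun e => hne (Subtype.ext (inv_mul_eq_one.1 e).symm)) h)
  have hbij := (Nat.bijective_iff_injective_and_card _).2 ⟨hinj, by
    cases nonempty_fintype (Sylow p G)
    rw [hP, Nat.card_eq_fintype_card (α := {R : Sylow p G // R ≠ P}), Fintype.card_subtype_compl,
      Fintype.card_subtype_eq, ← Nat.card_eq_fintype_card, hn]
    omega⟩
  have hxP : x • P = P := Sylow.smul_eq_iff_mem_normalizer.2 (Subgroup.centralizer_le_normalizer _ hx)
  have hxQ : x • Q ≠ P := fun h => hQ (by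
    have := congrArg (x⁻¹ • ·) (h.trans hxP.symm)
    simpa using this)
  obtain ⟨a, ha⟩ := hbij.2 ⟨x • Q, hxQ⟩
  have ha' : (a : G) • Q = x • Q := congrArg Subtype.val ha
  set w := (a : G)⁻¹ * x with hw
  have hwC : w ∈ Subgroup.centralizer ((P : Subgroup G) : Set G) :=
    mul_mem (inv_mem (Subgroup.le_centralizer (P : Subgroup G) a.2)) hx
  have hwQ : w • Q = Q := by rw [hw, mul_smul, ← ha', inv_smul_smul]
  suffices w = 1 by
    rw [inv_mul_eq_one] at this
    exact this ▸ a.2
  refine sylow_action_faithful hG hpd fun R => ?_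
  by_cases hR : R = P
  · rw [hR]
    exact Sylow.smul_eq_iff_mem_normalizer.2 (Subgroup.centralizer_le_normalizer _ hwC)
  obtain ⟨b, hb⟩ := hbij.2 ⟨R, hR⟩
  have hb' : (b : G) • Q = R := congrArg Subtype.val hb
  rw [← hb', smul_smul, ← Subgroup.mem_centralizer_iff.1 hwC b b.2, mul_smul, hwQ]

/-- With `p + 1` Sylow subgroups of order `p ≡ 3 (mod 4)` the normaliser has odd order. -/
theorem two_not_dvd_card_normalizer (hG : ¬ IsMulCommutative G) (hpd : p ∣ Nat.card G)
    (P : Sylow p G) (hP : Nat.card (P : Subgroup G) = p) (hn : Nat.card (Sylow p G) = p + 1)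
    (hp4 : p % 4 = 3) :
    ¬ 2 ∣ Nat.card (Subgroup.normalizer ((P : Subgroup G) : Set G)) := by
  classical
  intro h
  haveI : Fact (Nat.Prime 2) := ⟨Nat.prime_two⟩
  obtain ⟨⟨u, hu⟩, ho⟩ := exists_prime_orderOf_dvd_card' 2 h
  rw [← Subgroup.orderOf_coe] at ho
  have huC : u ∉ Subgroup.centralizer ((P : Subgroup G) : Set G) := by
    rw [centralizer_eq_of_card_succ hG hpd P hP hn]
    intro huP
    have := Subgroup.orderOf_dvd_natCard (P : Subgroup G) huP
    rw [show orderOf u = 2 from ho, hP] at this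
    have := (Nat.prime_dvd_prime_iff_eq Nat.prime_two Fact.out).1 this
    omega
  have h4 := four_dvd_moved hG (α := Sylow p G) (g := u) (orderOf_eq_two_iff_sq.1 ho).2
  -- at most two fixed points
  have hfix := card_fixedBy_le_card_orbits (α := Sylow p G) hP hu huC
  have horb : Nat.card (MulAction.orbitRel.Quotient ↥(P : Subgroup G) (Sylow p G)) ≤ 2 := by
    obtain ⟨Q, hQ⟩ : ∃ Q, Q ≠ P := by
      haveI : Nontrivial (Sylow p G) := Finite.one_lt_card_iff_nontrivial.1 (by omega)
      exact exists_ne P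
    refine le_trans (Nat.card_le_card_of_surjective
      (fun i : Fin 2 => (Quotient.mk'' (![P, Q] i) :
        MulAction.orbitRel.Quotient ↥(P : Subgroup G) (Sylow p G))) ?_) (by simp)
    intro c
    induction c using Quotient.inductionOn' with
    | h R =>
      by_cases hR : R = P
      · exact ⟨0, by simp [hR]⟩
      refine ⟨1, Quotient.eq''.2 (MulAction.orbitRel_apply.2 ?_)⟩
      -- both `R` and `Q` have orbits filling the complement of `P`
      have key : ∀ R : Sylow p G, R ≠ P →
          MulAction.orbit ↥(P : Subgroup G) R = {S | S ≠ P} := by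
        intro R hR
        refine Set.eq_of_subset_of_ncard_le ?_ ?_
        · rintro _ ⟨a, rfl⟩ (h : (a : G) • R = P)
          have hP' : (a : G)⁻¹ • P = P :=
            Sylow.smul_eq_iff_mem_normalizer.2 (Subgroup.le_normalizer (inv_mem a.2))
          exact hR ((inv_smul_smul (a : G) R).symm.trans ((congrArg ((a : G)⁻¹ • ·) h).trans hP'))
        · rw [show ({S : Sylow p G | S ≠ P}) = Set.univ \ {P} by ext; simp,
            Set.ncard_sdiff_singleton_of_mem (Set.mem_univ _), Set.ncard_univ, hn,
            ← MulAction.index_stabilizer]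
          have hst : MulAction.stabilizer ↥(P : Subgroup G) R = ⊥ := by
            rw [eq_bot_iff]
            intro a ha
            by_contra hne
            exact hR (eq_of_smul_eq hP a.2 (fun e => hne (Subgroup.mem_bot.2 (Subtype.ext e))) ha)
          rw [hst, Subgroup.index_bot, hP]
          simp
      show (![P, Q] 1 : Sylow p G) ∈ MulAction.orbit _ R
      rw [key R hR]
      exact hQ
  have hsplit : Nat.card {Q : Sylow p G // u • Q ≠ Q}
      + Nat.card (MulAction.fixedBy (Sylow p G) u) = p + 1 := by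
    cases nonempty_fintype (Sylow p G)
    have h1 : Fintype.card (MulAction.fixedBy (Sylow p G) u) =
        Fintype.card {Q : Sylow p G // u • Q = Q} := Fintype.card_congr (Equiv.refl _)
    rw [← hn, Nat.card_eq_fintype_card, Nat.card_eq_fintype_card, Nat.card_eq_fintype_card,
      Fintype.card_subtype_compl, h1, Nat.sub_add_cancel (Fintype.card_subtype_le _)]
  have hpos : 0 < Nat.card (MulAction.fixedBy (Sylow p G) u) := by
    haveI : Nonempty (MulAction.fixedBy (Sylow p G) u) :=
      ⟨⟨P, Sylow.smul_eq_iff_mem_normalizer.2 hu⟩⟩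
    exact Nat.card_pos
  omega

/-- Two Sylow subgroups meeting in index `p`, when `n_p ≢ 1 (mod p²)`. -/
theorem exists_inter_normalizer (hG : ¬ IsMulCommutative G) {k m : ℕ}
    (hN : Nat.card G = p ^ k * m) (hm : ¬ p ∣ m) (hk : 2 ≤ k)
    (h : Nat.card (Sylow p G) % (p * p) ≠ 1) :
    ∃ (D : Subgroup G) (P R : Sylow p G) (c d : ℕ), P ≠ R ∧ Nat.card D = p ^ (k - 1) ∧
      D ≤ (P : Subgroup G) ∧ (P : Subgroup G) ≤ Subgroup.normalizer (D : Set G) ∧
      (R : Subgroup G) ≤ Subgroup.normalizer (D : Set G) ∧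
      Nat.card (Subgroup.normalizer (D : Set G)) = p ^ k * c ∧
      (Subgroup.normalizer (D : Set G)).index = d ∧ c * d = m ∧ 2 ≤ d ∧
      2 * Nat.card G ∣ d.factorial ∧
      Nat.card (Sylow p (Subgroup.normalizer (D : Set G))) ≠ 1 ∧
      Nat.card (Sylow p (Subgroup.normalizer (D : Set G))) % p = 1 ∧
      Nat.card (Sylow p (Subgroup.normalizer (D : Set G))) ∣ c := by
  have hp1 : 1 < p := (Fact.out : p.Prime).one_lt
  obtain ⟨P, R, hne, hle⟩ := exists_sylow_small_index (p := p) (G := G) 2 (fun e => h (by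
    rw [Nat.ModEq, pow_two] at e
    rw [e, Nat.mod_eq_of_lt (Nat.one_lt_mul_iff.2 ⟨by omega, by omega, Or.inl hp1⟩)]))
  rw [show 2 - 1 = 1 from rfl, pow_one] at hle
  set D := (R : Subgroup G) ⊓ (P : Subgroup G) with hD
  have hcard : ∀ S : Sylow p G, Nat.card (S : Subgroup G) = p ^ k := card_sylow_eq hN hm
  have hidx : ((R : Subgroup G).subgroupOf (P : Subgroup G)).index = p := by
    obtain ⟨j, hj⟩ := P.isPGroup'.index ((R : Subgroup G).subgroupOf (P : Subgroup G))
    rw [hj] at hle ⊢
    have hj1 : j ≠ 0 := fun e => hne (Sylow.ext (Subgroup.eq_of_le_of_card_ge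
      (Subgroup.subgroupOf_eq_top.1 (Subgroup.index_eq_one.1 (by rw [hj, e, pow_zero])))
      (le_of_eq (by rw [hcard, hcard]))))
    have := (Nat.pow_le_pow_iff_right hp1).1 (le_of_le_of_eq hle (pow_one p).symm)
    rw [show j = 1 by omega, pow_one]
  have hDP : Nat.card D = p ^ (k - 1) := by
    have h1 := Subgroup.card_mul_index ((R : Subgroup G).subgroupOf (P : Subgroup G))
    have h2 : Nat.card ((R : Subgroup G).subgroupOf (P : Subgroup G)) = Nat.card D := by
      rw [← Subgroup.card_map_of_injective (f := (P : Subgroup G).subtype)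
        (P : Subgroup G).subtype_injective, Subgroup.subgroupOf_map_subtype]
    rw [h2, hidx, hcard] at h1
    exact Nat.eq_of_mul_eq_mul_right (Nat.zero_lt_of_lt hp1)
      (h1.trans (by rw [← pow_succ, Nat.sub_add_cancel (by omega)]))
  have hnorm : ∀ S : Sylow p G, D ≤ (S : Subgroup G) →
      (S : Subgroup G) ≤ Subgroup.normalizer (D : Set G) := by
    intro S hS
    have h1 := Subgroup.card_mul_index (D.subgroupOf (S : Subgroup G))
    rw [Nat.card_congr (Subgroup.subgroupOfEquivOfLe hS).toEquiv, hDP, hcard] at h1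
    have hi : (D.subgroupOf (S : Subgroup G)).index = p :=
      Nat.eq_of_mul_eq_mul_left (pow_pos (Nat.zero_lt_of_lt hp1) _)
        (h1.trans (by rw [← pow_succ, Nat.sub_add_cancel (by omega)]))
    haveI : (D.subgroupOf (S : Subgroup G)).Normal := by
      refine Subgroup.normal_of_index_eq_minFac_card ?_
      rw [hi, hcard, Nat.pow_minFac (by omega), (Fact.out : p.Prime).minFac_eq]
    exact (Subgroup.normal_subgroupOf_iff_le_normalizer hS).1 inferInstance
  set M := Subgroup.normalizer (D : Set G) with hM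
  have hPM := hnorm P inf_le_right
  have hRM := hnorm R inf_le_left
  have hMtop : M ≠ ⊤ := by
    refine normalizer_ne_top (fun e => ?_) (fun e => ?_)
    · rw [e, Subgroup.card_bot] at hDP
      have : 1 < p ^ (k - 1) := Nat.one_lt_pow (by omega) hp1
      omega
    · have hDle : D ≤ (P : Subgroup G) := inf_le_right
      rw [e] at hDle
      have h2 := Subgroup.card_le_of_le hDle
      rw [Subgroup.card_top, hcard, hN] at h2
      have hm0 : 0 < p ^ k := pow_pos (Nat.zero_lt_of_lt hp1) k
      have hm1 : m = 1 := by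
        rcases Nat.lt_or_ge 1 m with h3 | h3
        · nlinarith
        · rcases Nat.eq_zero_or_pos m with rfl | h4
          · exact absurd (dvd_zero p) hm
          · omega
      refine not_isPGroup_of_simple hG p (IsPGroup.of_card (n := k) ?_)
      rw [hN, hm1, mul_one]
  obtain ⟨c, hc⟩ := hcard P ▸ Subgroup.card_dvd_of_le hPM
  have hcd : c * M.index = m := by
    have h1 := Subgroup.card_mul_index M
    rw [hc, hN, mul_assoc] at h1
    exact Nat.eq_of_mul_eq_mul_left (pow_pos (Nat.zero_lt_of_lt hp1) k) h1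
  refine ⟨D, P, R, c, M.index, hne, hDP, inf_le_right, hPM, hRM, hc, rfl, hcd,
    (two_lt_index hG M hMtop).le, two_mul_card_dvd_factorial_index hG M hMtop, ?_,
    card_sylow_mod p, card_sylow_dvd hc fun hpc => hm (hcd ▸ hpc.mul_right _)⟩
  intro h1
  haveI : Subsingleton (Sylow p M) := (Nat.card_eq_one_iff_unique.1 h1).1
  exact hne (Sylow.subtype_injective (hP := hPM) (hQ := hRM) (Subsingleton.elim _ _))

end prime

omit [Finite G] [IsSimpleGroup G] in
/-- A group of order sixteen has an abelian subgroup of index two. -/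
theorem exists_abelian_index_two {T : Type*} [Group T] [Finite T] (hT : Nat.card T = 16) :
    ∃ M : Subgroup T, M.index = 2 ∧ IsMulCommutative M := by
  classical
  haveI : Fact (Nat.Prime 2) := ⟨Nat.prime_two⟩
  have hp : IsPGroup 2 T := IsPGroup.of_card (n := 4) hT
  obtain ⟨A, hA⟩ := (Set.toFinite {B : Subgroup T | B.Normal ∧ IsMulCommutative B}).exists_maximal
    ⟨⊥, inferInstance, inferInstance⟩
  obtain ⟨⟨hAn, hAc⟩, hmax⟩ := hA
  have hC := CfsgLib.LocalEvenBasic.centralizer_le_of_maximal_normal_abelian hp hAc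
    fun B hB hBc hAB => le_antisymm (hmax ⟨hB, hBc⟩ hAB) hAB
  let f : T →* Equiv.Perm {a : A // a ≠ 1} :=
    { toFun := fun t => ((MulAut.conjNormal (H := A) t).toEquiv).subtypeEquiv fun a => by simp
      map_one' := by ext a; simp
      map_mul' := fun s t => by ext a; simp }
  have hker : f.ker = A := by
    refine le_antisymm (fun t ht => hC (Subgroup.mem_centralizer_iff.2 fun a ha => ?_)) fun t ht => ?_
    · by_cases ha1 : a = 1
      · simp [ha1]
      have := congrArg (fun e : Equiv.Perm {a : A // a ≠ 1} =>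
        ((e ⟨⟨a, ha⟩, fun h => ha1 (congrArg Subtype.val h)⟩ : {a : A // a ≠ 1}) : T))
        (MonoidHom.mem_ker.1 ht)
      simp [f] at this
      exact ((mul_inv_eq_iff_eq_mul.1 this)).symm
    · refine MonoidHom.mem_ker.2 (Equiv.ext fun a => Subtype.ext (Subtype.ext ?_))
      show t * (a.1 : T) * t⁻¹ = a.1
      rw [mul_inv_eq_iff_eq_mul]
      exact congrArg Subtype.val (mul_comm' (⟨t, ht⟩ : A) a.1)
  have hdvd : A.index ∣ (Nat.card A - 1).factorial := by
    have h1 := Subgroup.card_dvd_of_injective _ (QuotientGroup.kerLift_injective f)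
    rw [← Subgroup.index_eq_card, hker, Nat.card_perm] at h1
    cases nonempty_fintype A
    rwa [Nat.card_eq_fintype_card (α := {a : A // a ≠ 1}), Fintype.card_subtype_compl,
      Fintype.card_subtype_eq, ← Nat.card_eq_fintype_card] at h1
  have hmul := Subgroup.card_mul_index A
  rw [hT] at hmul
  obtain ⟨j, hj, hAj⟩ := (Nat.dvd_prime_pow Nat.prime_two).1 (⟨_, hmul.symm⟩ : Nat.card A ∣ 2 ^ 4)
  have hbig : 8 ≤ Nat.card A := by
    rw [hAj] at hdvd hmul ⊢
    interval_cases j <;> norm_num at hmul ⊢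
    · rw [hmul] at hdvd; norm_num at hdvd
    · rw [show A.index = 8 by omega] at hdvd; norm_num at hdvd
    · rw [show A.index = 4 by omega] at hdvd; norm_num [Nat.factorial] at hdvd
  by_cases h8 : Nat.card A = 8
  · exact ⟨A, by rw [h8] at hmul; omega, hAc⟩
  have h16 : A = ⊤ := Subgroup.eq_top_of_card_eq A (by
    rw [hT]
    have := Nat.le_of_dvd (by norm_num) (⟨_, hmul.symm⟩ : Nat.card A ∣ 16)
    rw [hAj] at hbig h8 this ⊢
    interval_cases j <;> simp_all)
  obtain ⟨M, hM⟩ := Sylow.exists_subgroup_card_pow_prime (G := T) 2 (n := 3) (by rw [hT]; norm_num)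
  refine ⟨M, ?_, ?_⟩
  · have := Subgroup.card_mul_index M
    rw [hM, hT] at this
    omega
  · haveI : IsMulCommutative (⊤ : Subgroup T) := h16 ▸ hAc
    refine ⟨⟨fun a b => Subtype.ext ?_⟩⟩
    show (a : T) * b = b * a
    have h := mul_comm' (⟨(a : T), Subgroup.mem_top _⟩ : (⊤ : Subgroup T)) ⟨(b : T), Subgroup.mem_top _⟩
    exact congrArg Subtype.val h

/-- With Sylow 2-subgroups of order sixteen every involution of a nonabelian simple group has
centraliser of order divisible by eight. -/
theorem eight_dvd_card_centralizer (hG : ¬ IsMulCommutative G) {m : ℕ}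
    (hN : Nat.card G = 2 ^ 4 * m) (hm : ¬ 2 ∣ m) {u : G} (hu : orderOf u = 2) :
    8 ∣ Nat.card (Subgroup.centralizer ({u} : Set G)) := by
  haveI : Fact (Nat.Prime 2) := ⟨Nat.prime_two⟩
  obtain ⟨S⟩ : Nonempty (Sylow 2 G) := inferInstance
  have hS : Nat.card (S : Subgroup G) = 16 := by simpa using card_sylow_eq hN hm S
  obtain ⟨M₀, hM₀, hM₀c⟩ := exists_abelian_index_two hS
  set M := M₀.map (S : Subgroup G).subtype with hM
  have hMS : M ≤ (S : Subgroup G) := Subgroup.map_subtype_le M₀
  have hno : ∀ H : Subgroup G, H.index ≠ 2 := fun H hH => by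
    have := two_lt_index hG H (fun e => by rw [e, Subgroup.index_top] at hH; omega)
    omega
  obtain ⟨g, hg⟩ := thompson_transfer_sylow hno S M hMS (by
    rw [Subgroup.relIndex, hM, Subgroup.subgroupOf, Subgroup.comap_map_eq_self_of_injective
      (S : Subgroup G).subtype_injective]
    exact hM₀) hu
  have hMcard : Nat.card M = 8 := by
    rw [hM, Subgroup.card_map_of_injective (S : Subgroup G).subtype_injective]
    have := Subgroup.card_mul_index M₀
    rw [hM₀, hS] at this
    omega
  -- `g M g⁻¹` centralises `u`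
  have hinj : Function.Injective (MulAut.conj g).toMonoidHom := (MulAut.conj g).injective
  rw [← hMcard, ← Subgroup.card_map_of_injective (K := M) hinj]
  refine Subgroup.card_dvd_of_le ?_
  rintro _ ⟨x, hx, rfl⟩
  obtain ⟨x', hx', rfl⟩ := hx
  obtain ⟨w, hw, hwe⟩ := hg
  have hc : ((S : Subgroup G).subtype x') * (g⁻¹ * u * g) = (g⁻¹ * u * g) * (S : Subgroup G).subtype x' := by
    rw [← hwe, ← map_mul, ← map_mul]
    exact congrArg _ (congrArg Subtype.val (mul_comm' (⟨x', hx'⟩ : M₀) ⟨w, hw⟩))
  rw [Subgroup.mem_centralizer_singleton_iff]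
  show g * _ * g⁻¹ * u = u * (g * _ * g⁻¹)
  calc g * ((S : Subgroup G).subtype x') * g⁻¹ * u
      = g * (((S : Subgroup G).subtype x') * (g⁻¹ * u * g)) * g⁻¹ := by group
    _ = g * ((g⁻¹ * u * g) * (S : Subgroup G).subtype x') * g⁻¹ := by rw [hc]
    _ = u * (g * ((S : Subgroup G).subtype x') * g⁻¹) := by group

end CfsgLib.Classification.SmallOrders
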