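import Cfsg.Agent.Classification.SmallOrders.Kit
import Cfsg.Agent.Classification.SmallOrders.Tools

/-!
# A transfer argument for Sylow 2-subgroups of order sixteen
-/

set_option autoImplicit false

namespace CfsgLib.Classification.SmallOrders

open CfsgLib.Small

theorem exists_shift {a k : ℕ} (ha : a < 8) (hk : k < 8) (h1 : a % 2 = 0) (h2 : a % 4 ≠ 0)
    (h3 : (k * a) % 8 = a % 8) : ∃ j < 8, (a + k * j + j) % 8 = 4 := by
  have key : ∀ a k : Fin 8, (a : ℕ) % 2 = 0 → (a : ℕ) % 4 ≠ 0 → ((k : ℕ) * a) % 8 = (a : ℕ) % 8 →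
      ∃ j : Fin 8, ((a : ℕ) + k * j + j) % 8 = 4 := by decide
  obtain ⟨j, hj⟩ := key ⟨a, ha⟩ ⟨k, hk⟩ h1 h2 h3
  exact ⟨j, j.2, hj⟩

/-- A group of order sixteen with a central involution `z` such that exactly eleven elements
have `z` as a power has an element of order eight and an element of order four outside the cyclic
subgroup it generates, both powering to `z`. -/
theorem exists_eight_four {T : Type*} [Group T] [Finite T] (hT : Nat.card T = 16) {z : T}
    (hz : orderOf z = 2) (hzc : ∀ g : T, g * z = z * g)
    (hcount : Nat.card {g : T // g ≠ 1 ∧ z ∈ Subgroup.zpowers g} = 11) :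
    ∃ g w : T, orderOf g = 8 ∧ g ^ 4 = z ∧ (Subgroup.zpowers g).index = 2 ∧
      w ∉ Subgroup.zpowers g ∧ w * w = z := by
  classical
  cases nonempty_fintype T
  haveI := fact_prime Nat.prime_two
  have hz1 : z ≠ 1 := ne_one_of_orderOf_two hz
  have hz2 : z * z = 1 := mul_self_of_orderOf_two hz
  have hord : ∀ g : T, orderOf g ∈ ({1, 2, 4, 8, 16} : Finset ℕ) := fun g => by
    have := mem_divisors_of_dvd (hT ▸ orderOf_dvd_natCard g) (by norm_num)
    rwa [show Nat.divisors 16 = {1, 2, 4, 8, 16} by decide] at this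
  -- not cyclic
  have h16 : ∀ g : T, orderOf g ≠ 16 := by
    intro g hg
    have htop : Subgroup.zpowers g = ⊤ := Subgroup.eq_top_of_card_eq _ (by rw [Nat.card_zpowers, hg, hT])
    have hall : ∀ x : T, x ≠ 1 → z ∈ Subgroup.zpowers x := by
      intro x hx
      haveI : IsCyclic T := ⟨⟨g, fun y => (show y ∈ Subgroup.zpowers g by rw [htop]; exact Subgroup.mem_top y)⟩⟩
      obtain ⟨⟨v, hv⟩, hvo⟩ := exists_prime_orderOf_dvd_card' (G := Subgroup.zpowers x) 2 (by
        rw [Nat.card_zpowers]
        have := hord x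
        have : orderOf x ≠ 1 := fun h => hx (orderOf_eq_one_iff.1 h)
        simp only [Finset.mem_insert, Finset.mem_singleton] at *
        omega)
      rw [← Subgroup.orderOf_coe] at hvo
      change orderOf v = 2 at hvo
      have hle := IsCyclic.card_pow_eq_one_le (α := T) (n := 2) two_pos
      by_contra hzx
      have hsub : ({1, z, v} : Finset T) ⊆ Finset.univ.filter (fun a => a ^ 2 = 1) := by
        intro a ha
        simp only [Finset.mem_insert, Finset.mem_singleton] at ha
        rw [Finset.mem_filter, pow_two]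
        rcases ha with rfl | rfl | rfl
        · simp
        · exact ⟨Finset.mem_univ _, hz2⟩
        · exact ⟨Finset.mem_univ _, mul_self_of_orderOf_two hvo⟩
      have := (Finset.card_le_card hsub).trans hle
      rw [Finset.card_insert_of_notMem (by simp [Ne.symm hz1, Ne.symm (ne_one_of_orderOf_two hvo)]),
        Finset.card_insert_of_notMem (by simp; rintro rfl; exact hzx hv), Finset.card_singleton] at this
      omega
    have heq : Nat.card {g : T // g ≠ 1 ∧ z ∈ Subgroup.zpowers g} = Nat.card {g : T // g ≠ 1} :=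
      Nat.card_congr (Equiv.subtypeEquivRight fun x => ⟨And.left, fun h => ⟨h, hall x h⟩⟩)
    rw [heq, Nat.card_eq_fintype_card (α := {g : T // g ≠ 1}), Fintype.card_subtype_compl,
      Fintype.card_subtype_eq, ← Nat.card_eq_fintype_card, hT] at hcount
    omega
  -- some element has order eight
  obtain ⟨g, hg⟩ : ∃ g : T, orderOf g = 8 := by
    by_contra hcon
    push Not at hcon
    have h4 : ∀ g : T, g ^ 4 = 1 := fun g => by
      rw [← orderOf_dvd_iff_pow_eq_one]
      have h1 := hord g
      have h2 := h16 g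
      have h3 := hcon g
      simp only [Finset.mem_insert, Finset.mem_singleton] at h1
      rcases h1 with e | e | e | e | e <;> simp_all
    have hiff : ∀ g : T, (g ≠ 1 ∧ z ∈ Subgroup.zpowers g) ↔ (g = z ∨ g * g = z) := by
      intro g
      constructor
      · rintro ⟨hg1, hm⟩
        rw [mem_zpowers_iff_mem_range_orderOf] at hm
        simp only [Finset.mem_image, Finset.mem_range] at hm
        obtain ⟨i, hi, rfl⟩ := hm
        have := orderOf_le_of_pow_eq_one (by norm_num) (h4 g)
        have hi4 : i < 4 := by omega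
        interval_cases i
        · simp at hz1
        · exact Or.inl (pow_one g).symm
        · exact Or.inr (pow_two g).symm
        · -- a cube of an element of order four is no involution
          exfalso
          have h6 : (g ^ 3) * (g ^ 3) = g ^ 2 := by
            rw [← pow_add, show (3 + 3) = 4 + 2 from rfl, pow_add, h4, one_mul]
          rw [h6] at hz2
          have := orderOf_le_of_pow_eq_one (by norm_num) hz2
          omega
      · rintro (rfl | h)
        · exact ⟨hz1, Subgroup.mem_zpowers _⟩
        · refine ⟨fun e => hz1 (by rw [← h, e, mul_one]), ?_⟩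
          rw [← h]; exact mul_mem (Subgroup.mem_zpowers g) (Subgroup.mem_zpowers g)
    have hroots : Nat.card {g : T // g * g = z} = 10 := by
      rw [Nat.card_congr (Equiv.subtypeEquivRight hiff), Nat.card_eq_fintype_card,
        Fintype.card_subtype_or_disjoint _ _ (by
          rw [Pi.disjoint_iff]
          intro x
          simp only [Prop.disjoint_iff, not_and]
          rintro rfl h
          exact hz1 (by rw [hz2] at h; exact h.symm)),
        Fintype.card_subtype_eq] at hcount
      rw [Nat.card_eq_fintype_card]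
      omega
    obtain ⟨M, hM, hMc⟩ := exists_abelian_index_two hT
    have hcomm : ∀ a ∈ M, ∀ b ∈ M, a * b = b * a := fun a ha b hb =>
      congrArg Subtype.val (mul_comm' (⟨a, ha⟩ : M) ⟨b, hb⟩)
    haveI := Subgroup.normal_of_index_eq_two hM
    have hM8 : Nat.card M = 8 := by
      have := Subgroup.card_mul_index M; rw [hM, hT] at this; omega
    -- the squaring homomorphisms
    let sq : M →* M :=
      { toFun := fun m => m * m
        map_one' := one_mul 1
        map_mul' := fun a b => Subtype.ext (by
          show (a : T) * b * ((a : T) * b) = (a : T) * a * ((b : T) * b)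
          calc (a : T) * b * ((a : T) * b) = a * (b * a) * b := by group
            _ = (a : T) * a * ((b : T) * b) := by rw [hcomm b b.2 a a.2]; group) }
    have hin : Nat.card {g : M // (g : T) * g = z} = 0 ∨
        Nat.card {g : M // (g : T) * g = z} = Nat.card sq.ker := by
      rcases isEmpty_or_nonempty {g : M // (g : T) * g = z} with h | ⟨⟨g₀, h₀⟩⟩
      · exact Or.inl Nat.card_of_isEmpty
      refine Or.inr (Nat.card_congr ((Equiv.mulLeft g₀⁻¹).subtypeEquiv fun m => ?_))
      rw [MonoidHom.mem_ker]
      show _ ↔ sq (g₀⁻¹ * m) = 1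
      rw [map_mul, map_inv, inv_mul_eq_one, Subtype.ext_iff]
      show _ ↔ (g₀ : T) * g₀ = (m : T) * m
      rw [h₀]; exact eq_comm
    have hout : Nat.card {g : T // g ∉ M ∧ g * g = z} = 0 ∨
        ∃ L : Subgroup M, Nat.card {g : T // g ∉ M ∧ g * g = z} = Nat.card L := by
      rcases isEmpty_or_nonempty {g : T // g ∉ M ∧ g * g = z} with h | ⟨⟨w, hwM, hw⟩⟩
      · exact Or.inl Nat.card_of_isEmpty
      refine Or.inr ?_
      let ψ : M →* M :=
        { toFun := fun m => (MulAut.conjNormal w⁻¹ m) * m
          map_one' := by simp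
          map_mul' := fun a b => Subtype.ext (by
            show ((MulAut.conjNormal w⁻¹ (a * b) : M) : T) * ((a : T) * b) =
              ((MulAut.conjNormal w⁻¹ a : M) : T) * a * (((MulAut.conjNormal w⁻¹ b : M) : T) * b)
            rw [map_mul, Subgroup.coe_mul]
            set a' : T := ((MulAut.conjNormal w⁻¹ a : M) : T)
            set b' : T := ((MulAut.conjNormal w⁻¹ b : M) : T) with hb'
            calc a' * b' * ((a : T) * b) = a' * (b' * a) * b := by group
              _ = a' * a * (b' * b) := by rw [hcomm b' (SetLike.coe_mem _) a a.2]; group) }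
      refine ⟨ψ.ker, Nat.card_congr
        { toFun := fun x => ⟨⟨w⁻¹ * x.1, ?_⟩, ?_⟩
          invFun := fun m => ⟨w * m.1, ?_, ?_⟩
          left_inv := fun x => Subtype.ext (mul_inv_cancel_left w x.1)
          right_inv := fun m => Subtype.ext (Subtype.ext (inv_mul_cancel_left w _)) }⟩
      · exact (Subgroup.mul_mem_iff_of_index_two hM).2 (iff_of_false (fun h => hwM (by simpa using inv_mem h)) x.2.1)
      · rw [MonoidHom.mem_ker]
        refine Subtype.ext ?_
        show ((MulAut.conjNormal w⁻¹ _ : M) : T) * (w⁻¹ * x.1) = 1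
        simp only [MulAut.conjNormal_apply, inv_inv]
        show w⁻¹ * (w⁻¹ * x.1) * w * (w⁻¹ * x.1) = 1
        calc w⁻¹ * (w⁻¹ * x.1) * w * (w⁻¹ * x.1) = (w * w)⁻¹ * (x.1 * x.1) := by group
          _ = 1 := by rw [hw, x.2.2, inv_mul_cancel]
      · intro h
        exact hwM (by simpa using mul_mem h (inv_mem m.1.2))
      · have hm := congrArg Subtype.val (MonoidHom.mem_ker.1 m.2)
        change ((MulAut.conjNormal w⁻¹ m.1 : M) : T) * (m.1 : T) = 1 at hm
        simp only [MulAut.conjNormal_apply, inv_inv] at hm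
        calc w * m.1 * (w * m.1) = w * w * (w⁻¹ * m.1 * w * m.1) := by group
          _ = z := by rw [hm, hw, mul_one]
    have hsplit : Nat.card {g : T // g * g = z} = Nat.card {g : M // (g : T) * g = z}
        + Nat.card {g : T // g ∉ M ∧ g * g = z} := by
      rw [← Nat.card_congr (Equiv.sumCompl fun g : {g : T // g * g = z} => (g : T) ∈ M), Nat.card_sum]
      refine congrArg₂ (· + ·) (Nat.card_congr ?_) (Nat.card_congr ?_)
      · exact
          { toFun := fun g => ⟨⟨g.1.1, g.2⟩, g.1.2⟩
            invFun := fun g => ⟨⟨g.1.1, g.2⟩, g.1.2⟩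
            left_inv := fun _ => rfl
            right_inv := fun _ => rfl }
      · exact
          { toFun := fun g => ⟨g.1.1, g.2, g.1.2⟩
            invFun := fun g => ⟨⟨g.1, g.2.2⟩, g.2.1⟩
            left_inv := fun _ => rfl
            right_inv := fun _ => rfl }
    have hkd : Nat.card sq.ker ∈ ({1, 2, 4, 8} : Finset ℕ) := by
      have := mem_divisors_of_dvd (hM8 ▸ Subgroup.card_subgroup_dvd_card sq.ker) (by norm_num)
      rwa [show Nat.divisors 8 = {1, 2, 4, 8} by decide] at this
    have hK2 : Nat.card sq.ker ≠ 2 := by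
      intro h2
      have h1 := Subgroup.card_mul_index sq.ker
      rw [Subgroup.index_ker, h2, hM8] at h1
      have hle : sq.range ≤ sq.ker := by
        rintro _ ⟨m, rfl⟩
        rw [MonoidHom.mem_ker]
        refine Subtype.ext ?_
        show (m : T) * m * ((m : T) * m) = 1
        rw [← h4 (m : T), pow_succ, pow_succ, pow_two]; group
      have := Subgroup.card_le_of_le hle
      omega
    have hK8 : Nat.card sq.ker = 8 → Nat.card {g : M // (g : T) * g = z} = 0 := by
      intro h8
      have htop : sq.ker = ⊤ := Subgroup.eq_top_of_card_eq _ (by rw [h8, hM8])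
      haveI : IsEmpty {g : M // (g : T) * g = z} := ⟨fun g => hz1 (by
        have hm : g.1 ∈ sq.ker := by rw [htop]; exact Subgroup.mem_top _
        have h1 : sq g.1 = 1 := hm
        rw [← g.2]
        exact congrArg Subtype.val h1)⟩
      exact Nat.card_of_isEmpty
    rw [hsplit] at hroots
    simp only [Finset.mem_insert, Finset.mem_singleton] at hkd
    rcases hout with ho | ⟨L, ho⟩
    · rw [ho] at hroots; omega
    · have hLd := mem_divisors_of_dvd (hM8 ▸ Subgroup.card_subgroup_dvd_card L) (by norm_num)
      rw [show Nat.divisors 8 = {1, 2, 4, 8} by decide] at hLd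
      simp only [Finset.mem_insert, Finset.mem_singleton] at hLd
      rw [ho] at hroots
      omega
  have hidx : (Subgroup.zpowers g).index = 2 := by
    have := Subgroup.card_mul_index (Subgroup.zpowers g)
    rw [Nat.card_zpowers, hg, hT] at this; omega
  have hgz : g ^ 4 = z := by
    by_contra hne
    have hzg : z ∉ Subgroup.zpowers g := by
      intro h
      rw [mem_zpowers_iff_mem_range_orderOf, hg] at h
      simp only [Finset.mem_image, Finset.mem_range] at h
      obtain ⟨i, hi, rfl⟩ := h
      have h2 : g ^ (i + i) = 1 := by rw [pow_add]; exact hz2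
      rw [← orderOf_dvd_iff_pow_eq_one, hg] at h2
      rcases (show i = 0 ∨ i = 4 by omega) with rfl | rfl
      · simp at hz1
      · exact hne rfl
    haveI : Subsingleton {x : T // x ≠ 1 ∧ z ∈ Subgroup.zpowers x} := by
      refine ⟨fun a b => Subtype.ext ?_⟩
      suffices key : ∀ x : T, x ≠ 1 → z ∈ Subgroup.zpowers x → x = z by
        rw [key a.1 a.2.1 a.2.2, key b.1 b.2.1 b.2.2]
      intro x hx hzx
      have hx2 : x * x ∈ Subgroup.zpowers g := Subgroup.mul_self_mem_of_index_two hidx x
      rw [mem_zpowers_iff_mem_range_orderOf] at hzx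
      simp only [Finset.mem_image, Finset.mem_range] at hzx
      obtain ⟨i, hi, hie⟩ := hzx
      rcases Nat.even_or_odd i with ⟨j, hj⟩ | ⟨j, hj⟩
      · exact absurd (by rw [← hie, hj, ← two_mul, pow_mul, pow_two]; exact pow_mem hx2 j) hzg
      · have hd : orderOf x ∣ i + i := orderOf_dvd_iff_pow_eq_one.2 (by rw [pow_add, hie, hz2])
        have := hord x
        simp only [Finset.mem_insert, Finset.mem_singleton] at this
        have ho1 : orderOf x ≠ 1 := fun h => hx (orderOf_eq_one_iff.1 h)
        have ho : orderOf x = 2 := by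
          rcases this with e | e | e | e | e <;> rw [e] at hd <;> omega
        rw [← hie, show i = 1 by omega, pow_one]
    have := Finite.card_le_one_iff_subsingleton.2 ‹Subsingleton {x : T // x ≠ 1 ∧ z ∈ Subgroup.zpowers x}›
    omega
  -- an element outside `⟨g⟩` powering to `z`
  obtain ⟨x, hxg, hx1, hxz⟩ : ∃ x, x ∉ Subgroup.zpowers g ∧ x ≠ 1 ∧ z ∈ Subgroup.zpowers x := by
    by_contra hcon
    push Not at hcon
    have := Nat.card_le_card_of_injective
      (fun x : {x : T // x ≠ 1 ∧ z ∈ Subgroup.zpowers x} =>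
        (⟨x.1, by by_contra h; exact hcon x.1 h x.2.1 x.2.2⟩ : Subgroup.zpowers g))
      (fun a b h => Subtype.ext (Subtype.mk.inj h))
    rw [hcount, Nat.card_zpowers, hg] at this
    omega
  have hxo : orderOf x = 4 ∨ orderOf x = 8 := by
    have h := hord x
    simp only [Finset.mem_insert, Finset.mem_singleton] at h
    have ho1 : orderOf x ≠ 1 := fun h => hx1 (orderOf_eq_one_iff.1 h)
    rcases h with e | e | e | e | e
    · exact absurd e ho1
    · exfalso
      rw [mem_zpowers_iff_mem_range_orderOf, e] at hxz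
      simp only [Finset.mem_image, Finset.mem_range] at hxz
      obtain ⟨i, hi, hie⟩ := hxz
      interval_cases i
      · exact hz1 (by simpa using hie.symm)
      · rw [pow_one] at hie
        exact hxg (by rw [hie, ← hgz]; exact pow_mem (Subgroup.mem_zpowers g) 4)
    · exact Or.inl e
    · exact Or.inr e
    · exact absurd e (h16 x)
  refine (fun ⟨w, hw1, hw2⟩ => ⟨g, w, hg, hgz, hidx, hw1, hw2⟩) (show ∃ w, w ∉ Subgroup.zpowers g ∧ w * w = z from ?_)
  rcases hxo with e | e
  · refine ⟨x, hxg, ?_⟩
    rw [mem_zpowers_iff_mem_range_orderOf, e] at hxz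
    simp only [Finset.mem_image, Finset.mem_range] at hxz
    obtain ⟨i, hi, hie⟩ := hxz
    have hd : orderOf x ∣ i + i := orderOf_dvd_iff_pow_eq_one.2 (by rw [pow_add, hie, hz2])
    rw [e] at hd
    have hi0 : i ≠ 0 := fun h => hz1 (by rw [← hie, h, pow_zero])
    rw [← hie, show i = 2 by omega, pow_two]
  -- `x² = g^a` and `x g x⁻¹ = g^k`
  have hnorm := Subgroup.normal_of_index_eq_two hidx
  have hx2 : x * x ∈ Subgroup.zpowers g := Subgroup.mul_self_mem_of_index_two hidx x
  have hxc : x⁻¹ * g * x ∈ Subgroup.zpowers g := by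
    simpa using hnorm.conj_mem g (Subgroup.mem_zpowers g) x⁻¹
  rw [mem_zpowers_iff_mem_range_orderOf, hg] at hx2 hxc
  simp only [Finset.mem_image, Finset.mem_range] at hx2 hxc
  obtain ⟨a, ha, hae⟩ := hx2
  obtain ⟨k, hk, hke⟩ := hxc
  have hm : ∀ m n : ℕ, g ^ m = g ^ n ↔ m % 8 = n % 8 := fun m n => by
    rw [pow_eq_pow_iff_modEq, hg]; exact Iff.rfl
  have hconj : ∀ j : ℕ, x⁻¹ * g ^ j * x = g ^ (k * j) := fun j => by
    rw [pow_mul, hke]
    have := conj_pow (i := j) (a := x⁻¹) (b := g)
    rw [inv_inv] at this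
    exact this.symm
  have hak : (k * a) % 8 = a % 8 := by
    rw [← hm, ← hconj, hae]; group
  have ha' : a % 2 = 0 ∧ a % 4 ≠ 0 := by
    have h8 : x ^ 8 = 1 := e ▸ pow_orderOf_eq_one x
    have h4 : x ^ 4 ≠ 1 := fun h => by
      have := orderOf_le_of_pow_eq_one (by norm_num) h; omega
    rw [show (4 : ℕ) = 2 * 2 from rfl, pow_mul, pow_two x, ← hae, ← pow_mul, ne_eq, ← orderOf_dvd_iff_pow_eq_one, hg] at h4
    rw [show (8 : ℕ) = 2 * 4 from rfl, pow_mul, pow_two x, ← hae, ← pow_mul, ← orderOf_dvd_iff_pow_eq_one, hg] at h8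
    omega
  obtain ⟨j, -, hj⟩ := exists_shift ha hk ha'.1 ha'.2 hak
  refine ⟨x * g ^ j, fun h => hxg (by simpa using mul_mem h (inv_mem (pow_mem (Subgroup.mem_zpowers g) j))), ?_⟩
  calc x * g ^ j * (x * g ^ j) = x * x * (x⁻¹ * g ^ j * x) * g ^ j := by group
    _ = g ^ (a + k * j + j) := by rw [hconj, ← hae, pow_add, pow_add]
    _ = z := by rw [← hgz, hm, hj]

/-- A Sylow 2-subgroup `T = C(z)` of order sixteen as above yields a nontrivial transfer. -/
theorem false_of_eight_four {G : Type*} [Group G] [Finite G] [IsSimpleGroup G]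
    (hG : ¬ IsMulCommutative G) {z : G} (hz : orderOf z = 2)
    {T : Subgroup G} (hT : T = Subgroup.centralizer ({z} : Set G)) (hTc : Nat.card T = 16)
    {g w : G} (hgT : g ∈ T) (hwT : w ∈ T) (hg : orderOf g = 8) (hgz : g ^ 4 = z)
    (hw : w ∉ Subgroup.zpowers g) (hw2 : w * w = z) : False := by
  classical
  set M := Subgroup.zpowers g with hM
  have hMT : M ≤ T := Subgroup.zpowers_le.2 hgT
  have hidx : (M.subgroupOf T).index = 2 := by
    have := Subgroup.card_mul_index (M.subgroupOf T)
    rw [Nat.card_congr (Subgroup.subgroupOfEquivOfLe hMT).toEquiv, Nat.card_zpowers, hg, hTc] at this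
    omega
  have hcentT : ∀ x : G, x ∈ T ↔ x * z = z * x := fun x => by
    rw [hT, Subgroup.mem_centralizer_singleton_iff]
  have hz1 : z ≠ 1 := ne_one_of_orderOf_two hz
  -- `z` is the involution of `M`
  have huniq : ∀ v ∈ M, v * v = 1 → v = 1 ∨ v = z := by
    intro v hv hv2
    rw [hM, mem_zpowers_iff_mem_range_orderOf, hg] at hv
    simp only [Finset.mem_image, Finset.mem_range] at hv
    obtain ⟨i, hi, rfl⟩ := hv
    have h : g ^ (i + i) = 1 := by rw [pow_add]; exact hv2
    rw [← orderOf_dvd_iff_pow_eq_one, hg] at h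
    rcases (show i = 0 ∨ i = 4 by omega) with rfl | rfl
    · exact Or.inl (pow_zero g)
    · exact Or.inr hgz
  have hzM : z ∈ M := hgz ▸ pow_mem (Subgroup.mem_zpowers g) 4
  have hzfix : ∀ h : G, h⁻¹ * z * h ∈ M → h ∈ T := by
    intro h hh
    rcases huniq _ hh (by
      rw [show h⁻¹ * z * h * (h⁻¹ * z * h) = h⁻¹ * (z * z) * h by group, mul_self_of_orderOf_two hz]
      group) with e | e
    · exact absurd (by
        calc z = h * (h⁻¹ * z * h) * h⁻¹ := by group
          _ = 1 := by rw [e]; group) hz1
    · rw [hcentT]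
      calc h * z = h * (h⁻¹ * z * h) := by rw [e]
        _ = z * h := by group
  have hwfix : ∀ h : G, h⁻¹ * w * h ∉ M := by
    intro h hh
    have hhT : h ∈ T := hzfix h (by
      rw [← hw2, show h⁻¹ * (w * w) * h = (h⁻¹ * w * h) * (h⁻¹ * w * h) by group]
      exact mul_mem hh hh)
    have := (Subgroup.normal_of_index_eq_two hidx).conj_mem ⟨_, hMT hh⟩ hh ⟨h, hhT⟩
    refine hw ?_
    have h' : h * (h⁻¹ * w * h) * h⁻¹ ∈ M := this
    simpa [mul_assoc] using h'
  haveI : IsMulCommutative M := inferInstance
  let _ : CommGroup M := { (inferInstance : Group M) with mul_comm := fun a b => mul_comm' a b }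
  haveI : M.FiniteIndex := inferInstance
  haveI := Fintype.ofFinite (Quotient (MulAction.orbitRel (Subgroup.zpowers w) (G ⧸ M)))
  have hval : (MonoidHom.transfer (MonoidHom.id M) w : M) = ⟨z, hzM⟩ := by
    rw [MonoidHom.transfer_eq_prod_quotient_orbitRel_zpowers_quot]
    -- the orbit of the trivial coset
    set q₀ : Quotient (MulAction.orbitRel (Subgroup.zpowers w) (G ⧸ M)) :=
      Quotient.mk'' ((1 : G) : G ⧸ M) with hq₀
    have hmem : ∀ q : Quotient (MulAction.orbitRel (Subgroup.zpowers w) (G ⧸ M)),
        q.out.out⁻¹ * w ^ Function.minimalPeriod (w • ·) q.out * q.out.out ∈ M :=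
      fun q => QuotientGroup.out_conj_pow_minimalPeriod_mem M w q.out
    have hw4 : w ^ 4 = 1 := by
      rw [show (4 : ℕ) = 2 * 2 from rfl, pow_mul, pow_two w, hw2, pow_two, mul_self_of_orderOf_two hz]
    have hper : ∀ c : G ⧸ M, Function.minimalPeriod (w • ·) c ∣ 4 := by
      intro c
      refine Function.IsPeriodicPt.minimalPeriod_dvd ?_
      show (w • ·)^[4] c = c
      rw [smul_iterate]
      show w ^ 4 • c = c
      rw [hw4, one_smul]
    have hne1 : ∀ c : G ⧸ M, Function.minimalPeriod (w • ·) c ≠ 1 := by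
      intro c h
      rw [Function.minimalPeriod_eq_one_iff_isFixedPt] at h
      induction c using QuotientGroup.induction_on with
      | H x =>
        have h' : ((w * x : G) : G ⧸ M) = (x : G ⧸ M) := h
        rw [eq_comm, QuotientGroup.eq, ← mul_assoc] at h'
        exact hwfix x h'
    -- the `z`-fixed cosets form one orbit
    have hfix2 : ∀ c : G ⧸ M, Function.minimalPeriod (w • ·) c = 2 →
        (Quotient.mk'' c : Quotient (MulAction.orbitRel (Subgroup.zpowers w) (G ⧸ M))) = q₀ := by
      intro c hc
      have hzc : z • c = c := by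
        have := Function.isPeriodicPt_minimalPeriod (w • ·) c
        rw [hc] at this
        rw [← hw2, mul_smul]; exact this
      induction c using QuotientGroup.induction_on with
      | H x =>
        have h' : ((z * x : G) : G ⧸ M) = (x : G ⧸ M) := hzc
        rw [eq_comm, QuotientGroup.eq, ← mul_assoc] at h'
        have hxT := hzfix x h'
        rw [hq₀, Quotient.eq'']
        refine MulAction.orbitRel_apply.2 ?_
        by_cases hxM : x ∈ M
        · refine ⟨1, ?_⟩
          show ((1 * 1 : G) : G ⧸ M) = (x : G ⧸ M)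
          rw [QuotientGroup.eq]; simpa using hxM
        · refine ⟨⟨w, Subgroup.mem_zpowers w⟩, ?_⟩
          show ((w * 1 : G) : G ⧸ M) = (x : G ⧸ M)
          rw [QuotientGroup.eq, mul_one]
          exact ((Subgroup.mul_mem_iff_of_index_two hidx (a := (⟨w, hwT⟩ : T)⁻¹) (b := ⟨x, hxT⟩)).2
            (iff_of_false (fun h => hw (inv_mem_iff.1 (show w⁻¹ ∈ M from h))) hxM) : _)
    have hq₀per : Function.minimalPeriod (w • ·) q₀.out = 2 := by
      have hz0 : z • q₀.out = q₀.out := by
        have hr : (MulAction.orbitRel (Subgroup.zpowers w) (G ⧸ M)).r q₀.out ((1 : G) : G ⧸ M) :=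
          Quotient.eq''.1 (Quotient.out_eq' q₀)
        obtain ⟨⟨v, hv⟩, hve⟩ := MulAction.orbitRel_apply.1 hr
        rw [← hve]
        show z • ((v * 1 : G) : G ⧸ M) = ((v * 1 : G) : G ⧸ M)
        show ((z * (v * 1) : G) : G ⧸ M) = _
        rw [eq_comm, QuotientGroup.eq, mul_one]
        have hvT : v ∈ T := (Subgroup.zpowers_le.2 hwT) hv
        rw [← (hcentT v).1 hvT, inv_mul_cancel_left]
        exact hzM
      have hdvd2 : Function.minimalPeriod (w • ·) q₀.out ∣ 2 := by
        refine Function.IsPeriodicPt.minimalPeriod_dvd ?_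
        show (w • ·)^[2] q₀.out = q₀.out
        rw [smul_iterate]
        show w ^ 2 • q₀.out = q₀.out
        rw [pow_two, hw2]; exact hz0
      exact ((Nat.dvd_prime Nat.prime_two).1 hdvd2).resolve_left (hne1 _)
    rw [Finset.prod_eq_single q₀]
    · refine Subtype.ext ?_
      show q₀.out.out⁻¹ * w ^ Function.minimalPeriod (w • ·) q₀.out * q₀.out.out = z
      have hm := hmem q₀
      rw [hq₀per, pow_two, hw2] at hm ⊢
      rcases huniq _ hm (by
        rw [show ∀ a b : G, a⁻¹ * b * a * (a⁻¹ * b * a) = a⁻¹ * (b * b) * a from fun a b => by group,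
          mul_self_of_orderOf_two hz]
        group) with e | e
      · exact absurd (by
          calc z = q₀.out.out * (q₀.out.out⁻¹ * z * q₀.out.out) * q₀.out.out⁻¹ := by group
            _ = 1 := by rw [e]; group) hz1
      · exact e
    · intro q _ hq
      refine Subtype.ext ?_
      show q.out.out⁻¹ * w ^ Function.minimalPeriod (w • ·) q.out * q.out.out = 1
      have h4 := mem_divisors_of_dvd (hper q.out) (by norm_num)
      rw [show Nat.divisors 4 = {1, 2, 4} by decide] at h4
      simp only [Finset.mem_insert, Finset.mem_singleton] at h4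
      rcases h4 with e | e | e
      · exact absurd e (hne1 _)
      · exact absurd ((Quotient.out_eq' q).symm.trans (hfix2 _ e)) hq
      · rw [e, hw4]; group
    · intro h; exact absurd (Finset.mem_univ _) h
  refine hG (isMulCommutative_of_hom_ne_one (MonoidHom.transfer (MonoidHom.id M)) fun h => hz1 ?_)
  rw [h, MonoidHom.one_apply] at hval
  exact (congrArg Subtype.val hval).symm

end CfsgLib.Classification.SmallOrders
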